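import Groth.Agent.DRingKP.Modules
import Mathlib.RingTheory.Noetherian.Basic

/-!
Pseudo-coherence over Noetherian and coherent rings; perfectness from cohomology.
-/

set_option autoImplicit false
set_option linter.style.haveILetI false
universe u

namespace Groth.Agent.DRingKP

open CategoryTheory Limits DerivedCategory Pretriangulated

attribute [local instance] HasDerivedCategory.standard

variable {A : Type u} [CommRing A]

local notation "HH" => DerivedCategory.homologyFunctor (ModuleCat _)

/-- `A` is coherent -/
def IsCoh (A : Type u) [CommRing A] : Prop := ∀ I : Ideal A, I.FG → Module.FinitePresentation A I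

lemma isCoh_of_noetherian [IsNoetherianRing A] : IsCoh A := fun I _ =>
  Module.finitePresentation_of_finite A I

/-- finite submodules of finite free modules over coherent rings are finitely presented -/
lemma fpSub (hA : IsCoh A) : ∀ (r : ℕ) (N : Submodule A (Fin r → A)), N.FG → Module.FinitePresentation A N := by
  intro r
  induction r with
  | zero => intro N _; exact Module.finitePresentation_of_projective A N
  | succ r ih =>
    intro N hN
    let p : N →ₗ[A] A := (LinearMap.proj 0).comp N.subtype
    haveI : Module.Finite A N := Module.Finite.iff_fg.2 hN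
    haveI : Module.FinitePresentation A (LinearMap.range p) :=
      hA _ (LinearMap.range_eq_map p ▸ (Module.finite_def.1 inferInstance).map p)
    have hk : (LinearMap.ker p).FG := by
      rw [← LinearMap.ker_rangeRestrict]
      exact Module.FinitePresentation.fg_ker p.rangeRestrict p.surjective_rangeRestrict
    let q : LinearMap.ker p →ₗ[A] (Fin r → A) :=
      (LinearMap.funLeft A A Fin.succ).comp (N.subtype.comp (LinearMap.ker p).subtype)
    have hq : Function.Injective q := by
      rintro ⟨⟨x, hx⟩, hx0⟩ ⟨⟨y, hy⟩, hy0⟩ h
      refine Subtype.ext (Subtype.ext (funext fun i => ?_))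
      refine Fin.cases ?_ (fun j => congrFun h j) i
      exact (show x 0 = 0 from hx0).trans (show y 0 = 0 from hy0).symm
    haveI : Module.Finite A (LinearMap.ker p) := Module.Finite.iff_fg.2 hk
    haveI := ih _ (Submodule.fg_range q)
    haveI : Module.FinitePresentation A (LinearMap.ker p.rangeRestrict) := by
      rw [LinearMap.ker_rangeRestrict]
      exact Module.FinitePresentation.of_equiv (R := A) (M := LinearMap.range q) (N := LinearMap.ker p)
        (LinearEquiv.ofInjective q hq).symm
    exact Module.finitePresentation_of_ker p.rangeRestrict p.surjective_rangeRestrict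

/-- over a coherent ring finitely presented modules are pseudo-coherent -/
theorem pcModule_of_fp (hA : IsCoh A) :
    ∀ (M : ModuleCat.{u} A), Module.FinitePresentation A M → ∀ m, DRing.IsPseudoCoherentModule A m M := by
  suffices H : ∀ (k : ℕ) (M : ModuleCat.{u} A), Module.FinitePresentation A M →
      DRing.IsPseudoCoherentModule A (-(k : ℤ)) M from
    fun M hM m => pc_mono (by lia) (H (-m).toNat M hM)
  intro k
  induction k with
  | zero => intro M hM; exact (pcModule_zero_iff M).2 inferInstance
  | succ k ih =>
    intro M hM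
    obtain ⟨r, p, hp⟩ := Module.Finite.exists_fin' A M
    have hker := fpSub hA r _ (Module.FinitePresentation.fg_ker p hp)
    let f : ModuleCat.of A (Fin r → A) ⟶ M := ModuleCat.ofHom p
    let S : ShortComplex (ModuleCat.{u} A) := ShortComplex.mk
      (ModuleCat.ofHom (LinearMap.ker p).subtype) f (by ext ⟨x, hx⟩; exact hx)
    have hS : S.ShortExact :=
      { exact := (ShortComplex.moduleCat_exact_iff_range_eq_ker _).2 (Submodule.range_subtype _)
        mono_f := (ModuleCat.mono_iff_injective _).2 (LinearMap.ker p).injective_subtype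
        epi_g := (ModuleCat.epi_iff_surjective _).2 hp }
    refine pcModule_quotient hS _ ?_ (pcModule_of_free (ModuleCat.of A (Fin r → A)) _)
    rw [show -((k + 1 : ℕ) : ℤ) + 1 = -(k : ℤ) by lia]
    exact ih (ModuleCat.of A (LinearMap.ker p)) hker

lemma pc_finite_fp (hA : IsCoh A) {m : ℤ} {K : Dual.D A} (h : DRing.IsPseudoCoherent A m K) :
    Module.Finite A ((HH m).obj K) ∧
      ∀ i, m < i → Module.FinitePresentation A ((DerivedCategory.homologyFunctor (ModuleCat.{u} A) i).obj K) := by
  obtain ⟨n, hn⟩ := pc_bounded h
  suffices H : ∀ (d : ℕ) (K : Dual.D A), DRing.IsPseudoCoherent A m K → IsAbove (m + 1 + d) K →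
      Module.Finite A ((DerivedCategory.homologyFunctor (ModuleCat.{u} A) m).obj K) ∧
      ∀ i, m < i → Module.FinitePresentation A ((DerivedCategory.homologyFunctor (ModuleCat.{u} A) i).obj K) from
    H (n - (m + 1)).toNat K h (isAbove_mono (by lia) hn)
  intro d
  induction d with
  | zero =>
    intro K hK hK'
    refine ⟨finite_top hK (by simpa using hK'), fun i hi => ?_⟩
    haveI : Subsingleton ((DerivedCategory.homologyFunctor (ModuleCat.{u} A) i).obj K) :=
      ModuleCat.subsingleton_of_isZero (hK' i (by lia))
    exact Module.finitePresentation_of_projective A _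
  | succ d ih =>
    intro K hK hK'
    obtain ⟨X, B, f, g, k, hT, hX, hlt, ⟨e⟩⟩ :=
      exists_top_triangle K (m + 1 + d) (isAbove_mono (by lia) hK')
    have htop := finitePresentation_top (pc_mono (show m ≤ m + d by lia) hK) (isAbove_mono (by lia) hK')
    rw [show m + (d : ℤ) + 1 = m + 1 + d by lia] at htop
    have hB : DRing.IsPseudoCoherent A (m - 1) B :=
      pc_of_iso e.symm ((pc_single_iff _ _ _).2 (pcModule_of_fp hA _ htop _))
    have hXpc : DRing.IsPseudoCoherent A m X := by
      have := pc_obj₁ _ hT (m - 1) (by rw [sub_add_cancel]; exact hK) hB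
      rwa [sub_add_cancel] at this
    obtain ⟨h1, h2⟩ := ih X hXpc hX
    refine ⟨?_, fun i hi => ?_⟩
    · exact Module.Finite.equiv (hlt m (by lia)).some.toLinearEquiv
    · rcases lt_trichotomy i (m + 1 + d) with hi' | rfl | hi'
      · haveI := h2 i hi
        exact Module.FinitePresentation.of_equiv (hlt i hi').some.toLinearEquiv
      · exact htop
      · haveI : Subsingleton ((DerivedCategory.homologyFunctor (ModuleCat.{u} A) i).obj K) :=
          ModuleCat.subsingleton_of_isZero (hK' i (by lia))
        exact Module.finitePresentation_of_projective A _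

theorem pc_iff_coherent (hA : IsCoh A) {m : ℤ} {K : Dual.D A} (hb : ∃ n, IsAbove n K) :
    DRing.IsPseudoCoherent A m K ↔ Module.Finite A (Dual.HD A K m) ∧
      ∀ i, m < i → Module.FinitePresentation A (Dual.HD A K i) := by
  refine ⟨pc_finite_fp hA, fun h => pc_of_homology m K hb fun i hi => ?_⟩
  obtain rfl | hi := hi.eq_or_lt
  · rw [sub_self]
    exact (pcModule_zero_iff _).2 h.1
  · exact pcModule_of_fp hA _ (h.2 i hi) _

theorem pc'_iff_coherent (hA : IsCoh A) {K : Dual.D A} (hb : ∃ n, IsAbove n K) :
    DRing.IsPseudoCoherent' A K ↔ ∀ i, Module.FinitePresentation A (Dual.HD A K i) := by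
  refine ⟨fun h i => (pc_finite_fp hA (pc_of_pc' h (i - 1))).2 i (by lia),
    fun h => pc'_of_forall fun m => pc_of_homology m K hb fun i _ => pcModule_of_fp hA _ (h i) _⟩

/-- perfectness from perfect cohomology -/
theorem isPerfect_of_homology (K : Dual.D A) (a b : ℤ)
    (hz : ∀ i, (i < a ∨ b < i) → IsZero ((HH i).obj K))
    (h : ∀ i, DRing.IsPerfectModule A ((DerivedCategory.homologyFunctor (ModuleCat.{u} A) i).obj K)) :
    DRing.IsPerfect A K := by
  suffices H : ∀ (d : ℕ) (b : ℤ) (K : Dual.D A), b < a + d →
      (∀ i, (i < a ∨ b < i) → IsZero ((DerivedCategory.homologyFunctor (ModuleCat.{u} A) i).obj K)) →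
      (∀ i, DRing.IsPerfectModule A ((DerivedCategory.homologyFunctor (ModuleCat.{u} A) i).obj K)) →
      DRing.IsPerfect A K from H (b + 1 - a).toNat b K (by lia) hz h
  intro d
  induction d with
  | zero =>
    intro b K hb hz _
    have : K.IsLE (a - 1) := (DerivedCategory.isLE_iff K (a - 1)).2 fun i _ => hz i (by lia)
    have : K.IsGE a := (DerivedCategory.isGE_iff K a).2 fun i hi => hz i (Or.inl hi)
    exact PerfLocal.isPerfect_of_isZero
      (DerivedCategory.TStructure.t.isZero K (a - 1) a (by lia))
  | succ d ih =>
    intro b K hb hz h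
    obtain ⟨X, B, f, g, k, hT, hX, hlt, ⟨e⟩⟩ :=
      exists_top_triangle K b fun i hi => hz i (Or.inr (by lia))
    refine PerfLocal.isPerfect_obj₂ _ hT (ih (b - 1) X (by lia) (fun i hi => ?_) fun i => ?_)
      (PerfLocal.isPerfect_of_iso (singleShiftIso _ b ≪≫ e.symm) (PerfLocal.isPerfect_shift (h b) (-b)))
    · by_cases hi' : i < b
      · exact (hz i (by lia)).of_iso (hlt i hi').some
      · exact hX i (by lia)
    · by_cases hi' : i < b
      · exact PerfLocal.isPerfect_of_iso
          ((DerivedCategory.singleFunctor (ModuleCat.{u} A) 0).mapIso (hlt i hi').some).symm (h i)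
      · exact PerfLocal.isPerfect_of_isZero
          ((DerivedCategory.singleFunctor (ModuleCat.{u} A) 0).map_isZero
            (hX i (by lia)))

end Groth.Agent.DRingKP
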