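import Groth.Prelude.Def_DRing2
import Groth.Agent.KFlat.FreeSystem
import Groth.Agent.KFlat.LeftDerived
import Mathlib.Algebra.Homology.DerivedCategory.KProjective
import Mathlib.Algebra.Homology.HomotopyCategory.HomComplexCohomology
import Mathlib.Algebra.Category.ModuleCat.Projective
import Mathlib.CategoryTheory.Functor.OfSequence
import Mathlib.Algebra.Category.ModuleCat.AB

/-!
K-projective resolutions of arbitrary complexes of modules.
-/

set_option autoImplicit false
set_option linter.style.haveILetI false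
universe u v w

namespace Groth.Agent.DRingKP

open CategoryTheory Limits CochainComplex CochainComplex.HomComplex

section Generic

variable {C : Type u} [Category.{v} C] [Abelian C]

lemma acyclic_shift {L : CochainComplex C ℤ} (hL : L.Acyclic) (n : ℤ) :
    (L⟦n⟧).Acyclic := by
  rw [← HomotopyCategory.quotient_obj_mem_subcategoryAcyclic_iff_acyclic] at hL ⊢
  exact ObjectProperty.prop_of_iso _ (((HomotopyCategory.quotient C (.up ℤ)).commShiftIso n).symm.app L)
    ((HomotopyCategory.subcategoryAcyclic C).le_shift n _ hL)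

/-- cocycles from a K-projective complex to an acyclic complex are coboundaries -/
lemma exists_δ_eq {K L : CochainComplex C ℤ} [K.IsKProjective] (hL : L.Acyclic) (n m p : ℤ)
    (hm : m + 1 = n) (hp : n + 1 = p) (z : Cochain K L n) (hz : δ n p z = 0) :
    ∃ w : Cochain K L m, δ m n w = z := by
  obtain ⟨w, hw⟩ := (mem_coboundaries_iff (Cocycle.mk z p hp hz) m hm).1
    ((CohomologyClass.toHom_mk_eq_zero_iff (Cocycle.mk z p hp hz)).1
      (IsKProjective.leftOrthogonal K _
        ((HomotopyCategory.quotient_obj_mem_subcategoryAcyclic_iff_acyclic _).2 (acyclic_shift hL n))))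
  exact ⟨w, hw⟩

variable [HasColimitsOfShape ℕ C]

/-- colimits of termwise split sequences of K-projective complexes are K-projective -/
theorem isKProjective_colimit (Kc : ℕ ⥤ CochainComplex C ℤ) [∀ n, (Kc.obj n).IsKProjective]
    (hr : ∀ (n : ℕ) (i : ℤ), ∃ r : (Kc.obj (n + 1)).X i ⟶ (Kc.obj n).X i,
      (Kc.map (homOfLE (Nat.le_succ n))).f i ≫ r = 𝟙 _) :
    (colimit Kc).IsKProjective where
  nonempty_homotopy_zero {L} f hL := by
    choose r hr using hr
    let j : ∀ n : ℕ, Kc.obj n ⟶ Kc.obj (n + 1) := fun n => Kc.map (homOfLE (Nat.le_succ n))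
    have hj : ∀ n, j n ≫ colimit.ι Kc (n + 1) ≫ f = colimit.ι Kc n ≫ f := fun n => by
      rw [← Category.assoc]; exact congrArg (· ≫ f) (colimit.w Kc _)
    let good : ∀ n, Cochain (Kc.obj n) L (-1) → Prop := fun n z =>
      δ (-1) 0 z = Cochain.ofHom (colimit.ι Kc n ≫ f)
    have h₀ : ∀ n, ∃ z, good n z := fun n => by
      obtain ⟨z, hz⟩ := Cochain.equivHomotopy _ _ (IsKProjective.homotopyZero (colimit.ι Kc n ≫ f) hL)
      exact ⟨z, by simpa [good, eq_comm] using hz⟩
    have step : ∀ n (z : Cochain (Kc.obj n) L (-1)), good n z → ∃ z' : Cochain (Kc.obj (n + 1)) L (-1),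
        good (n + 1) z' ∧ (Cochain.ofHom (j n)).comp z' (zero_add _) = z := by
      intro n z hz
      obtain ⟨z₀, hz₀⟩ := h₀ (n + 1)
      obtain ⟨w, hw⟩ := exists_δ_eq hL (-1) (-2) 0 (by lia) (by lia)
        (z - (Cochain.ofHom (j n)).comp z₀ (zero_add _)) (by
          rw [δ_sub, δ_ofHom_comp, hz, hz₀, ← Cochain.ofHom_comp, hj, sub_self])
      let w' : Cochain (Kc.obj (n + 1)) L (-2) := Cochain.mk fun p q h => r n p ≫ w.v p q h
      have hw' : (Cochain.ofHom (j n)).comp w' (zero_add _) = w := by
        ext p q h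
        rw [Cochain.zero_cochain_comp_v, Cochain.ofHom_v, Cochain.mk_v, ← Category.assoc, hr,
          Category.id_comp]
      refine ⟨z₀ + δ (-2) (-1) w', ?_, ?_⟩
      · simp only [good, δ_add, δ_δ, add_zero]
        exact hz₀
      · rw [Cochain.comp_add, ← δ_ofHom_comp, hw', hw, add_sub_cancel]
    let S : ∀ n, {z : Cochain (Kc.obj n) L (-1) // good n z} := fun n => Nat.rec
      ⟨(h₀ 0).choose, (h₀ 0).choose_spec⟩
      (fun n z => ⟨(step n z.1 z.2).choose, (step n z.1 z.2).choose_spec.1⟩) n
    have hS : ∀ n, (Cochain.ofHom (j n)).comp (S (n + 1)).1 (zero_add _) = (S n).1 :=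
      fun n => (step n (S n).1 (S n).2).choose_spec.2
    let c : ∀ p q : ℤ, p + (-1) = q → Cocone (Kc ⋙ HomologicalComplex.eval C (.up ℤ) p) := fun p q h =>
      { pt := L.X q
        ι := NatTrans.ofSequence (fun n => (S n).1.v p q h) fun n => by
          have := Cochain.congr_v (hS n) p q h
          simp [j] at this ⊢
          exact this }
    let hc := fun p => isColimitOfPreserves (HomologicalComplex.eval C (.up ℤ) p) (colimit.isColimit Kc)
    let H : Cochain (colimit Kc) L (-1) := Cochain.mk fun p q h => (hc p).desc (c p q h)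
    have hH : ∀ n, (Cochain.ofHom (colimit.ι Kc n)).comp H (zero_add _) = (S n).1 := fun n => by
      ext p q h
      rw [Cochain.zero_cochain_comp_v, Cochain.ofHom_v, Cochain.mk_v]
      exact (hc p).fac (c p q h) n
    refine ⟨(Cochain.equivHomotopy _ _).symm ⟨H, ?_⟩⟩
    rw [Cochain.ofHom_zero, add_zero]
    ext p
    refine (hc p).hom_ext fun n => ?_
    have := Cochain.congr_v (((δ_ofHom_comp (colimit.ι Kc n) H 0).symm.trans
      (congrArg (δ (-1) 0) (hH n))).trans (S n).2) p p (add_zero p)
    simp only [Cochain.zero_cochain_comp_v, Cochain.ofHom_v, HomologicalComplex.comp_f] at this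
    simp at this ⊢
    exact this.symm

end Generic

variable (A : Type u) [CommRing A]

/-- the free module of rank one, as a one-element family -/
abbrev unitFam : PUnit.{u + 1} → ModuleCat.{u} A := fun _ => ModuleCat.of A A

instance projective_unit : Projective (ModuleCat.of A A) :=
  (IsProjective.iff_projective (ModuleCat.of A A)).1 inferInstance

lemma exists_cover (M : ModuleCat.{u} A) :
    ∃ (P : ModuleCat.{u} A) (p : P ⟶ M), Epi p ∧ KFlat.IsSum (unitFam A) P := by
  refine ⟨∐ fun _ : M => ModuleCat.of A A,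
    Sigma.desc fun m => ModuleCat.ofHom (LinearMap.toSpanSingleton A M m), ?_,
    M, fun _ => PUnit.unit, ⟨Iso.refl _⟩⟩
  rw [ModuleCat.epi_iff_surjective]
  intro m
  refine ⟨(Sigma.ι (fun _ : M => ModuleCat.of A A) m).hom (1 : A), ?_⟩
  rw [← LinearMap.comp_apply, ← ModuleCat.hom_comp, Sigma.ι_desc, ModuleCat.hom_ofHom,
    LinearMap.toSpanSingleton_apply, one_smul]

variable {A}

lemma projective_of_isSum {X : ModuleCat.{u} A} (h : KFlat.IsSum (unitFam A) X) : Projective X := by
  obtain ⟨I, U, ⟨e⟩⟩ := h
  exact Projective.of_iso e.symm inferInstance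

instance hasExactColimits_nat : HasExactColimitsOfShape ℕ (ModuleCat.{u} A) :=
  HasExactColimitsOfShape.of_domain_equivalence (C := ModuleCat.{u} A) (AsSmall.equiv (C := ℕ)).symm

/-- every complex of modules has a K-projective resolution with projective terms -/
theorem exists_kProj_resolution (G : DRing.Cx A) :
    ∃ (P : DRing.Cx A) (c : P ⟶ G), P.IsKProjective ∧ QuasiIso c := by
  obtain ⟨Kc, π, -, -, hb, hs, hr, c, -, hc⟩ := KFlat.exists_trunc_system G (exists_cover A)
  haveI : ∀ n, (Kc.obj n).IsKProjective := fun n => by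
    obtain ⟨b, hb⟩ := hb n
    haveI := fun i => projective_of_isSum (hs n i)
    exact CochainComplex.isKProjective_of_projective _ b
  exact ⟨colimit Kc, c, isKProjective_colimit Kc fun n i => ⟨(hr n i).choose, (hr n i).choose_spec.1⟩, hc⟩

end Groth.Agent.DRingKP
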