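import Groth.Agent.KFlat.Exact
import Groth.Agent.KFlat.Resolution
import Groth.Agent.KFlat.Bounded
import Groth.Agent.DRingKP.KProj
import Mathlib.RingTheory.Flat.CategoryTheory
import Mathlib.Algebra.Homology.Monoidal
import Mathlib.Algebra.Category.ModuleCat.Monoidal.Closed

/-!
K-flat complexes of modules over a ring, through the generic bifunctor theory.
-/

set_option autoImplicit false
set_option linter.style.haveILetI false
universe u

namespace Groth.Agent.DRingKP

open CategoryTheory Limits MonoidalCategory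

variable (R : Type u) [CommRing R]

/-- the tensor bifunctor -/
noncomputable abbrev tB : ModuleCat.{u} R ⥤ ModuleCat.{u} R ⥤ ModuleCat.{u} R :=
  curriedTensor (ModuleCat.{u} R)

/-- symmetry -/
noncomputable def tBraid : tB R ≅ (tB R).flip :=
  NatIso.ofComponents (fun F => NatIso.ofComponents (fun G => BraidedCategory.braiding F G)
    fun {G G'} g => BraidedCategory.braiding_naturality_right F g)
    fun {F F'} f => by ext G : 2; exact BraidedCategory.braiding_naturality_left f G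

instance hasExactColimits_discrete (I : Type) :
    HasExactColimitsOfShape (Discrete I) (ModuleCat.{u} R) :=
  HasExactColimitsOfShape.of_domain_equivalence (C := ModuleCat.{u} R)
    (Discrete.equivalence Equiv.ulift.{u})

lemma preservesColimits_tB (F : ModuleCat.{u} R) : PreservesColimitsOfSize.{u, u} ((tB R).obj F) :=
  (ihom.adjunction F).leftAdjoint_preservesColimits

lemma preservesNat_tB (F : ModuleCat.{u} R) : PreservesColimitsOfShape ℕ ((tB R).obj F) :=
  have := preservesColimits_tB R F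
  have : PreservesColimitsOfSize.{0, 0} ((tB R).obj F) := preservesSmallestColimits_of_preservesColimits _
  inferInstance

lemma preservesDiscrete_tB (F : ModuleCat.{u} R) : PreservesColimitsOfShape (Discrete ℤ) ((tB R).obj F) :=
  have := preservesColimits_tB R F
  have : PreservesColimitsOfSize.{0, 0} ((tB R).obj F) := preservesSmallestColimits_of_preservesColimits _
  inferInstance

lemma preservesFinite_tB (F : ModuleCat.{u} R) : PreservesFiniteColimits ((tB R).obj F) :=
  have := preservesColimits_tB R F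
  have : PreservesColimitsOfSize.{0, 0} ((tB R).obj F) := preservesSmallestColimits_of_preservesColimits _
  inferInstance

lemma flatObj_iff (F : ModuleCat.{u} R) : KFlat.FlatObj (tB R) F ↔ Module.Flat R F := by
  constructor
  · intro h
    exact (Module.Flat.iff_rTensor_preserves_shortComplex_exact F).2 h
  · intro h S hS
    exact (Module.Flat.iff_rTensor_preserves_shortComplex_exact F).1 h S hS

/-- the free cover -/
noncomputable def cov (M : ModuleCat.{u} R) : ModuleCat.{u} R := ModuleCat.of R (M →₀ R)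

/-- its map -/
noncomputable def covπ (M : ModuleCat.{u} R) : cov R M ⟶ M :=
  ModuleCat.ofHom (Finsupp.linearCombination R (id : M → M))

instance (M : ModuleCat.{u} R) : Epi (covπ R M) :=
  (ModuleCat.epi_iff_surjective _).2 (Finsupp.linearCombination_surjective R Function.surjective_id)

lemma flat_cov (M : ModuleCat.{u} R) : KFlat.FlatObj (tB R) (cov R M) :=
  (flatObj_iff R _).2 (inferInstanceAs (Module.Flat R (M →₀ R)))

variable {R}

/-- the K-flatness predicate of the statements -/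
def IsKFlat (K : DRing.Cx R) : Prop :=
  ∀ L : DRing.Cx R, (∀ i : ℤ, IsZero (L.homology i)) → ∀ i : ℤ, IsZero ((L ⊗ K).homology i)

lemma rflat_iff (K : DRing.Cx R) : KFlat.RFlat (tB R) K ↔ IsKFlat K :=
  ⟨fun h L hL => KFlat.acyclic_iff_isZero.1 (h L (KFlat.acyclic_iff_isZero.2 hL)),
   fun h L hL => KFlat.acyclic_iff_isZero.2 (h L (KFlat.acyclic_iff_isZero.1 hL))⟩

lemma flatObj_of_termwiseFlat {K : DRing.Cx R} (h : DRing.TermwiseFlat K) (n : ℤ) :
    KFlat.FlatObj (tB R) (K.X n) := (flatObj_iff R _).2 (h n)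

lemma isKFlat_of_bounded {P : DRing.Cx R} {b : ℤ} (hb : DRing.VanishesAbove P b)
    (hP : DRing.TermwiseFlat P) : IsKFlat P :=
  (rflat_iff P).1 (KFlat.rflat_of_bounded_above (tB R) (preservesNat_tB R) b hb (flatObj_of_termwiseFlat hP))

theorem exists_kFlat_resolution (M : DRing.Cx R) :
    ∃ (K : DRing.Cx R) (f : K ⟶ M), IsKFlat K ∧ DRing.TermwiseFlat K ∧ QuasiIso f ∧
      ∀ i : ℤ, Function.Surjective (f.f i) := by
  obtain ⟨K, q, h1, h2, h3, h4⟩ := KFlat.exists_resolution (tB R) M (π := covπ R) (flat_cov R)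
    (preservesNat_tB R) (preservesDiscrete_tB R)
  exact ⟨K, q, (rflat_iff K).1 h1, fun n => (flatObj_iff R _).1 (h2 n), h3,
    fun i => (ModuleCat.epi_iff_surjective (q.f i)).1 (h4 i)⟩

theorem exists_kFlat_factorization {K L : DRing.Cx R} (a : K ⟶ L) (hK : IsKFlat K) :
    ∃ (N : DRing.Cx R) (b : K ⟶ N) (c : N ⟶ L), IsKFlat N ∧ QuasiIso c ∧ b ≫ c = a ∧
      (DRing.TermwiseFlat K → DRing.TermwiseFlat N) := by
  obtain ⟨N, b, c, h1, h2, h3, h4⟩ := KFlat.exists_factorization (tB R) L (π := covπ R) (flat_cov R)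
    (preservesNat_tB R) (preservesDiscrete_tB R) a ((rflat_iff K).2 hK)
  exact ⟨N, b, c, (rflat_iff N).1 h1, h2, h3,
    fun h n => (flatObj_iff R _).1 (h4 (flatObj_of_termwiseFlat h) n)⟩

theorem kFlat_two_out_of_three {S : ShortComplex (DRing.Cx R)} (hS : S.ShortExact)
    (h3 : DRing.TermwiseFlat S.X₃) :
    (IsKFlat S.X₁ → IsKFlat S.X₂ → IsKFlat S.X₃) ∧ (IsKFlat S.X₁ → IsKFlat S.X₃ → IsKFlat S.X₂) ∧
      (IsKFlat S.X₂ → IsKFlat S.X₃ → IsKFlat S.X₁) := by
  simp only [← rflat_iff]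
  exact KFlat.rflat_two_out_of_three (tBraid R) (preservesFinite_tB R)
    (fun M => ⟨cov R M, covπ R M, inferInstance, flat_cov R M⟩) hS (flatObj_of_termwiseFlat h3)

theorem quasiIso_whiskerRight {K : DRing.Cx R} (hK : IsKFlat K) {L₁ L₂ : DRing.Cx R} (f : L₁ ⟶ L₂)
    [QuasiIso f] : QuasiIso (f ▷ K) :=
  ((rflat_iff K).2 hK).quasiIso_map_app f

theorem quasiIso_whiskerLeft {P Q : DRing.Cx R} (α : P ⟶ Q) (hP : IsKFlat P) (hQ : IsKFlat Q)
    [QuasiIso α] (L : DRing.Cx R) : QuasiIso (L ◁ α) := by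
  refine KFlat.quasiIso_obj_map_of_rflat (tBraid R) (fun F => ?_) α ((rflat_iff P).2 hP)
    ((rflat_iff Q).2 hQ) L
  obtain ⟨K, q, h1, -, h3, -⟩ := exists_kFlat_resolution F
  exact ⟨K, q, (rflat_iff K).2 h1, h3⟩

end Groth.Agent.DRingKP

namespace Groth.Agent.DRingKP

open CategoryTheory Limits MonoidalCategory Pretriangulated

variable {R : Type u} [CommRing R]

theorem kFlat_colimit {J : Type u} [SmallCategory J] [IsFiltered J] (F : J ⥤ DRing.Cx R)
    (hF : ∀ j, IsKFlat (F.obj j)) : IsKFlat (colimit F) :=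
  (rflat_iff _).1 (KFlat.rflat_of_isColimit
    (fun X => (preservesColimits_tB R X).preservesColimitsOfShape) (colimit.isColimit F)
    fun j => (rflat_iff _).2 (hF j))

lemma rflat_of_iso_K {K L : DRing.Cx R}
    (e : (HomotopyCategory.quotient (ModuleCat.{u} R) (ComplexShape.up ℤ)).obj K ≅
      (HomotopyCategory.quotient (ModuleCat.{u} R) (ComplexShape.up ℤ)).obj L)
    (h : KFlat.RFlat (tB R) K) : KFlat.RFlat (tB R) L :=
  KFlat.rflat_of_homotopyEquiv (HomotopyCategory.homotopyEquivOfIso e) h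

theorem kFlat_triangle
    (T : Triangle (HomotopyCategory (ModuleCat.{u} R) (ComplexShape.up ℤ)))
    (hT : T ∈ distinguishedTriangles) :
    (IsKFlat T.obj₁.as → IsKFlat T.obj₂.as → IsKFlat T.obj₃.as) ∧
      (IsKFlat T.obj₁.as → IsKFlat T.obj₃.as → IsKFlat T.obj₂.as) ∧
      (IsKFlat T.obj₂.as → IsKFlat T.obj₃.as → IsKFlat T.obj₁.as) := by
  obtain ⟨X, Y, φ, ⟨e⟩⟩ := hT
  let e₁ := Triangle.π₁.mapIso e
  let e₂ := Triangle.π₂.mapIso e
  let e₃ := Triangle.π₃.mapIso e
  simp only [← rflat_iff]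
  refine ⟨fun h₁ h₂ => ?_, fun h₁ h₃ => ?_, fun h₂ h₃ => ?_⟩
  · exact rflat_of_iso_K (L := T.obj₃.as) e₃.symm
      (KFlat.rflat_mappingCone φ (rflat_of_iso_K (K := T.obj₁.as) (L := X) e₁ h₁)
        (rflat_of_iso_K (K := T.obj₂.as) (L := Y) e₂ h₂))
  · refine rflat_of_iso_K (K := Y) (L := T.obj₂.as) e₂.symm ?_
    exact KFlat.rflat₁ (S := KFlat.coneSC φ) (KFlat.coneSplitting φ)
      (rflat_of_iso_K (K := T.obj₃.as) (L := CochainComplex.mappingCone φ) e₃ h₃)
      (KFlat.rflat_shift (rflat_of_iso_K (K := T.obj₁.as) (L := X) e₁ h₁) 1)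
  · refine rflat_of_iso_K (K := X) (L := T.obj₁.as) e₁.symm ?_
    exact KFlat.rflat_of_iso ((shiftEquiv _ (1 : ℤ)).unitIso.app X).symm
      (KFlat.rflat_shift (KFlat.rflat₃ (S := KFlat.coneSC φ) (KFlat.coneSplitting φ)
        (rflat_of_iso_K (K := T.obj₂.as) (L := Y) e₂ h₂)
        (rflat_of_iso_K (K := T.obj₃.as) (L := CochainComplex.mappingCone φ) e₃ h₃)) (-1))

end Groth.Agent.DRingKP
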