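import Groth.Agent.DRingKP.FlatBC
import Mathlib.RingTheory.Flat.EquationalCriterion

/-!
Pseudo-coherence in one degree below the tor amplitude gives perfectness.
-/

set_option autoImplicit false
set_option linter.style.haveILetI false
universe u

namespace Groth.Agent.DRingKP

open CategoryTheory Limits DerivedCategory MonoidalCategory HomologicalComplex

attribute [local instance] HasDerivedCategory.standard

variable {A : Type u} [CommRing A]

lemma torVan_isAbove {a b : ℤ} {K : Dual.D A} (h : DRing.HasTorAmplitudeIn A a b K) :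
    IsAbove (b + 1) K := fun j hj => by
  obtain ⟨E, hE, -, ⟨e⟩⟩ := h
  exact ((ShortComplex.isZero_homology_of_isZero_X₂ _ (hE j (Or.inr (by lia)))).of_iso
    ((homologyFunctorFactors _ j).app E)).of_iso
      ((DerivedCategory.homologyFunctor (ModuleCat.{u} A) j).mapIso e).symm

/-- lowering the upper bound of the tor amplitude -/
theorem amp_shrink {a b b' : ℤ} {K : Dual.D A} (h : DRing.HasTorAmplitudeIn A a b K)
    (hK : IsAbove (b' + 1) K) : DRing.HasTorAmplitudeIn A a b' K := by
  obtain ⟨P, c, hc, hP, ⟨e⟩⟩ := exists_proj_rep_le K ⟨_, hK⟩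
  refine amp_iff_torVan.2 ⟨P, c, hc, flat_of_projective hP, ⟨e⟩, fun M i hi => ?_⟩
  rcases hi with hi | hi
  · exact torVan_rep (torVan_of_amp h) hc (flat_of_projective hP) e M i (Or.inl hi)
  · refine isZero_homology_map (tensorRight M) (b' + 1) c hc hP (fun j hj => ?_) i (by lia)
    exact (isAbove_of_iso e.symm hK j hj).of_iso ((homologyFunctorFactors (ModuleCat.{u} A) j).app P).symm

/-- covering the top cohomology by a finite free module -/
theorem exists_top_cover (K : DRing.Cx A) (n : ℤ) (hz : ∀ j, n < j → IsZero (K.homology j))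
    (hfin : Module.Finite A (K.homology n)) :
    ∃ (P : DRing.Cx A) (f : P ⟶ K), DRing.VanishesOutside P n n ∧ DRing.TermwiseFiniteFree P ∧
      IsAbove n (DRing.toD (CochainComplex.mappingCone f)) := by
  obtain ⟨r, p, hp⟩ := Module.Finite.exists_fin' A (K.homology n)
  let F : ModuleCat.{u} A := ModuleCat.of A (Fin r → A)
  haveI : CategoryTheory.Projective F :=
    (IsProjective.iff_projective (ModuleCat.of A (Fin r → A))).1 inferInstance
  let ε : F ⟶ K.cycles n := Projective.factorThru (ModuleCat.ofHom p) (K.homologyπ n)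
  let P : DRing.Cx A := (HomologicalComplex.single _ (ComplexShape.up ℤ) n).obj F
  let f : P ⟶ K := HomologicalComplex.mkHomFromSingle (ε ≫ K.iCycles n) fun k _ => by simp
  haveI hepi : Epi (HomologicalComplex.homologyMap f n) := by
    haveI : Epi (ModuleCat.ofHom p) := (ModuleCat.epi_iff_surjective _).2 hp
    refine @epi_of_epi_fac _ _ _ _ _ (((HomologicalComplex.singleObjHomologySelfIso _ n F).inv)) _
      (ModuleCat.ofHom p) ‹_› ?_
    have hc : (HomologicalComplex.singleObjCyclesSelfIso (ComplexShape.up ℤ) n F).inv ≫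
        HomologicalComplex.cyclesMap f n = ε := by
      rw [← cancel_mono (K.iCycles n)]
      simp [f, P, HomologicalComplex.mkHomFromSingle_f]
    rw [← HomologicalComplex.singleObjCyclesSelfIso_inv_homologyπ, Category.assoc,
      HomologicalComplex.homologyπ_naturality, reassoc_of% hc]
    exact Projective.factorThru_comp _ _
  refine ⟨P, f, fun j hj => HomologicalComplex.isZero_single_obj_X _ _ _ j (by lia), fun j => ?_,
    (mIso_iff n _ (DerivedCategory.mappingCone_triangle_distinguished f)).1 ⟨fun j hj => ?_, ?_⟩⟩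
  · by_cases hj : j = n
    · subst hj
      let e := (HomologicalComplex.singleObjXSelf (ComplexShape.up ℤ) j F).toLinearEquiv.symm
      exact ⟨Module.Finite.equiv e, Module.Free.of_equiv e⟩
    · exact finiteFree_of_isZero (HomologicalComplex.isZero_single_obj_X _ _ _ j hj)
  · have h1 : IsZero (P.homology j) := ShortComplex.isZero_homology_of_isZero_X₂ _
      (HomologicalComplex.isZero_single_obj_X (ComplexShape.up ℤ) _ _ j (by lia))
    exact ⟨0, (h1.of_iso ((homologyFunctorFactors _ j).app P)).eq_of_src _ _,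
      ((hz j hj).of_iso ((homologyFunctorFactors _ j).app K)).eq_of_src _ _⟩
  · exact (MorphismProperty.epimorphisms _).arrow_mk_iso_iff
      (Arrow.isoMk ((homologyFunctorFactors _ _).app P) ((homologyFunctorFactors _ _).app K)
        ((homologyFunctorFactors _ _).hom.naturality f).symm) |>.2 hepi

theorem pc'_of_amp : ∀ (d : ℕ) (m : ℤ) (K : Dual.D A), DRing.IsPseudoCoherent A (m - 1) K →
    DRing.HasTorAmplitudeIn A m (m + d) K → DRing.IsPseudoCoherent' A K := by
  intro d
  induction d with
  | zero =>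
    intro m K hpc hamp
    obtain ⟨E, hE, hEf, ⟨e⟩⟩ := id hamp
    have hfp := finitePresentation_top hpc (isAbove_mono (by simp; lia) (torVan_isAbove hamp))
    rw [sub_add_cancel] at hfp
    have hd0 : E.d m (m + 1) = 0 := (hE (m + 1) (by simp)).eq_of_tgt _ _
    have hd1 : E.d (m - 1) m = 0 := (hE (m - 1) (by simp)).eq_of_src _ _
    haveI := E.isIso_iCycles m (m + 1) (by simp) hd0
    haveI := E.isIso_homologyπ (m - 1) m (by simp) hd1
    let eX : E.X m ≅ (DerivedCategory.homologyFunctor (ModuleCat.{u} A) m).obj K :=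
      (asIso (E.iCycles m)).symm ≪≫ asIso (E.homologyπ m) ≪≫
        ((homologyFunctorFactors (ModuleCat.{u} A) m).app E).symm ≪≫
        (DerivedCategory.homologyFunctor (ModuleCat.{u} A) m).mapIso e
    haveI : Module.FinitePresentation A (E.X m) :=
      Module.FinitePresentation.of_equiv eX.toLinearEquiv.symm
    haveI := hEf m
    refine pc'_iff_projective.2 ⟨E, m, fun i hi => hE i (Or.inr (by simpa using hi)), fun i => ?_, ⟨e⟩⟩
    by_cases hi : i = m
    · subst hi
      exact ⟨inferInstance, Module.Flat.projective_of_finitePresentation⟩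
    · obtain ⟨h1, h2⟩ := finiteFree_of_isZero (hE i (by simp; lia))
      exact ⟨h1, inferInstance⟩
  | succ d ih =>
    intro m K hpc hamp
    obtain ⟨E, hE, hEf, ⟨e⟩⟩ := id hamp
    have hz : ∀ j, m + (d + 1 : ℕ) < j → IsZero (E.homology j) := fun j hj =>
      ShortComplex.isZero_homology_of_isZero_X₂ _ (hE j (Or.inr hj))
    have hfin : Module.Finite A (E.homology (m + (d + 1 : ℕ))) := by
      haveI : Module.Finite A ((DerivedCategory.Q ⋙
          DerivedCategory.homologyFunctor (ModuleCat.{u} A) (m + (d + 1 : ℕ))).obj E) :=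
        finite_top (pc_mono (show m - 1 ≤ m + (d + 1 : ℕ) by lia) (pc_of_iso e.symm hpc))
          (isAbove_of_iso e.symm (torVan_isAbove hamp))
      exact Module.Finite.equiv ((homologyFunctorFactors (ModuleCat.{u} A) (m + (d + 1 : ℕ))).app E).toLinearEquiv
    obtain ⟨P, f, hP, hPf, hC⟩ := exists_top_cover E (m + (d + 1 : ℕ)) hz hfin
    have hT := DerivedCategory.mappingCone_triangle_distinguished f
    have hPpc : ∀ j, DRing.IsPseudoCoherent A j (DRing.toD P) := fun j =>
      pc_iff.2 ⟨P, _, _, 𝟙 _, hP, hPf, mIso_of_isIso j _⟩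
    have hCpc : DRing.IsPseudoCoherent A (m - 1) (DRing.toD (CochainComplex.mappingCone f)) :=
      pc_obj₃ _ hT (m - 1) (hPpc _) (pc_of_iso e.symm hpc)
    have hPamp : DRing.HasTorAmplitudeIn A (m + 1) (m + (d + 1 : ℕ) + 1) (DRing.toD P) :=
      ⟨P, fun i hi => hP i (by push_cast at hi ⊢; lia), fun i => haveI := (hPf i).2; inferInstance, ⟨Iso.refl _⟩⟩
    have hCamp : DRing.HasTorAmplitudeIn A m (m + (d + 1 : ℕ)) (DRing.toD (CochainComplex.mappingCone f)) :=
      amp_obj₃ _ hT hPamp (amp_of_iso e.symm hamp)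
    have hC' := ih m _ hCpc (amp_shrink hCamp (isAbove_mono (by push_cast; lia) hC))
    exact pc'_of_forall fun j => pc_of_iso e (pc_obj₂ _ hT j (hPpc j) (pc_of_pc' hC' j))

theorem pc_amp_iff (K : Dual.D A) (m n : ℤ) (hmn : m ≤ n) :
    (DRing.IsPseudoCoherent A (m - 1) K ∧ DRing.HasTorAmplitudeIn A m n K) ↔
      ∃ E : DRing.Cx A, DRing.VanishesOutside E m n ∧ DRing.TermwiseFiniteProjective E ∧
        Nonempty (DRing.toD E ≅ K) := by
  constructor
  · rintro ⟨h1, h2⟩
    obtain ⟨d, rfl⟩ : ∃ d : ℕ, n = m + d := ⟨(n - m).toNat, by lia⟩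
    exact exists_finiteProjective_rep (pc'_of_amp d m K h1 h2) h2
  · rintro ⟨E, hE, hEp, e⟩
    exact ⟨pc_of_pc' (pc'_iff_projective.2 ⟨E, n, fun i hi => hE i (Or.inr hi), hEp, e⟩) _,
      E, hE, fun i => haveI := (hEp i).2; inferInstance, e⟩

end Groth.Agent.DRingKP
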