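import Groth.Agent.DRingKP.Amp
import Groth.Prelude.Def_DRing4
import Mathlib.Data.Int.Interval
import Groth.Agent.KFlat.Functorial
import Groth.Agent.KFlat.LeftDerived
import Mathlib.Algebra.Category.ModuleCat.Projective

/-!
`- ⊗^L E` for complexes `E`.
-/

set_option autoImplicit false
set_option linter.style.haveILetI false
universe u

namespace Groth.Agent.DRingKP

open CategoryTheory Limits DerivedCategory MonoidalCategory HomologicalComplex

attribute [local instance] HasDerivedCategory.standard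

variable {A : Type u} [CommRing A]

/-- functorial free covers -/
noncomputable abbrev freeP : ModuleCat.{u} A ⥤ ModuleCat.{u} A :=
  forget (ModuleCat.{u} A) ⋙ ModuleCat.free A

/-- their maps -/
noncomputable abbrev freeπ : freeP (A := A) ⟶ 𝟭 (ModuleCat.{u} A) := (ModuleCat.adj A).counit

lemma flat_freeP (M : ModuleCat.{u} A) : KFlat.FlatObj (tB A) (freeP.obj M) :=
  (flatObj_iff A _).2 (inferInstanceAs (Module.Flat A (M →₀ A)))

lemma quasiIso_whisker_left_flat {P Q : DRing.Cx A} (α : P ⟶ Q) [QuasiIso α]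
    (hP : IsKFlat P) (hQ : IsKFlat Q) (E : DRing.Cx A) :
    QuasiIso (α ▷ E) :=
  KFlat.quasiIso_map_app_of_acyclic α E (KFlat.acyclic_of_iso (KFlat.swapIso (tBraid A) E _)
    (KFlat.acyclic_tens_of_acyclic_rflat (tBraid A)
      (fun F => let ⟨K, q, h1, _, h3, _⟩ := exists_kFlat_resolution F; ⟨K, q, (rflat_iff K).2 h1, h3⟩)
      (KFlat.rflat_mappingCone α ((rflat_iff P).2 hP) ((rflat_iff Q).2 hQ))
      (KFlat.mappingCone_acyclic α) E))

/-- the data deriving `- ⊗ E` -/
noncomputable def leftResTensorCx (E : DRing.Cx A) :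
    KFlat.LeftRes (HomologicalComplex.quasiIso (ModuleCat.{u} A) (ComplexShape.up ℤ))
      (DRing.tensorCxQ A E) IsKFlat where
  ρ := KFlat.resFunctor (freeP (A := A)) (freeπ (A := A))
  ψ := KFlat.resNat (freeP (A := A)) (freeπ (A := A))
  mem G := (rflat_iff _).1 (KFlat.resFunctor_spec (freeP (A := A)) (freeπ (A := A)) (tB A) flat_freeP (preservesNat_tB A)
    (preservesDiscrete_tB A) G).1
  weq G := (KFlat.resFunctor_spec (freeP (A := A)) (freeπ (A := A)) (tB A) flat_freeP (preservesNat_tB A)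
    (preservesDiscrete_tB A) G).2.2
  isIso_map {K L} α hK hL hα := by
    have : QuasiIso α := hα
    have := quasiIso_whisker_left_flat α hK hL E
    exact inferInstanceAs (IsIso (DerivedCategory.Q.map (α ▷ E)))

theorem hasLTensorCx (E : DRing.Cx A) : DRing.HasLTensorCx A E :=
  (leftResTensorCx E).hasLeftDerivedFunctor

/-- `P ⊗^L E = P ⊗ E` for K-flat `P` -/
noncomputable def lTensorCxIso (E : DRing.Cx A) [DRing.HasLTensorCx A E] {P : DRing.Cx A} (hP : IsKFlat P) :
    (DRing.LTensorCx A E).obj (DRing.toD P) ≅ DRing.toD (P ⊗ E) :=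
  @asIso _ _ _ _ (((DRing.tensorCxQ A E).totalLeftDerivedCounit DerivedCategory.Q
      (HomologicalComplex.quasiIso (ModuleCat.{u} A) (ComplexShape.up ℤ))).app P)
    ((leftResTensorCx E).isIso_app (DRing.LTensorCx A E) _ hP)

lemma isKFlat_of_finiteProjective {P : DRing.Cx A} {b : ℤ} (hb : DRing.VanishesAbove P b)
    (hP : DRing.TermwiseFiniteProjective P) : IsKFlat P :=
  isKFlat_of_bounded hb fun i => haveI := (hP i).2; inferInstance

/-- replacing `E` -/
noncomputable def tensorRepIso {P E E' : DRing.Cx A} (hP : IsKFlat P) [E'.IsKProjective]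
    (e : DRing.toD E' ≅ DRing.toD E) : DRing.toD (P ⊗ E) ≅ DRing.toD (P ⊗ E') :=
  let g : E' ⟶ E := (PerfLocal.exists_lift e.hom).choose
  have hg : DerivedCategory.Q.map g = e.hom := (PerfLocal.exists_lift e.hom).choose_spec
  haveI : QuasiIso g := (DerivedCategory.isIso_Q_map_iff_quasiIso _ g).1 (by rw [hg]; infer_instance)
  haveI : QuasiIso (g ▷ P) := quasiIso_whiskerRight hP g
  let e₁ : DRing.toD (E' ⊗ P) ≅ DRing.toD (E ⊗ P) := asIso (DerivedCategory.Q.map (g ▷ P))
  DerivedCategory.Q.mapIso (KFlat.swapIso (tBraid A) P E) ≪≫ e₁.symm ≪≫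
    DerivedCategory.Q.mapIso (KFlat.swapIso (tBraid A) E' P)

lemma tensor_vanishes {P E : DRing.Cx A} (n : ℤ)
    (h : ∀ p q, p + q = n → IsZero (P.X p) ∨ IsZero (E.X q)) : IsZero ((P ⊗ E).X n) := by
  rw [IsZero.iff_id_eq_zero]
  refine HomologicalComplex.mapBifunctor.hom_ext fun p q hpq => ?_
  rcases h p q hpq with hz | hz
  · exact (((curriedTensor (ModuleCat.{u} A)).flip.obj (E.X q)).map_isZero hz).eq_of_src _ _
  · exact (((curriedTensor (ModuleCat.{u} A)).obj (P.X p)).map_isZero hz).eq_of_src _ _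

lemma tensor_finiteProjective {P E : DRing.Cx A} {b c : ℤ} (hb : DRing.VanishesAbove P b)
    (hc : DRing.VanishesAbove E c) (hP : DRing.TermwiseFiniteProjective P)
    (hE : DRing.TermwiseFiniteProjective E) : DRing.TermwiseFiniteProjective (P ⊗ E) := fun n => by
  constructor
  · let ι : ∀ p : ℤ, P.X p ⊗ E.X (n - p) ⟶ (P ⊗ E).X n := fun p =>
      HomologicalComplex.ιMapBifunctor P E (curriedTensor (ModuleCat.{u} A)) (ComplexShape.up ℤ) p (n - p) n
        (by simp)
    let S : Submodule A ((P ⊗ E).X n) := ⨆ p : Finset.Icc (n - c) b, LinearMap.range (ι p).hom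
    have hS : ModuleCat.ofHom S.mkQ = 0 := by
      refine HomologicalComplex.mapBifunctor.hom_ext fun p q hpq => ?_
      obtain rfl : q = n - p := by simp at hpq; lia
      by_cases hp : p ∈ Finset.Icc (n - c) b
      · refine (?_ : ι p ≫ ModuleCat.ofHom S.mkQ = 0).trans comp_zero.symm
        refine ModuleCat.hom_ext (LinearMap.ext fun x => ?_)
        exact (Submodule.Quotient.mk_eq_zero S).2
          (le_iSup (fun p : Finset.Icc (n - c) b => LinearMap.range (ι p).hom) ⟨p, hp⟩ ⟨x, rfl⟩)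
      · rw [Finset.mem_Icc, not_and_or, not_le, not_le] at hp
        rcases hp with hp | hp
        · exact (((curriedTensor (ModuleCat.{u} A)).obj (P.X p)).map_isZero (hc _ (by lia))).eq_of_src _ _
        · exact (((curriedTensor (ModuleCat.{u} A)).flip.obj (E.X (n - p))).map_isZero (hb _ hp)).eq_of_src _ _
    have htop : S = ⊤ := by
      rw [← Submodule.ker_mkQ S, show S.mkQ = 0 from congrArg ModuleCat.Hom.hom hS, LinearMap.ker_zero]
    refine ⟨htop ▸ Submodule.fg_iSup _ fun p => ?_⟩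
    haveI := (hP p).1
    haveI := (hE (n - p)).1
    haveI : Module.Finite A (P.X p ⊗ E.X (n - p) : ModuleCat.{u} A) :=
      inferInstanceAs (Module.Finite A (TensorProduct A (P.X p) (E.X (n - p))))
    exact Submodule.fg_range (ι p).hom
  · refine (IsProjective.iff_projective _).2 ?_
    let g : ((ComplexShape.π (ComplexShape.up ℤ) (ComplexShape.up ℤ) (ComplexShape.up ℤ)) ⁻¹' {n}) →
        ModuleCat.{u} A := fun i => P.X i.1.1 ⊗ E.X i.1.2
    haveI : ∀ x, Projective (g x) := fun x => by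
      haveI := (hP x.1.1).2
      haveI := (hE x.1.2).2
      exact (IsProjective.iff_projective (P.X x.1.1 ⊗ E.X x.1.2 : ModuleCat.{u} A)).1
        (inferInstanceAs (Module.Projective A (TensorProduct A (P.X x.1.1) (E.X x.1.2))))
    have hpr : Projective (∐ g) := ⟨fun f e he =>
      ⟨Sigma.desc fun x => Projective.factorThru (Sigma.ι g x ≫ f) e,
        Sigma.hom_ext _ _ fun x => by rw [Sigma.ι_desc_assoc, Projective.factorThru_comp]⟩⟩
    exact hpr

theorem pc'_lTensorCx (K : Dual.D A) (hK : DRing.IsPseudoCoherent' A K) (L : DRing.Cx A)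
    (hL : DRing.IsPseudoCoherent' A (DRing.toD L)) [DRing.HasLTensorCx A L] :
    DRing.IsPseudoCoherent' A ((DRing.LTensorCx A L).obj K) := by
  obtain ⟨P, b, hb, hP, ⟨eP⟩⟩ := pc'_iff_projective.1 hK
  obtain ⟨E, c, hc, hE, ⟨eE⟩⟩ := pc'_iff_projective.1 hL
  haveI := isKProjective_of_finiteProjective c hc hE
  have hPf := isKFlat_of_finiteProjective hb hP
  refine pc'_iff_projective.2 ⟨P ⊗ E, b + c, fun n hn => tensor_vanishes n fun p q hpq => ?_,
    tensor_finiteProjective hb hc hP hE, ⟨(tensorRepIso hPf eE).symm ≪≫ (lTensorCxIso L hPf).symm ≪≫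
      (DRing.LTensorCx A L).mapIso eP⟩⟩
  by_cases hp : b < p
  · exact Or.inl (hb p hp)
  · exact Or.inr (hc q (by lia))

theorem isPerfect_lTensorCx (K : Dual.D A) (hK : DRing.IsPerfect A K) (L : DRing.Cx A)
    (hL : DRing.IsPerfect A (DRing.toD L)) [DRing.HasLTensorCx A L] :
    DRing.IsPerfect A ((DRing.LTensorCx A L).obj K) := by
  obtain ⟨P, a, b, hP₀, hP, ⟨eP⟩⟩ := hK
  obtain ⟨E, d, c, hE₀, hE, ⟨eE⟩⟩ := hL
  have hb : DRing.VanishesAbove P b := fun i hi => hP₀ i (Or.inr hi)
  have hc : DRing.VanishesAbove E c := fun i hi => hE₀ i (Or.inr hi)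
  haveI := isKProjective_of_finiteProjective c hc hE
  have hPf := isKFlat_of_finiteProjective hb hP
  refine ⟨P ⊗ E, a + d, b + c, fun n hn => tensor_vanishes n fun p q hpq => ?_,
    tensor_finiteProjective hb hc hP hE, ⟨(tensorRepIso hPf eE).symm ≪≫ (lTensorCxIso L hPf).symm ≪≫
      (DRing.LTensorCx A L).mapIso eP⟩⟩
  by_cases hp : p < a ∨ b < p
  · exact Or.inl (hP₀ p hp)
  · exact Or.inr (hE₀ q (by lia))

end Groth.Agent.DRingKP
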