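import Groth.Agent.DRingKP.Amp

/-!
Pseudo-coherence and restriction of scalars.
-/

set_option autoImplicit false
set_option linter.style.haveILetI false
universe u

namespace Groth.Agent.DRingKP

open CategoryTheory Limits Pretriangulated DerivedCategory HomologicalComplex

attribute [local instance] HasDerivedCategory.standard

variable {A B : Type u} [CommRing A] [CommRing B] (φ : A →+* B)

/-- the cohomology of a restriction -/
noncomputable def resHHIso (K : Dual.D B) (i : ℤ) :
    (DerivedCategory.homologyFunctor (ModuleCat.{u} A) i).obj ((DRing.restrictD φ).obj K) ≅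
      (ModuleCat.restrictScalars.{u} φ).obj ((DerivedCategory.homologyFunctor (ModuleCat.{u} B) i).obj K) :=
  let G : DRing.Cx B := DerivedCategory.Q.objPreimage K
  let eG : DRing.toD G ≅ K := DerivedCategory.Q.objObjPreimageIso K
  (DerivedCategory.homologyFunctor (ModuleCat.{u} A) i).mapIso
      ((DRing.restrictD φ).mapIso eG.symm ≪≫
        (ModuleCat.restrictScalars.{u} φ).mapDerivedCategoryFactors.app G) ≪≫
    (homologyFunctorFactors (ModuleCat.{u} A) i).app _ ≪≫
    (G.sc i).mapHomologyIso (ModuleCat.restrictScalars.{u} φ) ≪≫
    (ModuleCat.restrictScalars.{u} φ).mapIso (((homologyFunctorFactors (ModuleCat.{u} B) i).app G).symm ≪≫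
      (DerivedCategory.homologyFunctor (ModuleCat.{u} B) i).mapIso eG)

lemma isAbove_res {K : Dual.D B} {n : ℤ} :
    IsAbove n ((DRing.restrictD φ).obj K) ↔ IsAbove n K := by
  refine forall₂_congr fun i _ => (resHHIso φ K i).isZero_iff.trans ⟨fun h => ?_, fun h => ?_⟩
  · haveI := ModuleCat.subsingleton_of_isZero h
    exact @ModuleCat.isZero_of_subsingleton _ _ _ ‹_›
  · exact (ModuleCat.restrictScalars.{u} φ).map_isZero h

variable [Algebra A B]

/-- restriction of a finite free module -/
theorem pcModule_res (hB : DRing.IsPseudoCoherentModule' A B) (M : ModuleCat.{u} B)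
    [Module.Finite B M] [Module.Free B M] (m : ℤ) :
    DRing.IsPseudoCoherentModule A m ((ModuleCat.restrictScalars.{u} (algebraMap A B)).obj M) := by
  have key : ∀ n : ℕ, DRing.IsPseudoCoherentModule A m (ModuleCat.of A (Fin n → B)) := by
    intro n
    induction n with
    | zero =>
      exact pcModule_of_free (ModuleCat.of A (Fin 0 → B)) m
    | succ n ih =>
      haveI := Abelian.hasFiniteBiproducts (C := ModuleCat.{u} A)
      let F := DerivedCategory.singleFunctor (ModuleCat.{u} A) 0
      let S := ShortComplex.Splitting.ofHasBinaryBiproduct (ModuleCat.of A B) (ModuleCat.of A (Fin n → B))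
      have hT := ShortComplex.ShortExact.singleTriangle_distinguished S.shortExact
      have h2 := pc_obj₂ _ hT m (pc_of_pc' hB m) ih
      exact pcModule_of_iso (ModuleCat.biprodIsoProd (ModuleCat.of A B) (ModuleCat.of A (Fin n → B)) ≪≫
        (Fin.consLinearEquiv A (fun _ : Fin (n + 1) => B)).toModuleIso) h2
  let b := Module.Free.chooseBasis B M
  let e : M ≃ₗ[B] (Fin (Fintype.card (Module.Free.ChooseBasisIndex B M)) → B) :=
    (b.reindex (Fintype.equivFin _)).equivFun
  let e' : (Fin (Fintype.card (Module.Free.ChooseBasisIndex B M)) → B) ≃ₗ[A]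
      (ModuleCat.restrictScalars.{u} (algebraMap A B)).obj M :=
    { toFun := fun x => e.symm x
      invFun := fun x => e x
      map_add' := fun x y => e.symm.map_add x y
      map_smul' := fun a x => by
        have h : a • x = algebraMap A B a • x := by
          ext i; simp [Algebra.smul_def]
        change e.symm (a • x) = algebraMap A B a • e.symm x
        rw [h, map_smul]
      left_inv := fun x => e.apply_symm_apply x
      right_inv := fun x => e.symm_apply_apply x }
  exact pcModule_of_iso e'.toModuleIso (key _)

lemma pc_res_of_free (hB : DRing.IsPseudoCoherentModule' A B) {E : DRing.Cx B} {b : ℤ}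
    (hb : DRing.VanishesAbove E b) (hE : DRing.TermwiseFiniteFree E) (m : ℤ) :
    DRing.IsPseudoCoherent A m ((DRing.restrictD (algebraMap A B)).obj (DRing.toD E)) := by
  refine pc_of_iso ((ModuleCat.restrictScalars.{u} (algebraMap A B)).mapDerivedCategoryFactors.app E).symm ?_
  refine pc_of_termwise m (((ModuleCat.restrictScalars.{u} (algebraMap A B)).mapHomologicalComplex
    (ComplexShape.up ℤ)).obj E) b
    (fun i hi => (ModuleCat.restrictScalars.{u} (algebraMap A B)).map_isZero (hb i hi)) fun i _ => ?_
  haveI := (hE i).1
  haveI := (hE i).2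
  exact pcModule_res hB (E.X i) _

theorem pc_res_iff (hB : DRing.IsPseudoCoherentModule' A B) (m : ℤ) (K : Dual.D B) :
    DRing.IsPseudoCoherent B m K ↔
      DRing.IsPseudoCoherent A m ((DRing.restrictD (algebraMap A B)).obj K) := by
  constructor
  · intro h
    obtain ⟨E, a, b, α, hE, hEf, hα⟩ := pc_iff.1 h
    obtain ⟨C, g, k, hT⟩ := Pretriangulated.distinguished_cocone_triangle α
    have hC : IsAbove m C := (mIso_iff m _ hT).1 hα
    have hT' := (DRing.restrictD (algebraMap A B)).map_distinguished _ hT
    exact pc_obj₂ _ hT' m (pc_res_of_free hB (fun i hi => hE i (Or.inr hi)) hEf m)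
      (pc_of_isAbove ((isAbove_res (algebraMap A B)).2 hC))
  · intro h
    obtain ⟨n, hn⟩ := pc_bounded h
    rw [isAbove_res] at hn
    suffices H : ∀ (d : ℕ) (K : Dual.D B), IsAbove (m + d) K →
        DRing.IsPseudoCoherent A m ((DRing.restrictD (algebraMap A B)).obj K) →
        DRing.IsPseudoCoherent B m K from H (n - m).toNat K (isAbove_mono (by lia) hn) h
    intro d
    induction d with
    | zero => exact fun K hK _ => pc_of_isAbove (by simpa using hK)
    | succ d ih =>
      intro K hab hK
      let G : DRing.Cx B := DerivedCategory.Q.objPreimage K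
      let eG : DRing.toD G ≅ K := DerivedCategory.Q.objObjPreimageIso K
      have hK' := pc_of_iso ((DRing.restrictD (algebraMap A B)).mapIso eG.symm) hK
      have hab' : IsAbove (m + (d + 1 : ℕ)) (DRing.toD G) := isAbove_of_iso eG.symm hab
      have hz : ∀ j, m + (d : ℤ) < j → IsZero (G.homology j) := fun j hj =>
        (hab' j (by push_cast; lia)).of_iso ((homologyFunctorFactors (ModuleCat.{u} B) j).app G).symm
      have hfin : Module.Finite B (G.homology (m + d)) := by
        let H := (DerivedCategory.Q ⋙ DerivedCategory.homologyFunctor (ModuleCat.{u} B) (m + d)).obj G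
        haveI : Module.Finite A ((ModuleCat.restrictScalars.{u} (algebraMap A B)).obj H) := by
          haveI := finite_top (pc_mono (show m ≤ m + d by lia) hK')
            ((isAbove_res (algebraMap A B)).2 (isAbove_mono (by push_cast; lia) hab'))
          exact Module.Finite.equiv (resHHIso (algebraMap A B) (DRing.toD G) (m + d)).toLinearEquiv
        letI : Module A H := Module.compHom H (algebraMap A B)
        haveI : IsScalarTower A B H := ⟨fun a b x => by
          rw [Algebra.smul_def, mul_smul]; rfl⟩
        haveI : Module.Finite A H := ‹Module.Finite A ((ModuleCat.restrictScalars.{u} (algebraMap A B)).obj H)›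
        haveI : Module.Finite B H := Module.Finite.of_restrictScalars_finite A B H
        exact Module.Finite.equiv ((homologyFunctorFactors (ModuleCat.{u} B) (m + d)).app G).toLinearEquiv
      obtain ⟨P, f, hP, hPf, hC⟩ := exists_top_cover G (m + d) hz hfin
      have hT := DerivedCategory.mappingCone_triangle_distinguished f
      have hT' := (DRing.restrictD (algebraMap A B)).map_distinguished _ hT
      have hCpc := ih _ hC (pc_obj₃ _ hT' m (pc_res_of_free hB (fun i hi => hP i (Or.inr hi)) hPf _) hK')
      have hPpc : DRing.IsPseudoCoherent B m (DRing.toD P) :=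
        pc_iff.2 ⟨P, _, _, 𝟙 _, hP, hPf, mIso_of_isIso m _⟩
      exact pc_of_iso eG (pc_obj₂ _ hT m hPpc hCpc)

theorem pc'_res_iff (hB : DRing.IsPseudoCoherentModule' A B) (K : Dual.D B) :
    DRing.IsPseudoCoherent' B K ↔
      DRing.IsPseudoCoherent' A ((DRing.restrictD (algebraMap A B)).obj K) := by
  rw [pc'_iff, pc'_iff]
  exact forall_congr' fun m => pc_res_iff hB m K

end Groth.Agent.DRingKP
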