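import Groth.Agent.DRingKP.Tor
import Groth.Agent.DRingKP.Restrict
import Groth.Agent.KFlat.StalkTot
import Mathlib.RingTheory.Flat.CategoryTheory

/-!
Restriction of tor amplitude.
-/

set_option autoImplicit false
set_option linter.style.haveILetI false
universe u

namespace Groth.Agent.DRingKP

open CategoryTheory Limits DerivedCategory MonoidalCategory HomologicalComplex

attribute [local instance] HasDerivedCategory.standard

variable {A B : Type u} [CommRing A] [CommRing B] [Algebra A B]

/-- `P ⊗_A F` for a `B`-module `F` -/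
noncomputable def resTRIso (F : ModuleCat.{u} B) (P : DRing.Cx A) :
    (tR ((ModuleCat.restrictScalars.{u} (algebraMap A B)).obj F)).obj P ≅
      ((ModuleCat.restrictScalars.{u} (algebraMap A B)).mapHomologicalComplex (ComplexShape.up ℤ)).obj
        (((tensorLeft F).mapHomologicalComplex (ComplexShape.up ℤ)).obj ((bc (algebraMap A B)).obj P)) :=
  HomologicalComplex.Hom.isoOfComponents
    (fun n => β_ (P.X n) ((ModuleCat.restrictScalars.{u} (algebraMap A B)).obj F) ≪≫
      KFlat.projIso (algebraMap A B) F (P.X n))
    (fun i j _ => by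
      have h := KFlat.projIso_natural_right (algebraMap A B) F (P.d i j)
      simp only [Iso.trans_hom, Category.assoc]
      erw [← h, ← BraidedCategory.braiding_naturality_left_assoc]
      rfl)

theorem amp_res_of_flat (d : ℕ) (hB : DRing.HasTorAmplitudeIn A (-(d : ℤ)) 0 (Dual.inD A B))
    (F : ModuleCat.{u} B) [Module.Flat B F] :
    DRing.HasTorAmplitudeIn A (-(d : ℤ)) 0
      (Dual.inD A ((ModuleCat.restrictScalars.{u} (algebraMap A B)).obj F)) := by
  let B₀ := (ModuleCat.restrictScalars.{u} (algebraMap A B)).obj (ModuleCat.of B B)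
  let eB₁ : B₀ ≃ₗ[A] B :=
      { toFun := fun x => x
        map_add' := fun _ _ => rfl
        map_smul' := fun a x => by
          rw [RingHom.id_apply, Algebra.smul_def]
          rfl
        invFun := fun x => x
        left_inv := fun _ => rfl
        right_inv := fun _ => rfl }
  let eB : ModuleCat.of A B ≅ B₀ := eB₁.symm.toModuleIso
  have hB₀ : DRing.HasTorAmplitudeIn A (-(d : ℤ)) 0 (Dual.inD A B₀) :=
    amp_of_iso ((DerivedCategory.singleFunctor (ModuleCat.{u} A) 0).mapIso eB) hB
  let M := (ModuleCat.restrictScalars.{u} (algebraMap A B)).obj F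
  let RM := projectiveResolution M
  let RB := projectiveResolution B₀
  have hbd : ∀ {N : ModuleCat.{u} A} (R : ProjectiveResolution N), DRing.VanishesAbove R.cochainComplex 0 :=
    fun R => (CochainComplex.isStrictlyLE_iff _ 0).1 inferInstance
  have hrep : ∀ {N : ModuleCat.{u} A} (R : ProjectiveResolution N),
      Nonempty (DRing.toD R.cochainComplex ≅ Dual.inD A N) := fun {N} R =>
    ⟨asIso (DerivedCategory.Q.map (resToSingle R)) ≪≫
      ((DerivedCategory.singleFunctorIsoCompQ (ModuleCat.{u} A) 0).app N).symm⟩
  refine amp_iff_torVan.2 ⟨RM.cochainComplex, 0, hbd RM,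
    flat_of_projective fun _ => inferInstance, hrep RM, fun N i hi => ?_⟩
  by_cases h0 : 0 < i
  · exact ShortComplex.isZero_homology_of_isZero_X₂ _ ((tensorRight N).map_isZero (hbd RM i h0))
  let RN := projectiveResolution N
  rw [isZero_balance RM RN]
  refine IsZero.of_iso ?_ ((HomologicalComplex.homologyFunctor (ModuleCat.{u} A) (ComplexShape.up ℤ) i).mapIso
    (resTRIso F RN.cochainComplex))
  have h1 : IsZero (((tR B₀).obj RN.cochainComplex).homology i) :=
    (isZero_balance RB RN i).1
      (torVan_rep (torVan_of_amp hB₀) (hbd RB) (flat_of_projective fun _ => inferInstance)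
        (hrep RB).some N i (Or.inl (by lia)))
  have h2 : ((bc (algebraMap A B)).obj RN.cochainComplex).ExactAt i := by
    have h := ((exactAt_iff_isZero_homology _ i).2 h1).of_iso
      (bcRestrictIso (algebraMap A B) RN.cochainComplex).symm
    rw [HomologicalComplex.exactAt_iff] at h ⊢
    exact (ShortComplex.exact_map_iff_of_faithful _ (ModuleCat.restrictScalars.{u} (algebraMap A B))).1 h
  haveI : PreservesFiniteLimits (tensorLeft F) := inferInstance
  haveI : PreservesFiniteColimits (tensorLeft F) := inferInstance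
  refine (exactAt_iff_isZero_homology _ i).1 ?_
  rw [HomologicalComplex.exactAt_iff] at h2 ⊢
  exact (h2.map (tensorLeft F)).map (ModuleCat.restrictScalars.{u} (algebraMap A B))

theorem amp_res (d : ℕ) (hB : DRing.HasTorAmplitudeIn A (-(d : ℤ)) 0 (Dual.inD A B)) (K : Dual.D B)
    (a b : ℤ) (hK : DRing.HasTorAmplitudeIn B a b K) :
    DRing.HasTorAmplitudeIn A (a - d) b ((DRing.restrictD (algebraMap A B)).obj K) := by
  obtain ⟨E, hE, hEf, ⟨e⟩⟩ := hK
  refine amp_of_iso
    (((ModuleCat.restrictScalars.{u} (algebraMap A B)).mapDerivedCategoryFactors.app E).symm ≪≫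
      (DRing.restrictD (algebraMap A B)).mapIso e)
    (amp_of_termwise _ _ a b
      (((ModuleCat.restrictScalars.{u} (algebraMap A B)).mapHomologicalComplex (ComplexShape.up ℤ)).obj E)
      (fun i hi => (ModuleCat.restrictScalars.{u} (algebraMap A B)).map_isZero (hE i hi)) fun i => ?_)
  by_cases hi : i < a ∨ b < i
  · exact amp_of_isZero _ _ ((DerivedCategory.singleFunctor (ModuleCat.{u} A) 0).map_isZero
      ((ModuleCat.restrictScalars.{u} (algebraMap A B)).map_isZero (hE i hi)))
  · haveI := hEf i
    obtain ⟨G, hG1, hG2, hG3⟩ := amp_res_of_flat d hB (E.X i)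
    exact ⟨G, fun k hk => hG1 k (by lia), hG2, hG3⟩

end Groth.Agent.DRingKP
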