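import Groth.Agent.DRingKP.Descend
import Groth.Agent.DRingKP.Amp
import Groth.Agent.DRingKP.ResAmp
import Groth.Agent.DRingKP.LTensorCx

/-!
Descent along surjections with nilpotent kernel.
-/

set_option autoImplicit false
set_option linter.style.haveILetI false
universe u

namespace Groth.Agent.DRingKP

open CategoryTheory Limits DerivedCategory MonoidalCategory HomologicalComplex

attribute [local instance] HasDerivedCategory.standard

section Res

variable {A : Type u} [CommRing A]

/-- K-projective and K-flat resolutions -/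
theorem exists_kProj_kFlat_resolution (G : DRing.Cx A) :
    ∃ (P : DRing.Cx A) (c : P ⟶ G), P.IsKProjective ∧ IsKFlat P ∧ DRing.TermwiseFlat P ∧ QuasiIso c := by
  obtain ⟨Kc, π, -, -, hb, hs, hr, c, -, hc⟩ := KFlat.exists_trunc_system G (exists_cover A)
  have hflat : ∀ n i, KFlat.FlatObj (tB A) ((Kc.obj n).X i) := fun n i => by
    haveI := projective_of_isSum (hs n i)
    haveI : Module.Projective A ((Kc.obj n).X i) := (IsProjective.iff_projective _).2 this
    exact (flatObj_iff A _).2 inferInstance
  haveI : ∀ n, (Kc.obj n).IsKProjective := fun n => by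
    obtain ⟨b, hb⟩ := hb n
    haveI := fun i => projective_of_isSum (hs n i)
    exact CochainComplex.isKProjective_of_projective _ b
  refine ⟨colimit Kc, c, isKProjective_colimit Kc fun n i => ⟨(hr n i).choose, (hr n i).choose_spec.1⟩,
    (rflat_iff _).1 (KFlat.rflat_of_isColimit (preservesNat_tB A) (colimit.isColimit Kc) fun n => ?_),
    fun i => ?_, hc⟩
  · obtain ⟨b, hb⟩ := hb n
    exact KFlat.rflat_of_bounded_above (tB A) (preservesNat_tB A) b
      ((CochainComplex.isStrictlyLE_iff _ b).1 hb) (hflat n)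
  · exact (flatObj_iff A _).1 (KFlat.flatObj_of_isColimit (preservesNat_tB A)
      (isColimitOfPreserves (HomologicalComplex.eval (ModuleCat.{u} A) (ComplexShape.up ℤ) i)
        (colimit.isColimit Kc)) fun n => hflat n i)

/-- K-flat complexes isomorphic in the derived category have the same `⊗ M` -/
theorem isZero_tR_congr {P Q : DRing.Cx A} [Q.IsKProjective] (hP : IsKFlat P) (hQ : IsKFlat Q)
    (e : DRing.toD Q ≅ DRing.toD P) (M : ModuleCat.{u} A) (i : ℤ) :
    IsZero (((tR M).obj P).homology i) ↔ IsZero (((tR M).obj Q).homology i) := by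
  obtain ⟨g, hg⟩ := PerfLocal.exists_lift e.hom
  haveI : IsIso (DerivedCategory.Q.map g) := by rw [hg]; infer_instance
  haveI : QuasiIso g := (DerivedCategory.isIso_Q_map_iff_quasiIso _ g).1 inferInstance
  have h := quasiIso_whisker_left_flat g hQ hP ((HomologicalComplex.single _ (ComplexShape.up ℤ) 0).obj M)
  let H := HomologicalComplex.homologyFunctor (ModuleCat.{u} A) (ComplexShape.up ℤ) i
  exact ((H.mapIso (tensSingleIso Q M)).symm ≪≫
    @isoOfQuasiIsoAt _ _ _ _ _ _ _ (g ▷ (HomologicalComplex.single _ (ComplexShape.up ℤ) 0).obj M) i _ _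
      ((quasiIso_iff _).1 h i) ≪≫ H.mapIso (tensSingleIso P M)).isZero_iff.symm

/-- `⊗ 𝟙` -/
lemma isZero_tR_unit (P : DRing.Cx A) (i : ℤ) :
    IsZero (((tR (𝟙_ (ModuleCat.{u} A))).obj P).homology i) ↔ IsZero (P.homology i) :=
  ((HomologicalComplex.homologyFunctor _ _ i).mapIso (HomologicalComplex.Hom.isoOfComponents
    (fun n => ρ_ (P.X n)) (fun n m _ => (rightUnitor_naturality (P.d n m)).symm))).isZero_iff

/-- extensions -/
lemma isZero_tR_ext {P : DRing.Cx A} (hP : DRing.TermwiseFlat P) {S : ShortComplex (ModuleCat.{u} A)}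
    (hS : S.ShortExact) (i : ℤ) (h₁ : IsZero (((tR S.X₁).obj P).homology i))
    (h₃ : IsZero (((tR S.X₃).obj P).homology i)) : IsZero (((tR S.X₂).obj P).homology i) := by
  let T : ShortComplex (DRing.Cx A) := ShortComplex.mk
    ((NatTrans.mapHomologicalComplex ((tensoringRight (ModuleCat.{u} A)).map S.f) _).app P)
    ((NatTrans.mapHomologicalComplex ((tensoringRight (ModuleCat.{u} A)).map S.g) _).app P)
    (by
      ext n : 1
      change P.X n ◁ S.f ≫ P.X n ◁ S.g = 0
      rw [← MonoidalCategory.whiskerLeft_comp, S.zero, MonoidalPreadditive.whiskerLeft_zero])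
  have hT : T.ShortExact := by
    refine HomologicalComplex.shortExact_of_degreewise_shortExact T fun n => ?_
    haveI : Module.Flat A (P.X n) := hP n
    haveI : PreservesFiniteLimits (tensorLeft (P.X n)) := inferInstance
    haveI : PreservesFiniteColimits (tensorLeft (P.X n)) := inferInstance
    exact hS.map_of_exact (tensorLeft (P.X n))
  exact (hT.homology_exact₂ i).isZero_of_both_zeros (h₁.eq_of_src _ _) (h₃.eq_of_tgt _ _)

/-- truncated representatives -/
theorem exists_proj_rep_top (K : Dual.D A) (n : ℤ) (hK : IsAbove (n + 1) K) :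
    ∃ P : DRing.Cx A, DRing.VanishesAbove P n ∧ (∀ i, Projective (P.X i)) ∧
      Nonempty (DRing.toD P ≅ K) := by
  obtain ⟨P, c, hc, hP, ⟨e⟩⟩ := exists_proj_rep_le K ⟨_, hK⟩
  have hex : ∀ i, n + 1 ≤ i → IsZero (P.homology i) := fun i hi =>
    (isAbove_of_iso e.symm hK i hi).of_iso ((homologyFunctorFactors (ModuleCat.{u} A) i).app P).symm
  haveI : P.IsLE n := (CochainComplex.isLE_iff P n).2 fun i hi =>
    (HomologicalComplex.exactAt_iff_isZero_homology _ _).2 (hex i (by lia))
  let P' := P.truncLE n
  haveI : QuasiIso (P.ιTruncLE n) := (CochainComplex.quasiIso_ιTruncLE_iff P n).2 inferInstance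
  have hP'b : DRing.VanishesAbove P' n := (CochainComplex.isStrictlyLE_iff P' n).1 inferInstance
  let S := P.sc' (n - 1) n (n + 1)
  let ecyc : P'.X n ≅ ModuleCat.of A (LinearMap.ker (P.d n (n + 1)).hom) :=
    P.truncLEXIsoCycles n ≪≫ P.cyclesIsoSc' (n - 1) n (n + 1) (by simp) (by simp) ≪≫ S.moduleCatCyclesIso
  refine ⟨P', hP'b, fun i => ?_, ⟨asIso (DerivedCategory.Q.map (P.ιTruncLE n)) ≪≫ e⟩⟩
  rcases lt_trichotomy i n with hi | rfl | hi
  · haveI := hP i
    exact Projective.of_iso (P.truncLEXIso n i hi).symm inferInstance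
  · haveI : Module.Projective A (LinearMap.ker (P.d i (i + 1)).hom) :=
      (exists_section (i + 1) c hc hP hex i (by lia)).1
    exact Projective.of_iso ecyc.symm ((IsProjective.iff_projective _).1 inferInstance)
  · exact Projective.of_iso (hP'b i hi).isoZero.symm inferInstance

end Res

section Nilp

variable {A B : Type u} [CommRing A] [CommRing B] [Algebra A B]

lemma exists_top_quotient (hsurj : Function.Surjective (algebraMap A B)) (M : ModuleCat.{u} A) :
    ∃ (N : ModuleCat.{u} B),
      Nonempty ((ModuleCat.restrictScalars.{u} (algebraMap A B)).obj N ≅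
        ModuleCat.of A (M ⧸ (RingHom.ker (algebraMap A B) • (⊤ : Submodule A M)))) := by
  let J := RingHom.ker (algebraMap A B)
  let e : B ≃+* A ⧸ J := (RingHom.quotientKerEquivOfSurjective hsurj).symm
  letI : Module B (M ⧸ J • (⊤ : Submodule A M)) := Module.compHom _ e.toRingHom
  have he : ∀ a, e (algebraMap A B a) = Ideal.Quotient.mk J a := fun a => by
    rw [RingEquiv.symm_apply_eq]
    exact (RingHom.quotientKerEquivOfSurjective_apply_mk hsurj a).symm
  let el : ((ModuleCat.restrictScalars.{u} (algebraMap A B)).obj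
      (ModuleCat.of B (M ⧸ J • (⊤ : Submodule A M)))) ≃ₗ[A] M ⧸ J • (⊤ : Submodule A M) :=
    { toFun := fun x => x
      invFun := fun x => x
      map_add' := fun _ _ => rfl
      map_smul' := fun a x => by
        change e (algebraMap A B a) • (show M ⧸ J • (⊤ : Submodule A M) from x) =
          a • (show M ⧸ J • (⊤ : Submodule A M) from x)
        rw [he]
        rfl
      left_inv := fun _ => rfl
      right_inv := fun _ => rfl }
  exact ⟨ModuleCat.of B (M ⧸ J • (⊤ : Submodule A M)), ⟨el.toModuleIso⟩⟩

lemma isZero_tR_of_quotients (hsurj : Function.Surjective (algebraMap A B))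
    (hnil : IsNilpotent (RingHom.ker (algebraMap A B))) {P : DRing.Cx A} (hP : DRing.TermwiseFlat P) (i : ℤ)
    (h : ∀ N : ModuleCat.{u} B,
      IsZero (((tR ((ModuleCat.restrictScalars.{u} (algebraMap A B)).obj N)).obj P).homology i))
    (M : ModuleCat.{u} A) : IsZero (((tR M).obj P).homology i) := by
  obtain ⟨k, hk⟩ := hnil
  suffices H : ∀ (l : ℕ) (M : ModuleCat.{u} A),
      (∀ a ∈ RingHom.ker (algebraMap A B) ^ l, ∀ x : M, a • x = 0) → IsZero (((tR M).obj P).homology i) from
    H k M fun a ha x => by rw [hk, Ideal.zero_eq_bot, Submodule.mem_bot] at ha; rw [ha, zero_smul]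
  intro l
  induction l with
  | zero =>
    intro M hM
    haveI : Subsingleton M := subsingleton_of_forall_eq 0 fun x => by
      simpa using hM 1 (by simp) x
    exact ShortComplex.isZero_homology_of_isZero_X₂ _
      ((tensorLeft (P.X i)).map_isZero (ModuleCat.isZero_of_subsingleton M))
  | succ l ih =>
    intro M hM
    let J := RingHom.ker (algebraMap A B)
    let S : ShortComplex (ModuleCat.{u} A) := ShortComplex.mk
      (ModuleCat.ofHom (J • (⊤ : Submodule A M)).subtype) (ModuleCat.ofHom (J • (⊤ : Submodule A M)).mkQ)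
      (by ext ⟨x, hx⟩; exact (Submodule.Quotient.mk_eq_zero _).2 hx)
    have hS : S.ShortExact :=
      { exact := (ShortComplex.moduleCat_exact_iff_range_eq_ker _).2 (by simp [S])
        mono_f := (ModuleCat.mono_iff_injective _).2 (J • (⊤ : Submodule A M)).injective_subtype
        epi_g := (ModuleCat.epi_iff_surjective _).2 (Submodule.mkQ_surjective _) }
    obtain ⟨N, ⟨eN⟩⟩ := exists_top_quotient hsurj M
    refine isZero_tR_ext hP hS i (ih _ fun a ha x => Subtype.ext ?_) ?_
    · change a • x.1 = (0 : M)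
      refine Submodule.smul_induction_on (p := fun y => a • y = (0 : M)) x.2 (fun r hr y _ => ?_)
        (fun y z hy hz => ?_)
      · rw [smul_smul]
        exact hM (a * r) (by rw [pow_succ]; exact Ideal.mul_mem_mul ha hr) y
      · rw [smul_add, hy, hz, add_zero]
    · exact (h N).of_iso ((HomologicalComplex.homologyFunctor _ _ i).mapIso
        ((NatIso.mapHomologicalComplex ((tensoringRight (ModuleCat.{u} A)).mapIso eN) _).app P)).symm

theorem detects_of_nilpotent (hsurj : Function.Surjective (algebraMap A B))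
    (hnil : IsNilpotent (RingHom.ker (algebraMap A B))) : Detects (A := A) fun _ : Unit => B := by
  intro M _ _ h
  haveI := h ()
  obtain ⟨N, ⟨eN⟩⟩ := exists_top_quotient hsurj (ModuleCat.of A M)
  let J := RingHom.ker (algebraMap A B)
  letI : Module A N := Module.compHom N (algebraMap A B)
  haveI : IsScalarTower A B N := ⟨fun a b x => by
    rw [Algebra.smul_def, mul_smul]; rfl⟩
  let q : M →ₗ[A] N :=
    { toFun := fun x => (eN.inv.hom ((J • (⊤ : Submodule A M)).mkQ x) : N)
      map_add' := fun x y => by simp only [map_add]; rfl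
      map_smul' := fun a x => by simp only [map_smul]; rfl }
  have hq : ∀ x, q x = 0 := fun x => by
    rw [← one_smul B (q x), ← LinearMap.liftBaseChange_tmul (A := B) q (1 : B) x,
      Subsingleton.elim ((1 : B) ⊗ₜ[A] x) 0, map_zero]
  have htop : (⊤ : Submodule A M) ≤ J • ⊤ := fun x _ => by
    have h1 : (J • (⊤ : Submodule A M)).mkQ x = 0 :=
      eN.toLinearEquiv.symm.injective ((hq x).trans (map_zero eN.toLinearEquiv.symm).symm)
    exact (Submodule.Quotient.mk_eq_zero _).1 h1
  obtain ⟨k, hk⟩ := hnil
  have hpow : ∀ l : ℕ, (⊤ : Submodule A M) ≤ J ^ l • ⊤ := fun l => by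
    induction l with
    | zero => simp
    | succ l ih =>
      refine ih.trans ?_
      rw [pow_succ, Submodule.mul_smul]
      exact Submodule.smul_mono le_rfl htop
  refine subsingleton_of_forall_eq 0 fun x => ?_
  have hx := hpow k (Submodule.mem_top (x := x))
  rw [hk] at hx
  simpa using hx

/-- vanishing of `P ⊗ N` for `B`-modules from a bounded flat representative of the base change -/
lemma isZero_tR_res {P : DRing.Cx A} (hP : IsKFlat P) {Q : DRing.Cx B} [Q.IsKProjective] (hQ : IsKFlat Q)
    (e : DRing.toD Q ≅ DRing.toD ((bc (algebraMap A B)).obj P)) (N : ModuleCat.{u} B) (i : ℤ)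
    (h : IsZero (((tR N).obj Q).homology i)) :
    IsZero (((tR ((ModuleCat.restrictScalars.{u} (algebraMap A B)).obj N)).obj P).homology i) := by
  have h1 := (isZero_tR_congr (KFlat.isKFlat_extendScalars (algebraMap A B) hP) hQ e N i).2 h
  rw [isZero_tR_iff_tensorLeft] at h1
  refine IsZero.of_iso ?_ ((HomologicalComplex.homologyFunctor (ModuleCat.{u} A) (ComplexShape.up ℤ) i).mapIso
    (resTRIso N P))
  have h2 := (exactAt_iff_isZero_homology _ i).2 h1
  refine (exactAt_iff_isZero_homology _ i).1 ?_
  rw [HomologicalComplex.exactAt_iff] at h2 ⊢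
  exact h2.map (ModuleCat.restrictScalars.{u} (algebraMap A B))

variable [DRing.HasLBaseChange (algebraMap A B)]

/-- bounded above representatives whose base change computes -/
lemma exists_bc_rep (hsurj : Function.Surjective (algebraMap A B))
    (hnil : IsNilpotent (RingHom.ker (algebraMap A B))) (K : Dual.D A) (c : ℤ)
    (h : IsAbove (c + 1) ((DRing.LBaseChange (algebraMap A B)).obj K)) :
    IsAbove (c + 1) K := by
  obtain ⟨P, q, hP, hPf, hPt, hq⟩ := exists_kProj_kFlat_resolution (DerivedCategory.Q.objPreimage K)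
  let eP : DRing.toD P ≅ K := asIso (DerivedCategory.Q.map q) ≪≫ DerivedCategory.Q.objObjPreimageIso K
  obtain ⟨Q, hQb, hQ, ⟨eQ⟩⟩ := exists_proj_rep_top _ c h
  haveI := isKProjective_of_vanishesAbove hQb hQ
  let e : DRing.toD Q ≅ DRing.toD ((bc (algebraMap A B)).obj P) :=
    eQ ≪≫ (DRing.LBaseChange (algebraMap A B)).mapIso eP.symm ≪≫ lBaseChangeIso (algebraMap A B) P
  refine isAbove_of_iso eP fun i hi => ((isZero_tR_unit P i).1 ?_).of_iso
    ((homologyFunctorFactors (ModuleCat.{u} A) i).app P)
  exact isZero_tR_of_quotients hsurj hnil hPt i (fun N => isZero_tR_res hPf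
    (isKFlat_of_bounded hQb (flat_of_projective hQ)) e N i
    (ShortComplex.isZero_homology_of_isZero_X₂ _ ((tensorRight N).map_isZero (hQb i (by lia))))) _

theorem amp_nilp_iff (hsurj : Function.Surjective (algebraMap A B))
    (hnil : IsNilpotent (RingHom.ker (algebraMap A B))) (K : Dual.D A) (a b : ℤ) :
    DRing.HasTorAmplitudeIn B a b ((DRing.LBaseChange (algebraMap A B)).obj K) ↔
      DRing.HasTorAmplitudeIn A a b K := by
  refine ⟨fun h => ?_, amp_lBaseChange _ K a b⟩
  obtain ⟨P, hPb, hP, ⟨eP⟩⟩ := exists_proj_rep_top K b (exists_bc_rep hsurj hnil K b (torVan_isAbove h))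
  haveI := isKProjective_of_vanishesAbove hPb hP
  obtain ⟨Q, hQb, hQ, ⟨eQ⟩⟩ := exists_proj_rep_top _ b (torVan_isAbove h)
  haveI := isKProjective_of_vanishesAbove hQb hQ
  let e : DRing.toD Q ≅ DRing.toD ((bc (algebraMap A B)).obj P) :=
    eQ ≪≫ (DRing.LBaseChange (algebraMap A B)).mapIso eP.symm ≪≫ lBaseChangeIso (algebraMap A B) P
  exact amp_iff_torVan.2 ⟨P, b, hPb, flat_of_projective hP, ⟨eP⟩, fun M i hi =>
    isZero_tR_of_quotients hsurj hnil (flat_of_projective hP) i (fun N =>
      isZero_tR_res (isKFlat_of_bounded hPb (flat_of_projective hP))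
        (isKFlat_of_bounded hQb (flat_of_projective hQ)) e N i
        (torVan_rep (torVan_of_amp h) hQb (flat_of_projective hQ) eQ N i hi)) M⟩

omit [DRing.HasLBaseChange (algebraMap A B)] in
/-- the top cohomology of the base change -/
lemma finite_top_bc (hsurj : Function.Surjective (algebraMap A B))
    (hnil : IsNilpotent (RingHom.ker (algebraMap A B))) {P : DRing.Cx A} (n : ℤ) (hb : DRing.VanishesAbove P n)
    (h : Module.Finite B (((bc (algebraMap A B)).obj P).homology n)) : Module.Finite A (P.homology n) := by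
  let T := ModuleCat.extendScalars.{u, u, u} (algebraMap A B)
  have hd : P.d n (n + 1) = 0 := (hb (n + 1) (by lia)).eq_of_tgt _ _
  have hd' : ((bc (algebraMap A B)).obj P).d n (n + 1) = 0 :=
    (T.map_isZero (hb (n + 1) (by lia))).eq_of_tgt _ _
  let e₁ := P.isoHomologyι n (n + 1) (by simp) hd
  let e₂ := ((bc (algebraMap A B)).obj P).isoHomologyι n (n + 1) (by simp) hd'
  let e₃ : ((bc (algebraMap A B)).obj P).opcycles n ≅ T.obj (P.opcycles n) :=
    (((bc (algebraMap A B)).obj P).opcyclesIsCokernel (n - 1) n (by simp)).coconePointUniqueUpToIso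
      ((CokernelCofork.ofπ (P.pOpcycles n) (P.d_pOpcycles (n - 1) n)).mapIsColimit
        (P.opcyclesIsCokernel (n - 1) n (by simp)) T)
  haveI := h
  haveI : Module.Finite B (TensorProduct A B (P.opcycles n)) :=
    Module.Finite.equiv (e₂ ≪≫ e₃ ≪≫ extendTensorIso (P.opcycles n)).toLinearEquiv
  haveI := finite_of_detects (fun _ : Unit => B) (detects_of_nilpotent hsurj hnil) (P.opcycles n) fun _ => this
  exact Module.Finite.equiv e₁.symm.toLinearEquiv

theorem pc_of_nilp (hsurj : Function.Surjective (algebraMap A B))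
    (hnil : IsNilpotent (RingHom.ker (algebraMap A B))) (m : ℤ) (K : Dual.D A)
    (h : DRing.IsPseudoCoherent B m ((DRing.LBaseChange (algebraMap A B)).obj K)) :
    DRing.IsPseudoCoherent A m K := by
  obtain ⟨n, hn⟩ := pc_bounded h
  have hnK : IsAbove n K := by
    have := exists_bc_rep hsurj hnil K (n - 1) (by simpa using hn)
    simpa using this
  suffices H : ∀ (d : ℕ) (K : Dual.D A), IsAbove (m + d) K →
      DRing.IsPseudoCoherent B m ((DRing.LBaseChange (algebraMap A B)).obj K) →
      DRing.IsPseudoCoherent A m K from H (n - m).toNat K (isAbove_mono (by lia) hnK) h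
  intro d
  induction d with
  | zero => exact fun K hK _ => pc_of_isAbove (by simpa using hK)
  | succ d ih =>
    intro K hab hK
    obtain ⟨P, hPb, hP, ⟨eP⟩⟩ := exists_proj_rep_top K (m + d) (isAbove_mono (by push_cast; lia) hab)
    haveI := isKProjective_of_vanishesAbove hPb hP
    have hK' : DRing.IsPseudoCoherent B m (DRing.toD ((bc (algebraMap A B)).obj P)) :=
      pc_of_iso ((DRing.LBaseChange (algebraMap A B)).mapIso eP.symm ≪≫ lBaseChangeIso (algebraMap A B) P) hK
    have hfin : Module.Finite A (P.homology (m + d)) := by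
      refine finite_top_bc hsurj hnil (m + d) hPb ?_
      haveI : Module.Finite B ((DerivedCategory.Q ⋙ DerivedCategory.homologyFunctor (ModuleCat.{u} B) (m + d)).obj
          ((bc (algebraMap A B)).obj P)) :=
        finite_top (pc_mono (show m ≤ m + d by lia) hK') fun j hj =>
          (ShortComplex.isZero_homology_of_isZero_X₂ _
            ((ModuleCat.extendScalars.{u, u, u} (algebraMap A B)).map_isZero (hPb j (by lia)))).of_iso
            ((homologyFunctorFactors (ModuleCat.{u} B) j).app _)
      exact Module.Finite.equiv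
        ((homologyFunctorFactors (ModuleCat.{u} B) (m + d)).app ((bc (algebraMap A B)).obj P)).toLinearEquiv
    obtain ⟨F, f, hF, hFf, hC⟩ := exists_top_cover P (m + d)
      (fun j hj => ShortComplex.isZero_homology_of_isZero_X₂ _ (hPb j hj)) hfin
    have hFpc : ∀ j, DRing.IsPseudoCoherent A j (DRing.toD F) := fun j =>
      pc_iff.2 ⟨F, _, _, 𝟙 _, hF, hFf, mIso_of_isIso j _⟩
    have hFp : ∀ j, Projective (F.X j) := projective_X (termwiseFiniteProjective_of_free hFf)
    haveI : (CochainComplex.mappingCone f).IsKProjective :=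
      isKProjective_of_vanishesAbove (b := m + d)
        (fun j hj => IsZero.of_iso (biprod_isZero_iff _ _ |>.2 ⟨hF (j + 1) (by lia), hPb j hj⟩)
          (HomologicalComplex.homotopyCofiber.XIsoBiprod f j (j + 1) rfl))
        fun j => by
          haveI := hFp (j + 1); haveI := hP j
          exact Projective.of_iso (HomologicalComplex.homotopyCofiber.XIsoBiprod f j (j + 1) rfl).symm
            inferInstance
    have hCpc : DRing.IsPseudoCoherent A m (DRing.toD (CochainComplex.mappingCone f)) := by
      refine ih _ hC (pc_of_iso (lBaseChangeIso (algebraMap A B) (CochainComplex.mappingCone f)).symm ?_)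
      exact pc_of_iso (DerivedCategory.Q.mapIso (CochainComplex.mappingCone.mapHomologicalComplexIso f
          (ModuleCat.extendScalars.{u, u, u} (algebraMap A B)))).symm
        (pc_obj₃ _ (DerivedCategory.mappingCone_triangle_distinguished ((bc (algebraMap A B)).map f)) m
          (pc_bc (algebraMap A B) (fun j hj => hF j (Or.inr hj)) hFp (m + 1) (hFpc _)) hK')
    exact pc_of_iso eP (pc_obj₂ _ (DerivedCategory.mappingCone_triangle_distinguished f) m (hFpc m) hCpc)

theorem pc'_nilp_iff (hsurj : Function.Surjective (algebraMap A B))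
    (hnil : IsNilpotent (RingHom.ker (algebraMap A B))) (K : Dual.D A) :
    DRing.IsPseudoCoherent' B ((DRing.LBaseChange (algebraMap A B)).obj K) ↔ DRing.IsPseudoCoherent' A K := by
  rw [pc'_iff, pc'_iff]
  exact forall_congr' fun m => ⟨pc_of_nilp hsurj hnil m K, pc_lBaseChange _ K m⟩

theorem isPerfect_of_nilp (hsurj : Function.Surjective (algebraMap A B))
    (hnil : IsNilpotent (RingHom.ker (algebraMap A B))) (K : Dual.D A)
    (h : DRing.IsPerfect B ((DRing.LBaseChange (algebraMap A B)).obj K)) : DRing.IsPerfect A K := by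
  obtain ⟨hpc, a, b, hab⟩ := (isPerfect_iff _).1 h
  exact (isPerfect_iff K).2 ⟨(pc'_nilp_iff hsurj hnil K).1 hpc, a, b, (amp_nilp_iff hsurj hnil K a b).1 hab⟩

end Nilp

end Groth.Agent.DRingKP
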