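import Groth.Agent.DRingKP.FlatBC
import Mathlib.Algebra.Category.ModuleCat.Monoidal.Adjunction
import Mathlib.RingTheory.Localization.BaseChange
import Mathlib.RingTheory.Finiteness.Descent

/-!
Descent of pseudo-coherence and tor amplitude along faithfully flat families.
-/

set_option autoImplicit false
set_option linter.style.haveILetI false
universe u v

namespace Groth.Agent.DRingKP

open CategoryTheory Limits DerivedCategory MonoidalCategory HomologicalComplex TensorProduct

attribute [local instance] HasDerivedCategory.standard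

variable {A : Type u} [CommRing A]

/-- a family of algebras detecting zero modules -/
def Detects {ι : Type v} (B : ι → Type u) [∀ i, CommRing (B i)] [∀ i, Algebra A (B i)] : Prop :=
  ∀ (M : Type u) [AddCommGroup M] [Module A M], (∀ i, Subsingleton (B i ⊗[A] M)) → Subsingleton M

theorem detects_of_faithfullyFlat (B : Type u) [CommRing B] [Algebra A B] [Module.FaithfullyFlat A B] :
    Detects (A := A) fun _ : Unit => B := fun M _ _ h => by
  haveI := h ()
  exact Module.FaithfullyFlat.lTensor_reflects_triviality A B M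

theorem detects_away {ι : Type v} (f : ι → A) (hf : Ideal.span (Set.range f) = ⊤) :
    Detects (A := A) fun i => Localization.Away (f i) := fun M _ _ h => by
  refine subsingleton_of_forall_eq 0 fun x => ?_
  have hx : ∀ i, ∃ n : ℕ, f i ^ n • x = 0 := fun i => by
    haveI := h i
    obtain ⟨⟨c, n, rfl⟩, hc⟩ := (IsLocalizedModule.eq_zero_iff (Submonoid.powers (f i))
      (TensorProduct.mk A (Localization.Away (f i)) M 1) (m := x)).1 (Subsingleton.elim _ _)
    exact ⟨n, hc⟩
  choose n hn using hx
  have htop : Ideal.span (Set.range fun i => f i ^ n i) = ⊤ := by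
    rw [← Ideal.radical_eq_top, eq_top_iff, ← hf, Ideal.span_le]
    rintro _ ⟨i, rfl⟩
    exact ⟨n i, Ideal.subset_span ⟨i, rfl⟩⟩
  have hle : Ideal.span (Set.range fun i => f i ^ n i) ≤ LinearMap.ker (LinearMap.toSpanSingleton A M x) := by
    rw [Ideal.span_le]
    rintro _ ⟨i, rfl⟩
    simpa using hn i
  simpa using hle (htop.ge (show (1 : A) ∈ (⊤ : Ideal A) from Submodule.mem_top))

/-- finiteness descends -/
theorem finite_of_detects {ι : Type v} [Finite ι] (B : ι → Type u) [∀ i, CommRing (B i)]
    [∀ i, Algebra A (B i)] (hB : Detects (A := A) B) (M : Type u) [AddCommGroup M] [Module A M]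
    (h : ∀ i, Module.Finite (B i) (B i ⊗[A] M)) : Module.Finite A M := by
  haveI := Fintype.ofFinite ι
  have hi : ∀ i, ∃ N : Submodule A M, N.FG ∧ ∀ x : B i ⊗[A] M,
      LinearMap.baseChange (B i) N.mkQ x = 0 := fun i => by
    haveI := h i
    obtain ⟨n, s, hs⟩ := Module.Finite.exists_fin (R := B i) (M := B i ⊗[A] M)
    choose k t m hm using fun j : Fin n => TensorProduct.exists_sum_tmul_eq (s j)
    let N := Submodule.span A (Set.range fun p : (Σ j, Fin (k j)) => m p.1 p.2)
    refine ⟨N, Submodule.fg_span (Set.finite_range _), fun x => ?_⟩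
    have hle : Submodule.span (B i) (Set.range s) ≤ LinearMap.ker (LinearMap.baseChange (B i) N.mkQ) := by
      rw [Submodule.span_le]
      rintro _ ⟨j, rfl⟩
      simp only [SetLike.mem_coe, LinearMap.mem_ker, hm j, map_sum, LinearMap.baseChange_tmul]
      refine Finset.sum_eq_zero fun l _ => ?_
      rw [Submodule.mkQ_apply, (Submodule.Quotient.mk_eq_zero N).2 (Submodule.subset_span ⟨⟨j, l⟩, rfl⟩), tmul_zero]
    exact hle (by rw [hs]; exact Submodule.mem_top)
  choose N hN hz using hi
  let S : Submodule A M := ⨆ i, N i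
  have hsub : Subsingleton (M ⧸ S) := hB _ fun i => by
    refine subsingleton_of_forall_eq 0 fun y => ?_
    obtain ⟨x, rfl⟩ := LinearMap.lTensor_surjective (B i) (Submodule.mkQ_surjective S) y
    have hfac : S.mkQ = ((N i).mapQ S LinearMap.id (le_iSup N i)) ∘ₗ (N i).mkQ := LinearMap.ext fun _ => rfl
    rw [hfac, LinearMap.lTensor_comp, LinearMap.comp_apply]
    exact (congrArg _ (hz i x)).trans (map_zero _)
  have : S = ⊤ := (Submodule.Quotient.subsingleton_iff (p := S)).1 hsub
  exact ⟨this ▸ Submodule.fg_iSup N hN⟩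

section Family

variable {ι : Type v} {B : ι → Type u} [∀ i, CommRing (B i)] [∀ i, Algebra A (B i)]
  [∀ i, Module.Flat A (B i)]

lemma preservesFiniteLimits_ext (i : ι) :
    PreservesFiniteLimits (ModuleCat.extendScalars.{u, u, u} (algebraMap A (B i))) :=
  ModuleCat.preservesFiniteLimits_extendScalars_of_flat (RingHom.flat_algebraMap_iff.mpr inferInstance)

/-- exact base change commutes with cohomology -/
noncomputable def bcHomologyIso (i : ι) (K : DRing.Cx A) (n : ℤ) :
    ((bc (algebraMap A (B i))).obj K).homology n ≅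
      (ModuleCat.extendScalars.{u, u, u} (algebraMap A (B i))).obj (K.homology n) :=
  haveI := preservesFiniteLimits_ext (A := A) (B := B) i
  haveI : PreservesFiniteColimits (ModuleCat.extendScalars.{u, u, u} (algebraMap A (B i))) := inferInstance
  (K.sc n).mapHomologyIso (ModuleCat.extendScalars.{u, u, u} (algebraMap A (B i)))

/-- cohomology in the derived category of the base change -/
noncomputable def bcHHIso (i : ι) (K : DRing.Cx A) (n : ℤ) :
    (DerivedCategory.homologyFunctor (ModuleCat.{u} (B i)) n).obj
        (DRing.toD ((bc (algebraMap A (B i))).obj K)) ≅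
      ModuleCat.of (B i) (B i ⊗[A] (K.homology n)) :=
  (homologyFunctorFactors (ModuleCat.{u} (B i)) n).app _ ≪≫ bcHomologyIso i K n ≪≫
    extendTensorIso (K.homology n)

lemma isZero_homology_of_bc (hB : Detects (A := A) B) (K : DRing.Cx A) (n : ℤ)
    (h : ∀ i, IsZero ((DerivedCategory.homologyFunctor (ModuleCat.{u} (B i)) n).obj
      (DRing.toD ((bc (algebraMap A (B i))).obj K)))) : IsZero (K.homology n) :=
  @ModuleCat.isZero_of_subsingleton _ _ (K.homology n) (hB _ fun i =>
    ModuleCat.subsingleton_of_isZero ((h i).of_iso (bcHHIso i K n).symm))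

lemma isAbove_of_bc (hB : Detects (A := A) B) (K : DRing.Cx A) (n : ℤ)
    (h : ∀ i, IsAbove n (DRing.toD ((bc (algebraMap A (B i))).obj K))) : IsAbove n (DRing.toD K) :=
  fun j hj => (isZero_homology_of_bc hB K j fun i => h i j hj).of_iso
    ((homologyFunctorFactors (ModuleCat.{u} A) j).app K)

/-- base change of `P ⊗ M` -/
noncomputable def bcTRIso {B' : Type u} [CommRing B'] (φ : A →+* B') (P : DRing.Cx A) (M : ModuleCat.{u} A) :
    (tR ((ModuleCat.extendScalars.{u, u, u} φ).obj M)).obj ((bc φ).obj P) ≅ (bc φ).obj ((tR M).obj P) :=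
  HomologicalComplex.Hom.isoOfComponents
    (fun n => Functor.Monoidal.μIso (ModuleCat.extendScalars.{u, u, u} φ) (P.X n) M)
    (fun i j _ => (Functor.LaxMonoidal.μ_natural_left (ModuleCat.extendScalars.{u, u, u} φ) (P.d i j) M).symm)

theorem amp_of_bc (hB : Detects (A := A) B) (K : DRing.Cx A) (a b : ℤ)
    (hK : ∀ i, DRing.HasTorAmplitudeIn (B i) a b (DRing.toD ((bc (algebraMap A (B i))).obj K))) :
    DRing.HasTorAmplitudeIn A a b (DRing.toD K) := by
  have hab : IsAbove (b + 1) (DRing.toD K) := isAbove_of_bc hB K _ fun i j hj => by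
    obtain ⟨E, hE, -, ⟨e⟩⟩ := hK i
    exact ((ShortComplex.isZero_homology_of_isZero_X₂ _ (hE j (Or.inr (by lia)))).of_iso
      ((homologyFunctorFactors _ j).app E)).of_iso
        ((DerivedCategory.homologyFunctor (ModuleCat.{u} (B i)) j).mapIso e).symm
  obtain ⟨P, c, hc, hP, ⟨eP⟩⟩ := exists_proj_rep_le _ ⟨_, hab⟩
  refine amp_iff_torVan.2 ⟨P, c, hc, flat_of_projective hP, ⟨eP⟩, fun M j hj => ?_⟩
  refine isZero_homology_of_bc hB _ j fun i => ?_
  have hv : Van a b ((bc (algebraMap A (B i))).obj P) := torVan_rep (torVan_of_amp (hK i))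
    (fun k hk => (ModuleCat.extendScalars.{u, u, u} (algebraMap A (B i))).map_isZero (hc k hk))
    (fun k => extendScalars_flat _ (flat_of_projective hP k))
    (bcDIso _ (RingHom.flat_algebraMap_iff.mpr inferInstance) eP)
  exact (hv _ j hj).of_iso ((homologyFunctorFactors (ModuleCat.{u} (B i)) j).app _ ≪≫
    (HomologicalComplex.homologyFunctor _ _ j).mapIso (bcTRIso (algebraMap A (B i)) P M).symm)

theorem pc_of_bc [Finite ι] (hB : Detects (A := A) B) (m : ℤ) (K : DRing.Cx A)
    (hK : ∀ i, DRing.IsPseudoCoherent (B i) m (DRing.toD ((bc (algebraMap A (B i))).obj K))) :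
    DRing.IsPseudoCoherent A m (DRing.toD K) := by
  choose n hn using fun i => pc_bounded (hK i)
  obtain ⟨N, hN⟩ := Finite.bddAbove_range n
  suffices H : ∀ (d : ℕ) (K : DRing.Cx A), IsAbove (m + d) (DRing.toD K) →
      (∀ i, DRing.IsPseudoCoherent (B i) m (DRing.toD ((bc (algebraMap A (B i))).obj K))) →
      DRing.IsPseudoCoherent A m (DRing.toD K) from
    H (N - m).toNat K (isAbove_of_bc hB K _ fun i =>
      isAbove_mono (by have := hN ⟨i, rfl⟩; lia) (hn i)) hK
  intro d
  induction d with
  | zero => intro K hK _; exact pc_of_isAbove (by simpa using hK)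
  | succ d ih =>
    intro K hab hK
    obtain ⟨k, rfl⟩ : ∃ k, k = m + (d : ℤ) := ⟨_, rfl⟩
    have hz : ∀ j, m + (d : ℤ) < j → IsZero (K.homology j) := fun j hj =>
      (hab j (by push_cast; lia)).of_iso ((homologyFunctorFactors (ModuleCat.{u} A) j).app K).symm
    have hfin : Module.Finite A (K.homology (m + d)) := finite_of_detects B hB _ fun i => by
      haveI := finite_top (pc_mono (show m ≤ m + d by lia) (hK i)) fun j hj =>
        (@ModuleCat.isZero_of_subsingleton _ _ (ModuleCat.of (B i) (B i ⊗[A] (K.homology j)))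
          (by haveI := ModuleCat.subsingleton_of_isZero (hz j (by lia)); exact inferInstanceAs
            (Subsingleton (B i ⊗[A] (K.homology j))))).of_iso (bcHHIso i K j)
      exact Module.Finite.equiv (bcHHIso i K (m + d)).toLinearEquiv
    obtain ⟨r, p, hp⟩ := Module.Finite.exists_fin' A (K.homology (m + d))
    let F : ModuleCat.{u} A := ModuleCat.of A (Fin r → A)
    haveI : CategoryTheory.Projective F :=
      (IsProjective.iff_projective (ModuleCat.of A (Fin r → A))).1 inferInstance
    let ε : F ⟶ K.cycles (m + d) := Projective.factorThru (ModuleCat.ofHom p) (K.homologyπ (m + d))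
    let P : DRing.Cx A := (HomologicalComplex.single _ (ComplexShape.up ℤ) (m + d)).obj F
    let f : P ⟶ K := HomologicalComplex.mkHomFromSingle (ε ≫ K.iCycles (m + d)) fun k _ => by simp
    haveI hepi : Epi (HomologicalComplex.homologyMap f (m + d)) := by
      haveI : Epi (ModuleCat.ofHom p) := (ModuleCat.epi_iff_surjective _).2 hp
      refine @epi_of_epi_fac _ _ _ _ _ (((HomologicalComplex.singleObjHomologySelfIso _ (m + d) F).inv)) _
        (ModuleCat.ofHom p) ‹_› ?_
      have hc : (HomologicalComplex.singleObjCyclesSelfIso (ComplexShape.up ℤ) (m + d) F).inv ≫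
          HomologicalComplex.cyclesMap f (m + d) = ε := by
        rw [← cancel_mono (K.iCycles (m + d))]
        simp [f, P, HomologicalComplex.mkHomFromSingle_f]
      rw [← HomologicalComplex.singleObjCyclesSelfIso_inv_homologyπ, Category.assoc,
        HomologicalComplex.homologyπ_naturality, reassoc_of% hc]
      exact Projective.factorThru_comp _ _
    have hC : IsAbove (m + d) (DRing.toD (CochainComplex.mappingCone f)) :=
      (mIso_iff (m + d) _ (DerivedCategory.mappingCone_triangle_distinguished f)).1 (by
        constructor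
        · intro j hj
          have h1 : IsZero (P.homology j) := ShortComplex.isZero_homology_of_isZero_X₂ _
            (HomologicalComplex.isZero_single_obj_X (ComplexShape.up ℤ) _ _ j (by lia))
          exact ⟨0, (h1.of_iso ((homologyFunctorFactors _ j).app P)).eq_of_src _ _,
            ((hz j hj).of_iso ((homologyFunctorFactors _ j).app K)).eq_of_src _ _⟩
        · exact (MorphismProperty.epimorphisms _).arrow_mk_iso_iff
            (Arrow.isoMk ((homologyFunctorFactors _ _).app P) ((homologyFunctorFactors _ _).app K)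
              ((homologyFunctorFactors _ _).hom.naturality f).symm) |>.2 hepi)
    have hPf : DRing.TermwiseFiniteFree P := fun j => by
      by_cases hj : j = m + d
      · subst hj
        let e := (HomologicalComplex.singleObjXSelf (ComplexShape.up ℤ) (m + d) F).toLinearEquiv.symm
        exact ⟨Module.Finite.equiv e, Module.Free.of_equiv e⟩
      · exact finiteFree_of_isZero (HomologicalComplex.isZero_single_obj_X _ _ _ j hj)
    have hPv : DRing.VanishesOutside P (m + d) (m + d) := fun j hj =>
      HomologicalComplex.isZero_single_obj_X _ _ _ j (by lia)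
    have hP : ∀ m', DRing.IsPseudoCoherent A m' (DRing.toD P) := fun m' =>
      pc_iff.2 ⟨P, _, _, 𝟙 _, hPv, hPf, mIso_of_isIso m' _⟩
    refine pc_obj₂ _ (DerivedCategory.mappingCone_triangle_distinguished f) m (hP m)
      (ih _ hC fun i => ?_)
    exact pc_of_iso (DerivedCategory.Q.mapIso (CochainComplex.mappingCone.mapHomologicalComplexIso f
        (ModuleCat.extendScalars.{u, u, u} (algebraMap A (B i)))).symm)
      (pc_obj₃ _ (DerivedCategory.mappingCone_triangle_distinguished
        ((bc (algebraMap A (B i))).map f)) m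
        (pc_bc_of_flat _ (RingHom.flat_algebraMap_iff.mpr inferInstance) P _ (hP _)) (hK i))

theorem pc'_of_bc [Finite ι] (hB : Detects (A := A) B) (K : DRing.Cx A)
    (hK : ∀ i, DRing.IsPseudoCoherent' (B i) (DRing.toD ((bc (algebraMap A (B i))).obj K))) :
    DRing.IsPseudoCoherent' A (DRing.toD K) :=
  pc'_of_forall fun m => pc_of_bc hB m K fun i => pc_of_pc' (hK i) m

end Family

end Groth.Agent.DRingKP
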