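import Groth.Agent.DRingKP.Descend
import Groth.Agent.DRingKP.Restrict

/-!
Descent and restriction of perfect objects.
-/

set_option autoImplicit false
set_option linter.style.haveILetI false
universe u v

namespace Groth.Agent.DRingKP

open CategoryTheory Limits DerivedCategory HomologicalComplex

attribute [local instance] HasDerivedCategory.standard

theorem isPerfect_of_bc {A : Type u} [CommRing A] {ι : Type v} [Finite ι] {B : ι → Type u}
    [∀ i, CommRing (B i)] [∀ i, Algebra A (B i)] [∀ i, Module.Flat A (B i)]
    (hB : Detects (A := A) B) (K : DRing.Cx A)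
    (hK : ∀ i, DRing.IsPerfect (B i) (DRing.toD ((bc (algebraMap A (B i))).obj K))) :
    DRing.IsPerfect A (DRing.toD K) := by
  choose a b hab using fun i => finiteTor_of_isPerfect (hK i)
  obtain ⟨a₀, ha⟩ := Finite.bddBelow_range a
  obtain ⟨b₀, hb⟩ := Finite.bddAbove_range b
  refine (isPerfect_iff _).2 ⟨pc'_of_bc hB K fun i => pc'_of_isPerfect (hK i), a₀, b₀,
    amp_of_bc hB K a₀ b₀ fun i => ?_⟩
  exact amp_widen (ha ⟨i, rfl⟩) (hb ⟨i, rfl⟩) (hab i)

variable {A B : Type u} [CommRing A] [CommRing B] [Algebra A B]

lemma amp_res_of_finiteProjective {c d : ℤ} (hB : DRing.HasTorAmplitudeIn A c d (Dual.inD A B))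
    (M : ModuleCat.{u} B) [Module.Finite B M] [Module.Projective B M] :
    DRing.HasTorAmplitudeIn A c d
      (Dual.inD A ((ModuleCat.restrictScalars.{u} (algebraMap A B)).obj M)) := by
  have key : ∀ n : ℕ, DRing.HasTorAmplitudeIn A c d (Dual.inD A (Fin n → B)) := by
    intro n
    induction n with
    | zero =>
      exact amp_of_isZero c d ((DerivedCategory.singleFunctor (ModuleCat.{u} A) 0).map_isZero
        (ModuleCat.isZero_of_subsingleton _))
    | succ n ih =>
      let S := ShortComplex.Splitting.ofHasBinaryBiproduct (ModuleCat.of A B) (ModuleCat.of A (Fin n → B))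
      have h2 := amp_obj₂ _ (ShortComplex.ShortExact.singleTriangle_distinguished S.shortExact) hB ih
      exact amp_of_iso ((DerivedCategory.singleFunctor (ModuleCat.{u} A) 0).mapIso
        (ModuleCat.biprodIsoProd (ModuleCat.of A B) (ModuleCat.of A (Fin n → B)) ≪≫
          (Fin.consLinearEquiv A (fun _ : Fin (n + 1) => B)).toModuleIso)) h2
  obtain ⟨r, p, hp⟩ := Module.Finite.exists_fin' B M
  obtain ⟨s, hs⟩ := Module.projective_lifting_property p LinearMap.id hp
  let s' : ModuleCat.of A ((ModuleCat.restrictScalars.{u} (algebraMap A B)).obj M) ⟶ ModuleCat.of A (Fin r → B) :=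
    ModuleCat.ofHom
      { toFun := fun x => s x
        map_add' := fun x y => s.map_add x y
        map_smul' := fun a x => by
          refine (s.map_smul (algebraMap A B a) x).trans ?_
          ext i; simp [Algebra.smul_def] }
  let p' : ModuleCat.of A (Fin r → B) ⟶
      ModuleCat.of A ((ModuleCat.restrictScalars.{u} (algebraMap A B)).obj M) :=
    ModuleCat.ofHom
      { toFun := fun x => p x
        map_add' := fun x y => p.map_add x y
        map_smul' := fun a x => by
          have h : a • x = algebraMap A B a • x := by ext i; simp [Algebra.smul_def]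
          exact (congrArg p h).trans (p.map_smul (algebraMap A B a) x) }
  have hsp : s' ≫ p' = 𝟙 _ := by
    refine ModuleCat.hom_ext (LinearMap.ext fun x => ?_)
    exact LinearMap.congr_fun hs x
  refine amp_iff_torVan.2 (torVan_retract (torVan_of_amp (key r))
    ((DerivedCategory.singleFunctor (ModuleCat.{u} A) 0).map s')
    ((DerivedCategory.singleFunctor (ModuleCat.{u} A) 0).map p') ?_)
  rw [← Functor.map_comp, hsp, CategoryTheory.Functor.map_id]

theorem isPerfect_res (hB : DRing.IsPerfectModule A B) (K : Dual.D B) (hK : DRing.IsPerfect B K) :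
    DRing.IsPerfect A ((DRing.restrictD (algebraMap A B)).obj K) := by
  obtain ⟨c, d, hcd⟩ := finiteTor_of_isPerfect hB
  refine (isPerfect_iff _).2 ⟨(pc'_res_iff (pc'_of_isPerfect hB) K).1 (pc'_of_isPerfect hK), ?_⟩
  obtain ⟨E, a, b, hE, hEp, ⟨e⟩⟩ := hK
  refine ⟨a + c, b + d, amp_of_iso
    (((ModuleCat.restrictScalars.{u} (algebraMap A B)).mapDerivedCategoryFactors.app E).symm ≪≫
      (DRing.restrictD (algebraMap A B)).mapIso e)
    (amp_of_termwise _ _ a b
      (((ModuleCat.restrictScalars.{u} (algebraMap A B)).mapHomologicalComplex (ComplexShape.up ℤ)).obj E)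
      (fun i hi => (ModuleCat.restrictScalars.{u} (algebraMap A B)).map_isZero (hE i hi)) fun i => ?_)⟩
  by_cases hi : i < a ∨ b < i
  · exact amp_of_isZero _ _ ((DerivedCategory.singleFunctor (ModuleCat.{u} A) 0).map_isZero
      ((ModuleCat.restrictScalars.{u} (algebraMap A B)).map_isZero (hE i hi)))
  · haveI := (hEp i).1
    haveI := (hEp i).2
    exact amp_widen (by lia) (by lia) (amp_res_of_finiteProjective hcd (E.X i))

end Groth.Agent.DRingKP
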