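import Groth.Agent.DRingKP.KProj
import Groth.Prelude.Def_DDual2

/-!
Left derived functors on `D(A)` are computed by K-projective complexes.
-/

set_option autoImplicit false
set_option linter.style.haveILetI false
universe u v w

namespace Groth.Agent.DRingKP

open CategoryTheory Limits

attribute [local instance] HasDerivedCategory.standard

variable {A : Type u} [CommRing A]

local notation "qq" => HomotopyCategory.quotient (ModuleCat _) (ComplexShape.up ℤ)

instance hasTwoOutOfThree :
    (HomotopyCategory.quasiIso (ModuleCat.{u} A) (ComplexShape.up ℤ)).HasTwoOutOfThreeProperty where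
  comp_mem f g hf hg i := by
    have := hf i; have := hg i
    rw [Functor.map_comp]; infer_instance
  of_postcomp f g hg hfg i := by
    have := hg i
    have h := hfg i
    rw [Functor.map_comp] at h
    exact IsIso.of_isIso_comp_right _ ((HomotopyCategory.homologyFunctor _ _ i).map g)
  of_precomp f g hf hfg i := by
    have := hf i
    have h := hfg i
    rw [Functor.map_comp] at h
    exact IsIso.of_isIso_comp_left ((HomotopyCategory.homologyFunctor _ _ i).map f) _

/-- the K-projective objects of the homotopy category -/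
def kProj : ObjectProperty (HomotopyCategory (ModuleCat.{u} A) (ComplexShape.up ℤ)) :=
  fun X => CochainComplex.IsKProjective X.as

lemma bijective_Qh_map {X : HomotopyCategory (ModuleCat.{u} A) (ComplexShape.up ℤ)} (hX : kProj X)
    (Y : HomotopyCategory (ModuleCat.{u} A) (ComplexShape.up ℤ)) :
    Function.Bijective (DerivedCategory.Qh.map : (X ⟶ Y) → _) :=
  haveI : CochainComplex.IsKProjective X.as := hX
  CochainComplex.IsKProjective.Qh_map_bijective X.as Y

/-- a chosen resolution -/
noncomputable def resObj (X : HomotopyCategory (ModuleCat.{u} A) (ComplexShape.up ℤ)) :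
    HomotopyCategory (ModuleCat.{u} A) (ComplexShape.up ℤ) :=
  (qq).obj (exists_kProj_resolution X.as).choose

lemma kProj_resObj (X : HomotopyCategory (ModuleCat.{u} A) (ComplexShape.up ℤ)) : kProj (resObj X) :=
  (exists_kProj_resolution X.as).choose_spec.choose_spec.1

/-- its augmentation -/
noncomputable def resπ (X : HomotopyCategory (ModuleCat.{u} A) (ComplexShape.up ℤ)) : resObj X ⟶ X :=
  (qq).map (exists_kProj_resolution X.as).choose_spec.choose

lemma quasiIso_resπ (X : HomotopyCategory (ModuleCat.{u} A) (ComplexShape.up ℤ)) :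
    HomotopyCategory.quasiIso _ _ (resπ X) :=
  (HomotopyCategory.quotient_map_mem_quasiIso_iff _).2
    (exists_kProj_resolution X.as).choose_spec.choose_spec.2

instance isIso_Qh_resπ (X : HomotopyCategory (ModuleCat.{u} A) (ComplexShape.up ℤ)) :
    IsIso (DerivedCategory.Qh.map (resπ X)) :=
  Localization.inverts DerivedCategory.Qh _ _ (quasiIso_resπ X)

/-- resolutions are functorial up to homotopy -/
noncomputable def resMap {X Y : HomotopyCategory (ModuleCat.{u} A) (ComplexShape.up ℤ)} (f : X ⟶ Y) :
    resObj X ⟶ resObj Y :=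
  ((bijective_Qh_map (kProj_resObj X) (resObj Y)).2
    (DerivedCategory.Qh.map (resπ X ≫ f) ≫ inv (DerivedCategory.Qh.map (resπ Y)))).choose

lemma resMap_spec {X Y : HomotopyCategory (ModuleCat.{u} A) (ComplexShape.up ℤ)} (f : X ⟶ Y) :
    DerivedCategory.Qh.map (resMap f) =
      DerivedCategory.Qh.map (resπ X ≫ f) ≫ inv (DerivedCategory.Qh.map (resπ Y)) :=
  ((bijective_Qh_map (kProj_resObj X) (resObj Y)).2 _).choose_spec

/-- the resolution functor -/
noncomputable def resFun : HomotopyCategory (ModuleCat.{u} A) (ComplexShape.up ℤ) ⥤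
    HomotopyCategory (ModuleCat.{u} A) (ComplexShape.up ℤ) where
  obj := resObj
  map := resMap
  map_id X := (bijective_Qh_map (kProj_resObj X) _).1 (by simp [resMap_spec])
  map_comp {X Y Z} f g := (bijective_Qh_map (kProj_resObj X) _).1 (by simp [resMap_spec])

/-- the augmentation -/
noncomputable def resNat : resFun ⟶ 𝟭 (HomotopyCategory (ModuleCat.{u} A) (ComplexShape.up ℤ)) where
  app := resπ
  naturality X Y f := (bijective_Qh_map (kProj_resObj X) _).1 (by
    change DerivedCategory.Qh.map (resMap f ≫ resπ Y) = DerivedCategory.Qh.map (resπ X ≫ f)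
    simp [resMap_spec])

variable {E : Type w} [Category.{v} E] [Abelian E] [HasDerivedCategory E]
  (T : ModuleCat.{u} A ⥤ E) [T.Additive]

/-- the derived functor datum of an additive functor -/
noncomputable def leftRes :
    KFlat.LeftRes (HomotopyCategory.quasiIso (ModuleCat.{u} A) (ComplexShape.up ℤ))
      (T.mapHomotopyCategory (ComplexShape.up ℤ) ⋙ DerivedCategory.Qh) kProj where
  ρ := resFun
  ψ := resNat
  mem := kProj_resObj
  weq := quasiIso_resπ
  isIso_map {X Y} f hX hY hf := by
    obtain ⟨g, rfl⟩ := (qq).map_surjective (X := X.as) (Y := Y.as) f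
    haveI : CochainComplex.IsKProjective X.as := hX
    haveI : CochainComplex.IsKProjective Y.as := hY
    have hg : QuasiIso g := (HomotopyCategory.quotient_map_mem_quasiIso_iff g).1 hf
    haveI : IsIso ((qq).map g) := by
      have := (CochainComplex.IsKProjective.quasiIso_iff g).1 hg
      rwa [← HomotopyCategory.inverseImage_quotient_isomorphisms] at this
    exact Functor.map_isIso _ ((qq).map g)

/-- total left derived functors exist on `D(A)` -/
theorem hasLeftDerivedFunctor :
    (T.mapHomotopyCategory (ComplexShape.up ℤ) ⋙ DerivedCategory.Qh).HasLeftDerivedFunctor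
      (HomotopyCategory.quasiIso (ModuleCat.{u} A) (ComplexShape.up ℤ)) :=
  (leftRes T).hasLeftDerivedFunctor

/-- any left derived functor of an additive functor is computed on K-projective complexes -/
theorem isIso_app (G : Dual.D A ⥤ DerivedCategory E)
    (α : DerivedCategory.Qh ⋙ G ⟶ T.mapHomotopyCategory (ComplexShape.up ℤ) ⋙ DerivedCategory.Qh)
    [G.IsLeftDerivedFunctor α (HomotopyCategory.quasiIso (ModuleCat.{u} A) (ComplexShape.up ℤ))]
    (P : DRing.Cx A) [P.IsKProjective] : IsIso (α.app ((qq).obj P)) :=
  (leftRes T).isIso_app G α (show kProj ((qq).obj P) from ‹P.IsKProjective›)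

variable {B : Type u} [CommRing B] (φ : A →+* B)

/-- derived base change exists -/
theorem hasLBaseChange : DRing.HasLBaseChange φ :=
  hasLeftDerivedFunctor (ModuleCat.extendScalars.{u, u, u} φ)

/-- base change of complexes -/
noncomputable abbrev bc : DRing.Cx A ⥤ DRing.Cx B :=
  (ModuleCat.extendScalars.{u, u, u} φ).mapHomologicalComplex (ComplexShape.up ℤ)

/-- the counit at a complex -/
noncomputable def cnt [DRing.HasLBaseChange φ] (P : DRing.Cx A) :
    (DRing.LBaseChange φ).obj (DerivedCategory.Qh.obj ((qq).obj P)) ⟶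
      DerivedCategory.Qh.obj ((qq).obj ((bc φ).obj P)) :=
  ((DRing.baseChangeKh φ).totalLeftDerivedCounit DerivedCategory.Qh
    (HomotopyCategory.quasiIso (ModuleCat.{u} A) (ComplexShape.up ℤ))).app ((qq).obj P)

@[reassoc]
lemma cnt_naturality [DRing.HasLBaseChange φ] {P P' : DRing.Cx A} (g : P ⟶ P') :
    (DRing.LBaseChange φ).map (DerivedCategory.Qh.map ((qq).map g)) ≫ cnt φ P' =
      cnt φ P ≫ DerivedCategory.Qh.map ((qq).map ((bc φ).map g)) :=
  ((DRing.baseChangeKh φ).totalLeftDerivedCounit DerivedCategory.Qh
    (HomotopyCategory.quasiIso (ModuleCat.{u} A) (ComplexShape.up ℤ))).naturality ((qq).map g)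

/-- the comparison `K ⊗^L B → K ⊗ B` -/
noncomputable def cmp [DRing.HasLBaseChange φ] (P : DRing.Cx A) :
    (DRing.LBaseChange φ).obj (DRing.toD P) ⟶ DRing.toD ((bc φ).obj P) :=
  (DRing.LBaseChange φ).map ((DerivedCategory.quotientCompQhIso _).inv.app P) ≫
    cnt φ P ≫ (DerivedCategory.quotientCompQhIso _).hom.app ((bc φ).obj P)

@[reassoc]
lemma cmp_naturality [DRing.HasLBaseChange φ] {P P' : DRing.Cx A} (g : P ⟶ P') :
    (DRing.LBaseChange φ).map (DerivedCategory.Q.map g) ≫ cmp φ P' =
      cmp φ P ≫ DerivedCategory.Q.map ((bc φ).map g) := by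
  unfold cmp
  rw [← Functor.map_comp_assoc, DerivedCategory.quotientCompQhIso_inv_naturality, Functor.map_comp]
  simp only [Category.assoc]
  congr 1
  refine (cnt_naturality_assoc φ g _).trans (congrArg (cnt φ P ≫ ·) ?_)
  exact DerivedCategory.quotientCompQhIso_hom_naturality _

/-- on K-projective complexes the comparison is invertible -/
theorem isIso_cmp [DRing.HasLBaseChange φ] (P : DRing.Cx A) [P.IsKProjective] : IsIso (cmp φ P) := by
  haveI : IsIso (cnt φ P) := isIso_app (ModuleCat.extendScalars.{u, u, u} φ) (DRing.LBaseChange φ)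
    ((DRing.baseChangeKh φ).totalLeftDerivedCounit DerivedCategory.Qh
      (HomotopyCategory.quasiIso (ModuleCat.{u} A) (ComplexShape.up ℤ))) P
  unfold cmp
  infer_instance

/-- `P ⊗^L B = P ⊗ B` for K-projective `P` -/
noncomputable def lBaseChangeIso [DRing.HasLBaseChange φ] (P : DRing.Cx A) [P.IsKProjective] :
    (DRing.LBaseChange φ).obj (DRing.toD P) ≅ DRing.toD ((bc φ).obj P) :=
  haveI := isIso_cmp φ P
  asIso (cmp φ P)

end Groth.Agent.DRingKP
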