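import Groth.Agent.DRingKP.BC
import Mathlib.Algebra.Homology.DerivedCategory.SingleTriangle
import Mathlib.Algebra.Homology.DerivedCategory.FullyFaithful

/-!
Maps out of a projective module in `D(A)`, and the telescope of `A_f`.
-/

set_option autoImplicit false
set_option linter.style.haveILetI false
universe u

namespace Groth.Agent.DRingKP

open CategoryTheory Limits DerivedCategory Pretriangulated HomologicalComplex

attribute [local instance] HasDerivedCategory.standard

variable {A : Type u} [CommRing A]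

local notation "S0" => DerivedCategory.singleFunctor (ModuleCat _) 0
local notation "H0" => DerivedCategory.homologyFunctor (ModuleCat _) 0

/-- evaluation of a map out of a module in degree `0` -/
noncomputable def ev0 {P : ModuleCat.{u} A} {K : Dual.D A}
    (g : (DerivedCategory.singleFunctor (ModuleCat.{u} A) 0).obj P ⟶ K) :
    P ⟶ (DerivedCategory.homologyFunctor (ModuleCat.{u} A) 0).obj K :=
  (DerivedCategory.singleFunctorCompHomologyFunctorIso (ModuleCat.{u} A) 0).inv.app P ≫
    (DerivedCategory.homologyFunctor (ModuleCat.{u} A) 0).map g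

lemma ev0_comp {P : ModuleCat.{u} A} {K L : Dual.D A}
    (g : (DerivedCategory.singleFunctor (ModuleCat.{u} A) 0).obj P ⟶ K) (h : K ⟶ L) :
    ev0 (g ≫ h) = ev0 g ≫ (DerivedCategory.homologyFunctor (ModuleCat.{u} A) 0).map h := by
  simp [ev0]

lemma ev0_precomp {P P' : ModuleCat.{u} A} (t : P' ⟶ P) {K : Dual.D A}
    (g : (DerivedCategory.singleFunctor (ModuleCat.{u} A) 0).obj P ⟶ K) :
    ev0 ((DerivedCategory.singleFunctor (ModuleCat.{u} A) 0).map t ≫ g) = t ≫ ev0 g := by
  have h := (DerivedCategory.singleFunctorCompHomologyFunctorIso (ModuleCat.{u} A) 0).inv.naturality t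
  dsimp at h
  simp [ev0, reassoc_of% h]

/-- for projective `P` the evaluation is bijective -/
theorem ev0_bijective {P : ModuleCat.{u} A} [Projective P] (K : Dual.D A) :
    Function.Bijective (fun g : (DerivedCategory.singleFunctor (ModuleCat.{u} A) 0).obj P ⟶ K => ev0 g) := by
  suffices H : ∀ C : DRing.Cx A, Function.Bijective (fun g : (DerivedCategory.singleFunctor
      (ModuleCat.{u} A) 0).obj P ⟶ DerivedCategory.Q.obj C => ev0 g) by
    let e := DerivedCategory.Q.objObjPreimageIso K
    refine ⟨fun g g' h => ?_, fun y => ?_⟩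
    · rw [← cancel_mono e.inv]
      refine (H _).1 ?_
      simp only [ev0_comp]
      exact congrArg (· ≫ _) h
    · obtain ⟨g, hg⟩ := (H _).2 (y ≫ (DerivedCategory.homologyFunctor (ModuleCat.{u} A) 0).map e.inv)
      refine ⟨g ≫ e.hom, ?_⟩
      change ev0 (g ≫ e.hom) = y
      rw [ev0_comp, show ev0 g = _ from hg, Category.assoc, ← Functor.map_comp, e.inv_hom_id]
      simp
  intro C
  let S : DRing.Cx A := (HomologicalComplex.single (ModuleCat.{u} A) (ComplexShape.up ℤ) 0).obj P
  haveI hS : S.IsKProjective := isKProjective_of_vanishesAbove (b := 0)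
    (fun i hi => HomologicalComplex.isZero_single_obj_X (ComplexShape.up ℤ) 0 P i (by lia)) fun i => by
      by_cases hi : i = 0
      · subst hi
        exact Projective.of_iso (HomologicalComplex.singleObjXSelf (ComplexShape.up ℤ) 0 P).symm inferInstance
      · exact (HomologicalComplex.isZero_single_obj_X (ComplexShape.up ℤ) 0 P i hi).projective
  let eS : (DerivedCategory.singleFunctor (ModuleCat.{u} A) 0).obj P ≅ DerivedCategory.Q.obj S :=
    (DerivedCategory.singleFunctorIsoCompQ (ModuleCat.{u} A) 0).app P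
  let φi := DerivedCategory.homologyFunctorFactors (ModuleCat.{u} A) 0
  let a : P ≅ (DerivedCategory.homologyFunctor (ModuleCat.{u} A) 0).obj (DerivedCategory.Q.obj S) :=
    ((DerivedCategory.singleFunctorCompHomologyFunctorIso (ModuleCat.{u} A) 0).app P).symm ≪≫
      (DerivedCategory.homologyFunctor (ModuleCat.{u} A) 0).mapIso eS
  let c : P ≅ S.homology 0 := (HomologicalComplex.singleObjHomologySelfIso _ 0 P).symm
  let ui : P ≅ S.homology 0 := a ≪≫ φi.app S
  let u' : P ⟶ S.homology 0 := ui.hom
  have key : ∀ φ : S ⟶ C, ev0 (eS.hom ≫ DerivedCategory.Q.map φ) =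
      u' ≫ HomologicalComplex.homologyMap φ 0 ≫ φi.inv.app C := by
    intro φ
    simp only [ev0, u', ui, a, Iso.trans_hom, Iso.symm_hom, Iso.app_inv, Iso.app_hom, Functor.mapIso_hom, Functor.map_comp, Category.assoc]
    erw [← CategoryTheory.NatIso.naturality_2 φi φ]
    simp
    rfl
  haveI hu : IsIso u' := inferInstance
  refine ⟨fun g g' h => ?_, fun y => ?_⟩
  · obtain ⟨φ, hφ⟩ := PerfLocal.exists_lift (eS.inv ≫ g)
    obtain ⟨φ', hφ'⟩ := PerfLocal.exists_lift (eS.inv ≫ g')
    rw [← cancel_epi eS.inv, ← hφ, ← hφ']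
    have hh : HomologicalComplex.homologyMap (φ - φ') 0 = 0 := by
      rw [HomologicalComplex.homologyMap_sub, sub_eq_zero]
      have h1 := key φ
      have h2 := key φ'
      rw [hφ, Iso.hom_inv_id_assoc] at h1
      rw [hφ', Iso.hom_inv_id_assoc] at h2
      have h3 := (h1.symm.trans h).trans h2
      exact (cancel_mono (φi.app C).inv).1 ((cancel_epi u').1 h3)
    let ψ := φ - φ'
    have hd : ψ.f 0 ≫ C.d 0 1 = 0 := by
      rw [ψ.comm, (HomologicalComplex.isZero_single_obj_X (ComplexShape.up ℤ) 0 P 1 (by lia)).eq_of_tgt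
        (S.d 0 1) 0, zero_comp]
    let z : S.X 0 ⟶ C.cycles 0 := C.liftCycles (ψ.f 0) 1 (by simp) hd
    have hz : z ≫ C.homologyπ 0 = 0 := by
      have hS0 : S.d 0 1 = 0 := (HomologicalComplex.isZero_single_obj_X (ComplexShape.up ℤ) 0 P 1
        (by lia)).eq_of_tgt _ _
      have e1 : z = S.liftCycles (𝟙 _) 1 (by simp) (hS0.symm ▸ comp_zero) ≫ HomologicalComplex.cyclesMap ψ 0 := by
        rw [← cancel_mono (C.iCycles 0)]
        simp [z]
      rw [e1, Category.assoc, ← HomologicalComplex.homologyπ_naturality, hh, comp_zero, comp_zero]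
    let T := ShortComplex.mk (C.toCycles (-1) 0) (C.homologyπ 0) (C.toCycles_comp_homologyπ _ _)
    have hT : T.Exact := ShortComplex.exact_of_g_is_cokernel _ (C.homologyIsCokernel (-1) 0 (by simp))
    haveI : Projective (S.X 0) :=
      Projective.of_iso (HomologicalComplex.singleObjXSelf (ComplexShape.up ℤ) 0 P).symm inferInstance
    obtain ⟨w, hw⟩ : ∃ w : S.X 0 ⟶ C.X (-1), w ≫ C.d (-1) 0 = ψ.f 0 := by
      refine ⟨hT.liftFromProjective z hz, ?_⟩
      have := congrArg (· ≫ C.iCycles 0) (hT.liftFromProjective_comp z hz)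
      simpa [T, z] using this
    have hψ : DerivedCategory.Q.map ψ = 0 := by
      let hom : ∀ i j, S.X i ⟶ C.X j := fun i j =>
        if h : i = 0 ∧ j = -1 then (S.XIsoOfEq h.1).hom ≫ w ≫ (C.XIsoOfEq h.2.symm).hom else 0
      have hom0 : hom 0 (-1) = w := by simp [hom]
      let ho : Homotopy ψ 0 :=
        { hom := hom
          zero := fun i j hij => by
            simp only [hom]
            rw [dif_neg]
            rintro ⟨rfl, rfl⟩
            exact hij (by simp)
          comm := fun i => by
            by_cases hi : i = 0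
            · subst hi
              rw [dNext_eq _ (show (ComplexShape.up ℤ).Rel 0 1 from rfl),
                prevD_eq _ (show (ComplexShape.up ℤ).Rel (-1) 0 by simp), hom0, hw]
              simp [(HomologicalComplex.isZero_single_obj_X (ComplexShape.up ℤ) 0 P 1 (by lia)).eq_of_tgt
                (S.d 0 1) 0]
            · exact (HomologicalComplex.isZero_single_obj_X (ComplexShape.up ℤ) 0 P i hi).eq_of_src _ _ }
      rw [DerivedCategory.Q_map_eq_of_homotopy _ ho]
      simp
    simpa [ψ, sub_eq_zero] using hψ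
  · obtain ⟨w, hw⟩ : ∃ w : P ⟶ C.cycles 0, w ≫ C.homologyπ 0 = y ≫ φi.hom.app C :=
      ⟨Projective.factorThru _ _, Projective.factorThru_comp _ _⟩
    have hd : (w ≫ C.iCycles 0) ≫ C.d 0 1 = 0 := by simp
    let φ : S ⟶ C := HomologicalComplex.mkHomFromSingle (w ≫ C.iCycles 0) (fun j hj => by
      rw [Category.assoc, HomologicalComplex.iCycles_d, comp_zero])
    have hφ : c.hom ≫ HomologicalComplex.homologyMap φ 0 = y ≫ φi.hom.app C := by
      rw [← hw]
      simp only [c, Iso.symm_hom]
      rw [← HomologicalComplex.singleObjCyclesSelfIso_inv_homologyπ, Category.assoc,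
        HomologicalComplex.homologyπ_naturality, ← Category.assoc]
      congr 1
      rw [← cancel_mono (C.iCycles 0)]
      simp [φ]
    let t : P ≅ P := ui ≪≫ c.symm
    let φ' : S ⟶ C := (HomologicalComplex.single (ModuleCat.{u} A) (ComplexShape.up ℤ) 0).map t.inv ≫ φ
    refine ⟨eS.hom ≫ DerivedCategory.Q.map φ', ?_⟩
    change ev0 _ = y
    rw [key φ']
    have hn := (HomologicalComplex.homologyFunctorSingleIso (ModuleCat.{u} A) (ComplexShape.up ℤ) 0).inv.naturality t.inv
    dsimp at hn
    have hn' : c.hom ≫ HomologicalComplex.homologyMap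
        ((HomologicalComplex.single (ModuleCat.{u} A) (ComplexShape.up ℤ) 0).map t.inv) 0 = t.inv ≫ c.hom := hn.symm
    have h1 : u' = t.hom ≫ c.hom := by simp [t, u']
    rw [h1]
    simp only [φ', HomologicalComplex.homologyMap_comp, Category.assoc]
    rw [reassoc_of% hn', reassoc_of% hφ, t.hom_inv_id_assoc]
    first
      | exact (Category.assoc _ _ _).trans ((congrArg (y ≫ ·) (φi.app C).hom_inv_id).trans (Category.comp_id y))
      | exact (congrArg (y ≫ ·) (φi.app C).hom_inv_id).trans (Category.comp_id y)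

end Groth.Agent.DRingKP
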