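import Groth.Agent.DRingKP.DCPi
import Groth.Agent.DRingKP.DCEv
import Mathlib.CategoryTheory.Triangulated.Pretriangulated

/-!
Derived completion along finitely many elements.
-/

set_option autoImplicit false
set_option linter.style.haveILetI false
universe u

namespace Groth.Agent.DRingKP

open CategoryTheory Limits DerivedCategory Pretriangulated

attribute [local instance] HasDerivedCategory.standard

variable {A : Type u} [CommRing A]

/-- projection from the product -/
def prC (n : ℕ) (C : DRing.Cx A) : piCx C ⟶ C where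
  f i := ModuleCat.ofHom (LinearMap.proj n)
  comm' i j _ := rfl

lemma piD_ext {X : Dual.D A} {C : DRing.Cx A} (g : X ⟶ DerivedCategory.Q.obj (piCx C))
    (h : ∀ n, g ≫ DerivedCategory.Q.map (prC n C) = 0) : g = 0 := by
  obtain ⟨P, c, hP, hc⟩ := exists_kProj_resolution (DerivedCategory.Q.objPreimage X)
  let eP : DerivedCategory.Q.obj P ≅ X := asIso (DerivedCategory.Q.map c) ≪≫ DerivedCategory.Q.objObjPreimageIso X
  obtain ⟨φ, hφ⟩ := PerfLocal.exists_lift (eP.hom ≫ g)
  let hh := fun n => (exists_homotopy (φ ≫ prC n C) (by rw [Functor.map_comp, hφ, Category.assoc, h n, comp_zero])).some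
  let ho : Homotopy φ 0 :=
    { hom := fun i j => ModuleCat.ofHom (LinearMap.pi fun n => ((hh n).hom i j).hom)
      zero := fun i j hij => ModuleCat.hom_ext (LinearMap.ext fun y => funext fun n =>
        LinearMap.congr_fun (congrArg ModuleCat.Hom.hom ((hh n).zero i j hij)) y)
      comm := fun i => ModuleCat.hom_ext (LinearMap.ext fun y => funext fun n => by
        have := LinearMap.congr_fun (congrArg ModuleCat.Hom.hom ((hh n).comm i)) y
        rw [dNext_eq _ (show (ComplexShape.up ℤ).Rel i (i + 1) from rfl),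
          prevD_eq _ (show (ComplexShape.up ℤ).Rel (i - 1) i by simp)] at this ⊢
        exact this) }
  have h0 : DerivedCategory.Q.map φ = 0 := by rw [DerivedCategory.Q_map_eq_of_homotopy _ ho, Functor.map_zero]
  rw [← cancel_epi eP.hom, comp_zero, ← hφ, h0]

lemma piD_lift {X : Dual.D A} {C : DRing.Cx A} (x : ℕ → (X ⟶ DerivedCategory.Q.obj C)) :
    ∃ g : X ⟶ DerivedCategory.Q.obj (piCx C), ∀ n, g ≫ DerivedCategory.Q.map (prC n C) = x n := by
  obtain ⟨P, c, hP, hc⟩ := exists_kProj_resolution (DerivedCategory.Q.objPreimage X)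
  let eP : DerivedCategory.Q.obj P ≅ X := asIso (DerivedCategory.Q.map c) ≪≫ DerivedCategory.Q.objObjPreimageIso X
  choose φ hφ using fun n => PerfLocal.exists_lift (eP.hom ≫ x n)
  let Φ : P ⟶ piCx C :=
    { f := fun i => ModuleCat.ofHom (LinearMap.pi fun n => ((φ n).f i).hom)
      comm' := fun i j _ => ModuleCat.hom_ext (LinearMap.ext fun y => funext fun n =>
        LinearMap.congr_fun (congrArg ModuleCat.Hom.hom ((φ n).comm i j)) y) }
  refine ⟨eP.inv ≫ DerivedCategory.Q.map Φ, fun n => ?_⟩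
  rw [Category.assoc, ← Functor.map_comp, show Φ ≫ prC n C = φ n from rfl, hφ, Iso.inv_hom_id_assoc]

/-- complete along `f` -/
def CAlong (f : A) (E : Dual.D A) : Prop := ∀ n : ℤ, TBij (Dual.HD A E n) f

lemma isIso_smul_inD (f : A) : IsIso (f • 𝟙 (Dual.inD A (Localization.Away f))) := by
  haveI : IsIso (f • 𝟙 (ModuleCat.of A (Localization.Away f))) := by
    rw [ConcreteCategory.isIso_iff_bijective]
    obtain ⟨c, hc⟩ : ∃ c : (Localization.Away f)ˣ, (c : Localization.Away f) = algebraMap A _ f :=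
      IsLocalization.Away.algebraMap_isUnit f
    have h1 := (MulAction.bijective c : Function.Bijective fun y : Localization.Away f => c • y)
    simp only [Units.smul_def, hc, algebraMap_smul] at h1
    exact h1
  have h : f • 𝟙 (Dual.inD A (Localization.Away f)) = (DerivedCategory.singleFunctor (ModuleCat.{u} A) 0).map
      (f • 𝟙 (ModuleCat.of A (Localization.Away f))) := by
    rw [CategoryTheory.Functor.map_smul, CategoryTheory.Functor.map_id]
  rw [h]
  infer_instance

lemma isIso_smul_shift {f : A} {X : Dual.D A} [IsIso (f • 𝟙 X)] (n : ℤ) : IsIso (f • 𝟙 (X⟦n⟧)) := by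
  have h : f • 𝟙 (X⟦n⟧) = (f • 𝟙 X)⟦n⟧' := by
    rw [CategoryTheory.Functor.map_smul, CategoryTheory.Functor.map_id]
  rw [h]
  infer_instance

lemma cAlong_iff (f : A) (E : Dual.D A) :
    CAlong f E ↔ ∀ (X : Dual.D A), IsIso (f • 𝟙 X) → Subsingleton (X ⟶ E) := by
  refine ⟨fun h X hX => subsingleton_hom_of_invertible h, fun h => (tele_iff_HD f E).1 fun n => ?_⟩
  haveI := isIso_smul_inD f
  have h' := h _ (isIso_smul_shift (X := Dual.inD A (Localization.Away f)) (f := f) (-n))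
  exact @Equiv.subsingleton _ _ (((shiftEquiv' (Dual.D A) (-n) n (by lia)).toAdjunction.homEquiv _ _).symm) h' 

/-- zero cohomology in one degree -/
def ZeroAt (i : ℤ) (K : Dual.D A) : Prop := Subsingleton (Dual.HD A K i)

lemma zeroAt_iff_hom (i : ℤ) (K : Dual.D A) :
    ZeroAt i K ↔ Subsingleton ((DerivedCategory.singleFunctor (ModuleCat.{u} A) 0).obj (ModuleCat.of A A) ⟶ K⟦i⟧) := by
  haveI : Projective (ModuleCat.of A A) := (IsProjective.iff_projective _).1 inferInstance
  let e : (DerivedCategory.homologyFunctor (ModuleCat.{u} A) 0).obj (K⟦i⟧) ≅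
      (DerivedCategory.homologyFunctor (ModuleCat.{u} A) i).obj K :=
    ((DerivedCategory.homologyFunctor (ModuleCat.{u} A) 0).shiftIso i 0 i (by lia)).app K
  have hev := Equiv.ofBijective _ (ev0_bijective (P := ModuleCat.of A A) (K⟦i⟧))
  refine ⟨fun h => ?_, fun h => ?_⟩
  · haveI : Subsingleton ((DerivedCategory.homologyFunctor (ModuleCat.{u} A) i).obj K) := h
    haveI := e.toLinearEquiv.toEquiv.subsingleton
    haveI : Subsingleton (ModuleCat.of A A ⟶ (DerivedCategory.homologyFunctor (ModuleCat.{u} A) 0).obj (K⟦i⟧)) :=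
      ⟨fun a b => ModuleCat.hom_ext (LinearMap.ext fun _ => Subsingleton.elim _ _)⟩
    exact hev.subsingleton
  · haveI := hev.symm.subsingleton
    refine subsingleton_of_forall_eq 0 fun (x : (DerivedCategory.homologyFunctor (ModuleCat.{u} A) i).obj K) => ?_
    have := LinearMap.congr_fun (congrArg ModuleCat.Hom.hom (Subsingleton.elim
      (ModuleCat.ofHom (LinearMap.toSpanSingleton A _ (e.inv.hom x)) :
        ModuleCat.of A A ⟶ (DerivedCategory.homologyFunctor (ModuleCat.{u} A) 0).obj (K⟦i⟧)) 0)) 1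
    have h0 : e.inv.hom x = 0 := by simpa using this
    exact e.toLinearEquiv.symm.injective (h0.trans (map_zero _).symm)

lemma subsingleton_obj₃_at {X : Dual.D A} {T : Triangle (Dual.D A)} (hT : T ∈ distTriang (Dual.D A)) (n : ℤ)
    (h₁ : Subsingleton (X ⟶ T.obj₁⟦n + 1⟧)) (h₂ : Subsingleton (X ⟶ T.obj₂⟦n⟧)) : Subsingleton (X ⟶ T.obj₃⟦n⟧) := by
  refine subsingleton_of_forall_eq 0 fun g => ?_
  have hS := Triangle.shift_distinguished T hT n
  obtain ⟨g', hg'⟩ := Triangle.coyoneda_exact₃ _ hS g (by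
    have : Subsingleton (X ⟶ (T.obj₁⟦n⟧)⟦(1 : ℤ)⟧) :=
      @Equiv.subsingleton _ _ (Iso.homCongr (Iso.refl X) ((shiftFunctorAdd (Dual.D A) n 1).app T.obj₁).symm) h₁
    exact @Subsingleton.elim _ this _ _)
  rw [hg', show g' = 0 from @Subsingleton.elim _ h₂ _ _]
  exact zero_comp

lemma zeroAt_obj₃ {T : Triangle (Dual.D A)} (hT : T ∈ distTriang (Dual.D A)) (i : ℤ)
    (h₁ : ZeroAt (i + 1) T.obj₁) (h₂ : ZeroAt i T.obj₂) : ZeroAt i T.obj₃ :=
  (zeroAt_iff_hom i _).2 (subsingleton_obj₃_at hT i ((zeroAt_iff_hom _ _).1 h₁) ((zeroAt_iff_hom _ _).1 h₂))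

lemma cAlong_obj₃ {g : A} {T : Triangle (Dual.D A)} (hT : T ∈ distTriang (Dual.D A))
    (h₁ : CAlong g T.obj₁) (h₂ : CAlong g T.obj₂) : CAlong g T.obj₃ :=
  (tele_iff_HD g _).1 fun n => subsingleton_obj₃_at hT n ((tele_iff_HD g _).2 h₁ (n + 1)) ((tele_iff_HD g _).2 h₂ n)

lemma cAlong_shift {g : A} {X : Dual.D A} (h : CAlong g X) (k : ℤ) : CAlong g (X⟦k⟧) := fun n =>
  (h (k + n)).of_equiv
    (((DerivedCategory.homologyFunctor (ModuleCat.{u} A) 0).shiftIso k n (k + n) rfl).app X).toLinearEquiv.symm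

lemma zeroAt_shift {X : Dual.D A} (k i : ℤ) (h : ZeroAt (k + i) X) : ZeroAt i (X⟦k⟧) :=
  @Equiv.subsingleton _ _
    (((DerivedCategory.homologyFunctor (ModuleCat.{u} A) 0).shiftIso k i (k + i) rfl).app X).toLinearEquiv.toEquiv h

/-- the cohomology of the product -/
noncomputable def piHD (C : DRing.Cx A) (n : ℤ) :
    Dual.HD A (DerivedCategory.Q.obj (piCx C)) n ≃ₗ[A] (ℕ → Dual.HD A (DerivedCategory.Q.obj C) n) :=
  (((DerivedCategory.homologyFunctorFactors (ModuleCat.{u} A) n).app (piCx C)) ≪≫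
    (C.sc n).mapHomologyIso (piN A) ≪≫
    (piN A).mapIso ((DerivedCategory.homologyFunctorFactors (ModuleCat.{u} A) n).app C).symm).toLinearEquiv

lemma cAlong_pi {g : A} {C : DRing.Cx A} (h : CAlong g (DerivedCategory.Q.obj C)) :
    CAlong g (DerivedCategory.Q.obj (piCx C)) := fun n => by
  refine TBij.of_equiv ⟨fun x y hxy => funext fun k => funext fun i => ?_, fun d => ?_⟩ (piHD C n).symm
  · exact congrFun ((h n).1 (a₁ := fun k => x k i) (a₂ := fun k => y k i) (funext fun m => congrFun (congrFun hxy m) i)) k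
  · choose y hy using fun i => (h n).2 fun k => d k i
    exact ⟨fun k i => y i k, funext fun k => funext fun i => congrFun (hy i) k⟩

lemma zeroAt_pi {C : DRing.Cx A} {i : ℤ} (h : ZeroAt i (DerivedCategory.Q.obj C)) :
    ZeroAt i (DerivedCategory.Q.obj (piCx C)) := by
  haveI : Subsingleton (Dual.HD A (DerivedCategory.Q.obj C) i) := h
  exact (piHD C i).toEquiv.subsingleton

/-- completion along one element -/
theorem exists_compl_one (f : A) (K : Dual.D A) :
    ∃ (L : Dual.D A) (η : K ⟶ L), CAlong f L ∧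
      (∀ E, CAlong f E → Function.Bijective (fun φ : L ⟶ E => η ≫ φ)) ∧
      (∀ g, CAlong g K → CAlong g L) ∧ (∀ i, ZeroAt i K → ZeroAt (i + 1) K → ZeroAt i L) := by
  let C := DerivedCategory.Q.objPreimage K
  let eC : DerivedCategory.Q.obj C ≅ K := DerivedCategory.Q.objObjPreimageIso K
  let T₀ := (NatTrans.mapHomologicalComplex (teleNat f) (ComplexShape.up ℤ)).app C
  let Pi : Dual.D A := DerivedCategory.Q.obj (piCx C)
  let τ : Pi ⟶ Pi := DerivedCategory.Q.map T₀
  let pr : ℕ → (Pi ⟶ DerivedCategory.Q.obj C) := fun n => DerivedCategory.Q.map (prC n C)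
  have hτ : ∀ n, τ ≫ pr n = pr n - f • pr (n + 1) := fun n => by
    have h1 : T₀ ≫ prC n C = prC n C - f • prC (n + 1) C := by
      refine HomologicalComplex.hom_ext _ _ fun i => ModuleCat.hom_ext (LinearMap.ext fun y => ?_)
      rfl
    simp only [τ, pr]
    rw [← Functor.map_comp, h1, Functor.map_sub, CategoryTheory.Functor.map_smul]
  obtain ⟨σ, hσ⟩ := piD_lift fun n => pr (n + 1)
  have hστ : σ ≫ τ = τ ≫ σ := by
    refine sub_eq_zero.1 (piD_ext _ fun n => ?_)
    simp only [Preadditive.sub_comp, Category.assoc]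
    rw [hτ, hσ, Preadditive.comp_sub, Linear.comp_smul, hσ, hσ, hτ, sub_self]
  have hfσ : f • σ = 𝟙 Pi - τ := by
    refine sub_eq_zero.1 (piD_ext _ fun n => ?_)
    simp only [Preadditive.sub_comp, Linear.smul_comp]
    rw [hσ, hτ, Category.id_comp]
    abel
  obtain ⟨C₃, p₃, q₃, hΔ⟩ := Pretriangulated.distinguished_cocone_triangle τ
  let S : Triangle (Dual.D A) := (Triangle.mk τ p₃ q₃).invRotate
  have hS : S ∈ distTriang (Dual.D A) := inv_rot_of_distTriang _ hΔ
  let ι : S.obj₁ ⟶ Pi := S.mor₁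
  let w : Pi⟦(-1 : ℤ)⟧ ⟶ S.obj₁ := S.invRotate.mor₁
  have hιτ : ι ≫ τ = 0 := comp_distTriang_mor_zero₁₂ S hS
  have hexact : ∀ {X : Dual.D A} (g : X ⟶ S.obj₁), g ≫ ι = 0 → ∃ g', g = g' ≫ w := fun g hg =>
    Triangle.coyoneda_exact₂ S.invRotate (inv_rot_of_distTriang S hS) g hg
  have hτw : τ⟦(-1 : ℤ)⟧' ≫ w = 0 := by
    let ci := shiftFunctorCompIsoId (Dual.D A) (-1 : ℤ) 1 (by lia)
    have h3 : S.invRotate.mor₃ ≫ w⟦(1 : ℤ)⟧' = 0 := comp_distTriang_mor_zero₃₁ _ (inv_rot_of_distTriang S hS)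
    have e3 : S.invRotate.mor₃ = τ ≫ ci.inv.app Pi := rfl
    rw [e3] at h3
    refine (shiftFunctor (Dual.D A) (1 : ℤ)).map_injective ?_
    rw [Functor.map_comp, Functor.map_zero]
    refine (cancel_epi (ci.inv.app Pi)).1 ?_
    rw [comp_zero]
    exact ((ci.inv.naturality_assoc τ (w⟦(1 : ℤ)⟧')).symm.trans (Category.assoc _ _ _).symm).trans h3
  let e : S.obj₁ ⟶ K := ι ≫ pr 0 ≫ eC.hom
  -- `f` is invertible on the fibre
  haveI hF : IsIso (f • 𝟙 S.obj₁) := by
    obtain ⟨s, hs, hs'⟩ := complete_distinguished_triangle_morphism₁ S S hS hS σ σ hστ.symm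
    let N : S.obj₁ ⟶ S.obj₁ := f • s - 𝟙 _
    have hNι : N ≫ ι = 0 := by
      have : s ≫ ι = ι ≫ σ := hs.symm
      simp only [N, Preadditive.sub_comp, Linear.smul_comp, Category.id_comp, this]
      rw [← Linear.comp_smul, hfσ, Preadditive.comp_sub, Category.comp_id, hιτ, sub_zero, sub_self]
    obtain ⟨a, ha⟩ := hexact N hNι
    have hw : w ≫ s = σ⟦(-1 : ℤ)⟧' ≫ w := by
      let φm : S ⟶ S := Triangle.homMk _ _ s σ σ hs hστ.symm hs'
      exact ((invRotate (Dual.D A)).map φm).comm₁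
    have hwN : w ≫ N = 0 := by
      simp only [N, Preadditive.comp_sub, Linear.comp_smul, Category.comp_id, hw]
      rw [← Linear.smul_comp, ← CategoryTheory.Functor.map_smul, hfσ, Functor.map_sub,
        CategoryTheory.Functor.map_id, Preadditive.sub_comp, Category.id_comp, hτw, sub_zero, sub_self]
    have hN2 : N ≫ N = 0 := by
      nth_rw 1 [ha]
      rw [Category.assoc, hwN, comp_zero]
    refine ⟨s ≫ (𝟙 _ - N), ?_, ?_⟩
    · rw [Linear.smul_comp, Category.id_comp, ← Linear.smul_comp, show f • s = N + 𝟙 _ by simp [N]]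
      simp [hN2]
    · rw [Linear.comp_smul, Category.comp_id, ← Linear.smul_comp, show f • s = N + 𝟙 _ by simp [N]]
      simp [hN2]
  -- maps from invertible objects
  have hsolve : ∀ (X : Dual.D A), IsIso (f • 𝟙 X) → ∀ y : X ⟶ Pi, ∃ x : X ⟶ Pi, x ≫ τ = y := by
    intro X hX y
    let d : ℕ → (X ⟶ DerivedCategory.Q.obj C) := fun n => y ≫ pr n
    let x : ℕ → (X ⟶ DerivedCategory.Q.obj C) := fun n => n.rec 0 fun k z => inv (f • 𝟙 X) ≫ (z - d k)
    obtain ⟨g, hg⟩ := piD_lift x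
    refine ⟨g, sub_eq_zero.1 (piD_ext _ fun n => ?_)⟩
    rw [Preadditive.sub_comp, Category.assoc, hτ, Preadditive.comp_sub, Linear.comp_smul, hg, hg]
    have h1 : f • x (n + 1) = x n - d n := by
      change f • (inv (f • 𝟙 X) ≫ (x n - d n)) = _
      conv_lhs => rw [← Category.id_comp (inv (f • 𝟙 X) ≫ (x n - d n)), ← Linear.smul_comp]
      exact IsIso.hom_inv_id_assoc _ _
    rw [h1]
    simp [d, pr]
  have hsurj : ∀ (X : Dual.D A), IsIso (f • 𝟙 X) → ∀ h : X ⟶ K, ∃ g : X ⟶ S.obj₁, g ≫ e = h := by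
    intro X hX h
    let x : ℕ → (X ⟶ DerivedCategory.Q.obj C) := fun n => n.rec (h ≫ eC.inv) fun _ z => inv (f • 𝟙 X) ≫ z
    have hx : ∀ n, f • x (n + 1) = x n := fun n => by
      change f • (inv (f • 𝟙 X) ≫ x n) = _
      conv_lhs => rw [← Category.id_comp (inv (f • 𝟙 X) ≫ x n), ← Linear.smul_comp]
      exact IsIso.hom_inv_id_assoc _ _
    obtain ⟨G, hG⟩ := piD_lift x
    have h0 : G ≫ τ = 0 := piD_ext _ fun n => by
      rw [Category.assoc, hτ, Preadditive.comp_sub, Linear.comp_smul, hG, hG, hx, sub_self]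
    obtain ⟨g, hg⟩ := Triangle.coyoneda_exact₂ S hS G h0
    refine ⟨g, ?_⟩
    change g ≫ ι ≫ pr 0 ≫ eC.hom = h
    have e0 : G ≫ pr 0 = x 0 := hG 0
    have hg' : g ≫ ι = G := hg.symm
    rw [reassoc_of% hg', reassoc_of% e0]
    simp [x]
  have hinj : ∀ (X : Dual.D A), IsIso (f • 𝟙 X) → ∀ g : X ⟶ S.obj₁, g ≫ e = 0 → g = 0 := by
    intro X hX g hg
    have hz : ∀ n, g ≫ ι ≫ pr n = 0 := by
      intro n
      induction n with
      | zero =>
        refine (cancel_mono eC.hom).1 ?_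
        rw [zero_comp]
        simpa [e] using hg
      | succ n ih =>
        have h1 : g ≫ ι ≫ τ ≫ pr n = 0 := by rw [reassoc_of% hιτ]; simp
        rw [hτ, Preadditive.comp_sub, Preadditive.comp_sub, ih, zero_sub, neg_eq_zero, Linear.comp_smul,
          Linear.comp_smul] at h1
        have h2 : (f • 𝟙 X) ≫ (g ≫ ι ≫ pr (n + 1)) = 0 := by rw [Linear.smul_comp, Category.id_comp, h1]
        exact (cancel_epi (f • 𝟙 X)).1 (h2.trans comp_zero.symm)
    obtain ⟨g', rfl⟩ := hexact g (piD_ext _ fun n => by rw [Category.assoc]; exact hz n)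
    let adj := (shiftEquiv' (Dual.D A) (1 : ℤ) (-1) (by lia)).toAdjunction
    let eadj := adj.homEquiv X Pi
    obtain ⟨x, hx⟩ := hsolve _ (isIso_smul_shift (X := X) (f := f) 1) (eadj.symm g')
    have : g' = eadj x ≫ τ⟦(-1 : ℤ)⟧' := by
      have h5 := adj.homEquiv_naturality_right x τ
      exact (eadj.apply_symm_apply g').symm.trans ((congrArg eadj hx.symm).trans h5)
    rw [this, Category.assoc]
    exact (congrArg (eadj x ≫ ·) hτw).trans comp_zero
  obtain ⟨L, η, δ, hL⟩ := Pretriangulated.distinguished_cocone_triangle e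
  refine ⟨L, η, (cAlong_iff f L).2 fun X hX => subsingleton_of_forall_eq 0 fun g => ?_, fun E hE => ?_, fun g hg => ?_,
    fun i h0 h1 => ?_⟩
  · have h1 : g ≫ δ = 0 := by
      let adj := (shiftEquiv' (Dual.D A) (-1 : ℤ) 1 (by lia)).toAdjunction
      let eadj := adj.homEquiv X S.obj₁
      have h0 : (g ≫ δ) ≫ e⟦(1 : ℤ)⟧' = 0 := by
        rw [Category.assoc]
        exact (congrArg (g ≫ ·) (comp_distTriang_mor_zero₃₁ _ hL)).trans comp_zero
      have h7 : (adj.homEquiv X K).symm 0 = 0 := by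
        rw [Adjunction.homEquiv_counit, Functor.map_zero, zero_comp]
      have h2 : eadj.symm (g ≫ δ) = 0 := hinj _ (isIso_smul_shift (X := X) (f := f) (-1)) _
        ((adj.homEquiv_naturality_right_symm (g ≫ δ) e).symm.trans ((congrArg _ h0).trans h7))
      have h3 := congrArg eadj h2
      rw [Equiv.apply_symm_apply] at h3
      refine h3.trans ?_
      change (adj.homEquiv X S.obj₁) 0 = 0
      rw [Adjunction.homEquiv_unit, Functor.map_zero, comp_zero]
    obtain ⟨h, rfl⟩ := Triangle.coyoneda_exact₃ _ hL g h1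
    obtain ⟨h', rfl⟩ := hsurj X hX h
    exact (Category.assoc _ _ _).trans ((congrArg (h' ≫ ·) (comp_distTriang_mor_zero₁₂ (Triangle.mk e η δ) hL)).trans comp_zero)
  · refine ⟨fun a b hab => ?_, fun φ => ?_⟩
    · rw [← sub_eq_zero]
      obtain ⟨z, hz⟩ := Triangle.yoneda_exact₃ _ hL (a - b) (show η ≫ (a - b) = 0 by
        rw [Preadditive.comp_sub]; exact sub_eq_zero.2 hab)
      have hz0 : z = 0 := @Subsingleton.elim _ ((cAlong_iff f E).1 hE _ (isIso_smul_shift (X := S.obj₁) (f := f) 1)) _ _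
      exact hz.trans ((congrArg (fun t => (Triangle.mk e η δ).mor₃ ≫ t) hz0).trans comp_zero)
    · obtain ⟨g, hg⟩ := Triangle.yoneda_exact₂ _ hL φ (@Subsingleton.elim _ ((cAlong_iff f E).1 hE _ hF) _ _)
      exact ⟨g, hg.symm⟩
  · have hC : CAlong g (DerivedCategory.Q.obj C) := fun n =>
      (hg n).of_equiv ((DerivedCategory.homologyFunctor (ModuleCat.{u} A) n).mapIso eC.symm).toLinearEquiv
    have hp := cAlong_shift (cAlong_pi hC) (-1)
    have hFc : CAlong g S.obj₁ :=
      cAlong_obj₃ (inv_rot_of_distTriang _ (inv_rot_of_distTriang S hS)) hp hp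
    exact cAlong_obj₃ hL hFc hg
  · have h1' : ZeroAt (i + 1) (DerivedCategory.Q.obj C) :=
      @Equiv.subsingleton _ _ ((DerivedCategory.homologyFunctor (ModuleCat.{u} A) (i + 1)).mapIso eC).toLinearEquiv.toEquiv h1
    have h0' : ZeroAt i (DerivedCategory.Q.obj C) :=
      @Equiv.subsingleton _ _ ((DerivedCategory.homologyFunctor (ModuleCat.{u} A) i).mapIso eC).toLinearEquiv.toEquiv h0
    have hFz : ZeroAt (i + 1) S.obj₁ := zeroAt_obj₃ (inv_rot_of_distTriang _ (inv_rot_of_distTriang S hS)) (i + 1)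
      (zeroAt_shift (-1) _ (by rw [show -1 + (i + 1 + 1) = i + 1 by ring]; exact zeroAt_pi h1'))
      (zeroAt_shift (-1) _ (by rw [show -1 + (i + 1) = i by ring]; exact zeroAt_pi h0'))
    exact zeroAt_obj₃ hL i hFz h0

/-- completion along a list -/
theorem exists_compl : ∀ (s : List A) (K : Dual.D A),
    ∃ (L : Dual.D A) (η : K ⟶ L), (∀ f ∈ s, CAlong f L) ∧
      (∀ E, (∀ f ∈ s, CAlong f E) → Function.Bijective (fun φ : L ⟶ E => η ≫ φ)) ∧
      (∀ g, CAlong g K → CAlong g L) ∧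
      (∀ i : ℤ, (∀ j, i ≤ j → j ≤ i + s.length → ZeroAt j K) → ZeroAt i L) := by
  intro s
  induction s with
  | nil =>
    intro K
    exact ⟨K, 𝟙 K, by simp, fun E _ => by simp only [Category.id_comp]; exact Function.bijective_id,
      fun g h => h, fun i h => h i le_rfl (by simp)⟩
  | cons f s ih =>
    intro K
    obtain ⟨L₁, η₁, hc₁, hu₁, hp₁, hz₁⟩ := ih K
    obtain ⟨L₂, η₂, hc₂, hu₂, hp₂, hz₂⟩ := exists_compl_one f L₁
    refine ⟨L₂, η₁ ≫ η₂, ?_, fun E hE => ?_, fun g hg => hp₂ g (hp₁ g hg), fun i h => ?_⟩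
    · intro g hg
      rcases List.mem_cons.1 hg with rfl | hg
      · exact hc₂
      · exact hp₂ g (hc₁ g hg)
    · simp only [Category.assoc]
      exact (hu₁ E fun g hg => hE g (List.mem_cons_of_mem _ hg)).comp (hu₂ E (hE f List.mem_cons_self))
    · refine hz₂ i (hz₁ i fun j hj hj' => h j hj ?_) (hz₁ (i + 1) fun j hj hj' => h j (by lia) ?_) <;>
        simp only [List.length_cons] at * <;> push_cast at * <;> lia

lemma isDerivedComplete_span_iff (s : List A) (I : Ideal A) (hs : Ideal.span {x | x ∈ s} = I) (E : Dual.D A) :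
    DRing.IsDerivedComplete I E ↔ ∀ f ∈ s, CAlong f E := by
  rw [isDerivedComplete_iff]
  refine ⟨fun h f hf n => h f (hs ▸ Ideal.subset_span hf) n, fun h g hg n => ?_⟩
  rw [← hs] at hg
  exact (Ideal.span_le (I := tideal (A := A) (Dual.HD A E n))).2 (fun f hf => h f hf n) hg

end Groth.Agent.DRingKP
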