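import Groth.Agent.DRingKP.ProjAmp
import Groth.Agent.DRingKP.DCompl
import Mathlib.Algebra.Homology.DerivedCategory.KInjective
import Mathlib.Algebra.Homology.Factorizations.CM5a
import Mathlib.Algebra.Category.ModuleCat.Injective
import Mathlib.Algebra.Category.ModuleCat.EnoughInjectives

/-!
Injective amplitude.
-/

set_option autoImplicit false
set_option linter.style.haveILetI false
universe u

namespace Groth.Agent.DRingKP

open CategoryTheory Limits DerivedCategory HomologicalComplex

attribute [local instance] HasDerivedCategory.standard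

variable {A : Type u} [CommRing A]

lemma exists_lift_inj {E F : DRing.Cx A} [F.IsKInjective] (α : DRing.toD E ⟶ DRing.toD F) :
    ∃ f : E ⟶ F, DerivedCategory.Q.map f = α := by
  obtain ⟨g, hg⟩ := (CochainComplex.IsKInjective.Qh_map_bijective ((HomotopyCategory.quotient _ _).obj E) F).2
    ((quotientCompQhIso _).hom.app E ≫ α ≫ (quotientCompQhIso _).inv.app F)
  obtain ⟨f, rfl⟩ := (HomotopyCategory.quotient _ _).map_surjective g
  refine ⟨f, ?_⟩
  have := (quotientCompQhIso (ModuleCat.{u} A)).hom.naturality f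
  simp only [Functor.comp_map] at this
  rw [hg, Category.assoc, Category.assoc, Iso.inv_hom_id_app, Category.comp_id] at this
  exact ((cancel_epi _).1 this).symm

lemma exists_homotopy_inj {P C : DRing.Cx A} [C.IsKInjective] (φ : P ⟶ C) (h : DerivedCategory.Q.map φ = 0) :
    Nonempty (Homotopy φ 0) := by
  refine ⟨HomotopyCategory.homotopyOfEq _ _ ((CochainComplex.IsKInjective.Qh_map_bijective _ C).1 ?_)⟩
  let eq := DerivedCategory.quotientCompQhIso (ModuleCat.{u} A)
  have h1 := DerivedCategory.quotientCompQhIso_hom_naturality φ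
  rw [h, comp_zero] at h1
  rw [Functor.map_zero, Functor.map_zero]
  exact (cancel_mono (eq.hom.app C)).1 (h1.trans zero_comp.symm)

/-- maps from a module in degree `n` -/
noncomputable def extEquiv (N : ModuleCat.{u} A) {C : DRing.Cx A} {K : Dual.D A} (e : DRing.toD C ≅ K) (n : ℤ) :
    (DerivedCategory.Q.obj ((HomologicalComplex.single _ (ComplexShape.up ℤ) n).obj N) ⟶ DerivedCategory.Q.obj C) ≃
      ((DerivedCategory.singleFunctor (ModuleCat.{u} A) 0).obj N ⟶ K⟦n⟧) :=
  (Iso.homCongr (((DerivedCategory.singleFunctorIsoCompQ (ModuleCat.{u} A) n).app N).symm ≪≫ (singleShiftIso N n).symm) e).trans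
    ((shiftEquiv' (Dual.D A) (-n) n (by lia)).toAdjunction.homEquiv _ _)

/-- maps into bounded injective complexes -/
theorem ext_eq_zero_of_amp {K : Dual.D A} {a b : ℤ} (h : DRing.HasInjAmplitudeIn A a b K) (N : ModuleCat.{u} A)
    (i : ℤ) (hi : i < a ∨ b < i) :
    Subsingleton ((DerivedCategory.singleFunctor (ModuleCat.{u} A) 0).obj N ⟶ K⟦i⟧) := by
  obtain ⟨J, hJ, hJi, ⟨e⟩⟩ := h
  haveI : ∀ j, Injective (J.X j) := fun j => (Module.injective_iff_injective_object A (J.X j)).1 (hJi j)
  haveI : J.IsStrictlyGE a := (CochainComplex.isStrictlyGE_iff J a).2 fun j hj => hJ j (Or.inl hj)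
  haveI := CochainComplex.isKInjective_of_injective J a
  have : Subsingleton (DerivedCategory.Q.obj ((HomologicalComplex.single _ (ComplexShape.up ℤ) i).obj N) ⟶
      DerivedCategory.Q.obj J) := by
    refine subsingleton_of_forall_eq 0 fun α => ?_
    obtain ⟨g, rfl⟩ := exists_lift_inj α
    have hg : g = 0 := HomologicalComplex.hom_ext _ _ fun j => by
      by_cases hj : j = i
      · exact (hJ j (by subst hj; exact hi)).eq_of_tgt _ _
      · exact (isZero_single_obj_X (ComplexShape.up ℤ) i N j hj).eq_of_src _ _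
    rw [hg, Functor.map_zero]
  exact @Equiv.subsingleton _ _ (extEquiv N e i).symm this

theorem injAmp_of_vanishing (K : Dual.D A) (a b : ℤ) (hH : ∀ n : ℤ, n < a → Subsingleton (Dual.HD A K n))
    (hHb : ∀ n : ℤ, b < n → Subsingleton (Dual.HD A K n))
    (hE : ∀ I : Ideal A, Subsingleton ((DerivedCategory.singleFunctor (ModuleCat.{u} A) 0).obj (ModuleCat.of A (A ⧸ I)) ⟶ K⟦b + 1⟧)) :
    DRing.HasInjAmplitudeIn A a b K := by
  let C := DerivedCategory.Q.objPreimage K
  let eC : DerivedCategory.Q.obj C ≅ K := DerivedCategory.Q.objObjPreimageIso K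
  have hz : ∀ (n : ℤ), Subsingleton (Dual.HD A K n) → C.ExactAt n := fun n h => by
    haveI : Subsingleton ((DerivedCategory.homologyFunctor (ModuleCat.{u} A) n).obj K) := h
    exact (HomologicalComplex.exactAt_iff_isZero_homology _ _).2
      ((ModuleCat.isZero_of_subsingleton ((DerivedCategory.homologyFunctor (ModuleCat.{u} A) n).obj K)).of_iso
        (((DerivedCategory.homologyFunctorFactors (ModuleCat.{u} A) n).app C).symm ≪≫
          (DerivedCategory.homologyFunctor (ModuleCat.{u} A) n).mapIso eC))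
  haveI : C.IsGE a := (CochainComplex.isGE_iff C a).2 fun n hn => hz n (hH n hn)
  haveI : QuasiIso (C.πTruncGE a) := (CochainComplex.quasiIso_πTruncGE_iff C a).2 inferInstance
  obtain ⟨L, q, hq, hL, hLa⟩ := CochainComplex.Plus.modelCategoryQuillen.exists_quasiIso_injective (C.truncGE a) a
  haveI := hLa
  haveI := hq
  haveI := hL
  haveI := CochainComplex.isKInjective_of_injective L a
  let e : DerivedCategory.Q.obj L ≅ K :=
    (asIso (DerivedCategory.Q.map q)).symm ≪≫ (asIso (DerivedCategory.Q.map (C.πTruncGE a))).symm ≪≫ eC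
  haveI : L.IsLE b := (CochainComplex.isLE_iff L b).2 fun n hn => by
    haveI : Subsingleton ((DerivedCategory.homologyFunctor (ModuleCat.{u} A) n).obj K) := hHb n hn
    exact (HomologicalComplex.exactAt_iff_isZero_homology _ _).2
      ((ModuleCat.isZero_of_subsingleton ((DerivedCategory.homologyFunctor (ModuleCat.{u} A) n).obj K)).of_iso
        (((DerivedCategory.homologyFunctorFactors (ModuleCat.{u} A) n).app L).symm ≪≫
          (DerivedCategory.homologyFunctor (ModuleCat.{u} A) n).mapIso e))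
  haveI : QuasiIso (L.ιTruncLE b) := (CochainComplex.quasiIso_ιTruncLE_iff L b).2 inferInstance
  have hZ : Injective (L.cycles b) := by
    haveI : Module.Injective A (L.X b) := (Module.injective_iff_injective_object A _).2 (hL b)
    refine (Module.injective_iff_injective_object A (L.cycles b)).1 (Module.Baer.injective fun I g => ?_)
    let ι := (L.iCycles b).hom
    obtain ⟨g₁, hg₁⟩ := Module.Baer.of_injective ‹Module.Injective A (L.X b)› I (ι ∘ₗ g)
    have hker : I ≤ LinearMap.ker ((L.d b (b + 1)).hom ∘ₗ g₁) := fun x hx => by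
      simp only [LinearMap.mem_ker, LinearMap.comp_apply, hg₁ x hx]
      exact LinearMap.congr_fun (congrArg ModuleCat.Hom.hom (L.iCycles_d b (b + 1))) _
    let u : ModuleCat.of A (A ⧸ I) ⟶ L.X (b + 1) := ModuleCat.ofHom (Submodule.liftQ I _ hker)
    let φ : (HomologicalComplex.single (ModuleCat.{u} A) (ComplexShape.up ℤ) (b + 1)).obj (ModuleCat.of A (A ⧸ I)) ⟶ L :=
      HomologicalComplex.mkHomFromSingle u (fun j _ => by
        refine ModuleCat.hom_ext (Submodule.linearMap_qext _ (LinearMap.ext fun x => ?_))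
        exact LinearMap.congr_fun (congrArg ModuleCat.Hom.hom (L.d_comp_d b (b + 1) j)) (g₁ x))
    have hφ : DerivedCategory.Q.map φ = 0 := (extEquiv _ e (b + 1)).injective (@Subsingleton.elim _ (hE I) _ _)
    obtain ⟨ho⟩ := exists_homotopy_inj φ hφ
    let h : ModuleCat.of A (A ⧸ I) ⟶ L.X b :=
      (singleObjXSelf (ComplexShape.up ℤ) (b + 1) _).inv ≫ ho.hom (b + 1) b
    have hh : h ≫ L.d b (b + 1) = u := by
      have := congrArg ((singleObjXSelf (ComplexShape.up ℤ) (b + 1) (ModuleCat.of A (A ⧸ I))).inv ≫ ·) (ho.comm (b + 1))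
      simp only [φ, mkHomFromSingle_f, Iso.inv_hom_id_assoc] at this
      rw [this, dNext_eq _ (show (ComplexShape.up ℤ).Rel (b + 1) (b + 1 + 1) from rfl),
        prevD_eq _ (show (ComplexShape.up ℤ).Rel b (b + 1) from rfl),
        (isZero_single_obj_X (ComplexShape.up ℤ) (b + 1) (ModuleCat.of A (A ⧸ I)) (b + 1 + 1) (by lia)).eq_of_src
          (ho.hom (b + 1 + 1) (b + 1)) 0]
      simp [h]
    let g₂ : ModuleCat.of A A ⟶ L.X b := ModuleCat.ofHom (g₁ - h.hom ∘ₗ I.mkQ)
    have hg₂ : g₂ ≫ L.d b (b + 1) = 0 := ModuleCat.hom_ext (LinearMap.ext fun x => by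
      have hx : (L.d b (b + 1)).hom (h.hom (I.mkQ x)) = (L.d b (b + 1)).hom (g₁ x) :=
        LinearMap.congr_fun (congrArg ModuleCat.Hom.hom hh) (I.mkQ x)
      change (L.d b (b + 1)).hom (g₁ x - h.hom (I.mkQ x)) = 0
      rw [map_sub, hx, sub_self])
    refine ⟨(L.liftCycles g₂ (b + 1) (by simp) hg₂).hom, fun x hx => ?_⟩
    refine (ModuleCat.mono_iff_injective (L.iCycles b)).1 inferInstance ?_
    refine (LinearMap.congr_fun (congrArg ModuleCat.Hom.hom (L.liftCycles_i g₂ (b + 1) (by simp) hg₂)) x).trans ?_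
    change g₁ x - h.hom (I.mkQ x) = _
    rw [show I.mkQ x = 0 from (Submodule.Quotient.mk_eq_zero I).2 hx, map_zero, sub_zero]
    exact hg₁ x hx
  refine ⟨L.truncLE b, fun i hi => ?_, fun i => ?_, ⟨asIso (DerivedCategory.Q.map (L.ιTruncLE b)) ≪≫ e⟩⟩
  · rcases hi with hi | hi
    · exact (CochainComplex.isStrictlyGE_iff (L.truncLE b) a).1 inferInstance i hi
    · exact (CochainComplex.isStrictlyLE_iff (L.truncLE b) b).1 inferInstance i hi
  · rcases lt_trichotomy i b with hi | rfl | hi
    · exact (Module.injective_iff_injective_object A _).2 (Injective.of_iso (L.truncLEXIso b i hi).symm (hL i))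
    · exact (Module.injective_iff_injective_object A _).2 (Injective.of_iso (L.truncLEXIsoCycles i).symm hZ)
    · exact (Module.injective_iff_injective_object A _).2
        ((CochainComplex.isStrictlyLE_iff (L.truncLE b) b).1 inferInstance i hi).injective

theorem injAmp_iff (K : Dual.D A) (a b : ℤ) :
    DRing.HasInjAmplitudeIn A a b K ↔
      ∀ (I : Ideal A) (i : ℤ), (i < a ∨ b < i) → Subsingleton (DRing.ExtD A (Dual.inD A (A ⧸ I)) K i) := by
  refine ⟨fun h I i hi => ext_eq_zero_of_amp h (ModuleCat.of A (A ⧸ I)) i hi, fun h => ?_⟩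
  let e : ModuleCat.of A (A ⧸ (⊥ : Ideal A)) ≅ ModuleCat.of A A :=
    (Submodule.quotEquivOfEqBot (⊥ : Submodule A A) rfl).toModuleIso
  have hH : ∀ n, (n < a ∨ b < n) → Subsingleton (Dual.HD A K n) := fun n hn => (zeroAt_iff_hom n K).2
    (@Equiv.subsingleton _ _ (Iso.homCongr ((DerivedCategory.singleFunctor (ModuleCat.{u} A) 0).mapIso e) (Iso.refl _)).symm
      (h ⊥ n hn))
  exact injAmp_of_vanishing K a b (fun n hn => hH n (Or.inl hn)) (fun n hn => hH n (Or.inr hn))
    fun I => h I (b + 1) (Or.inr (by lia))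

end Groth.Agent.DRingKP

namespace Groth.Agent.DRingKP

open CategoryTheory Limits DerivedCategory Pretriangulated

attribute [local instance] HasDerivedCategory.standard

variable {A : Type u} [CommRing A]

lemma finInj_of_iso {X Y : Dual.D A} (e : X ≅ Y) : DRing.HasFiniteInjDim A X → DRing.HasFiniteInjDim A Y := by
  rintro ⟨a, b, E, h1, h2, ⟨e'⟩⟩
  exact ⟨a, b, E, h1, h2, ⟨e' ≪≫ e⟩⟩

lemma finInj_of_isZero {X : Dual.D A} (h : IsZero X) : DRing.HasFiniteInjDim A X :=
  ⟨0, 0, (injAmp_iff X 0 0).2 fun _ i _ =>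
    ⟨fun _ _ => ((shiftFunctor (Dual.D A) i).map_isZero h).eq_of_tgt _ _⟩⟩

lemma finInj_shift {X : Dual.D A} (h : DRing.HasFiniteInjDim A X) (k : ℤ) : DRing.HasFiniteInjDim A (X⟦k⟧) := by
  obtain ⟨a, b, h⟩ := h
  refine ⟨a - k, b - k, (injAmp_iff _ _ _).2 fun I i hi => ?_⟩
  exact @Equiv.subsingleton _ _ (Iso.homCongr (Iso.refl _) ((shiftFunctorAdd (Dual.D A) k i).app X).symm)
    ((injAmp_iff X a b).1 h I (k + i) (by lia))

lemma finInj_obj₂ (T : Triangle (Dual.D A)) (hT : T ∈ distTriang (Dual.D A)) (h₁ : DRing.HasFiniteInjDim A T.obj₁)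
    (h₃ : DRing.HasFiniteInjDim A T.obj₃) : DRing.HasFiniteInjDim A T.obj₂ := by
  obtain ⟨a, b, h₁⟩ := h₁
  obtain ⟨c, d, h₃⟩ := finInj_shift h₃ (-1)
  refine ⟨min a c - 1, max b d + 1, (injAmp_iff _ _ _).2 fun I i hi => ?_⟩
  exact subsingleton_obj₃_at (inv_rot_of_distTriang _ hT) i
    ((injAmp_iff _ c d).1 h₃ I (i + 1) (by lia)) ((injAmp_iff _ a b).1 h₁ I i (by lia))

lemma finInj_single (M : ModuleCat.{u} A) (i : ℤ) (h : DRing.HasFiniteInjDim A (Dual.inD A M)) :
    DRing.HasFiniteInjDim A ((DerivedCategory.singleFunctor (ModuleCat.{u} A) i).obj M) :=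
  finInj_of_iso (singleShiftIso M i) (finInj_shift h (-i))

theorem finInj_of_homology (c d : ℤ) (K : Dual.D A)
    (hz : ∀ i, (i < c ∨ d < i) → IsZero ((DerivedCategory.homologyFunctor (ModuleCat.{u} A) i).obj K))
    (hK : ∀ i, DRing.HasFiniteInjDim A (Dual.inD A ((DerivedCategory.homologyFunctor (ModuleCat.{u} A) i).obj K))) :
    DRing.HasFiniteInjDim A K := by
  suffices H : ∀ (k : ℕ) (d : ℤ) (K : Dual.D A), d < c + k →
      (∀ i, (i < c ∨ d < i) → IsZero ((DerivedCategory.homologyFunctor (ModuleCat.{u} A) i).obj K)) →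
      (∀ i, DRing.HasFiniteInjDim A (Dual.inD A ((DerivedCategory.homologyFunctor (ModuleCat.{u} A) i).obj K))) →
      DRing.HasFiniteInjDim A K from H (d + 1 - c).toNat d K (by lia) hz hK
  intro k
  induction k with
  | zero =>
    intro d K hd hz _
    haveI : K.IsLE (c - 1) := (DerivedCategory.isLE_iff K (c - 1)).2 fun i _ => hz i (by lia)
    haveI : K.IsGE c := (DerivedCategory.isGE_iff K c).2 fun i hi => hz i (Or.inl hi)
    exact finInj_of_isZero (DerivedCategory.TStructure.t.isZero K (c - 1) c (by lia))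
  | succ k ih =>
    intro d K hd hz h
    obtain ⟨X, B, f, g, w, hT, hX, hlt, ⟨e⟩⟩ :=
      exists_top_triangle K d fun i hi => hz i (Or.inr (by lia))
    refine finInj_obj₂ _ hT (ih (d - 1) X (by lia) (fun i hi => ?_) fun i => ?_)
      (finInj_of_iso e.symm (finInj_single _ d (h d)))
    · by_cases hi' : i < d
      · exact (hz i (by lia)).of_iso (hlt i hi').some
      · exact hX i (by lia)
    · by_cases hi' : i < d
      · exact finInj_of_iso ((DerivedCategory.singleFunctor (ModuleCat.{u} A) 0).mapIso (hlt i hi').some).symm (h i)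
      · exact finInj_of_isZero ((DerivedCategory.singleFunctor (ModuleCat.{u} A) 0).map_isZero (hX i (by lia)))

end Groth.Agent.DRingKP
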