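import Groth.Agent.DRingKP.Modules
import Mathlib.RingTheory.Flat.Stability
import Mathlib.Algebra.Category.ModuleCat.Descent

/-!
Base change of pseudo-coherent and perfect objects.
-/

set_option autoImplicit false
set_option linter.style.haveILetI false
universe u v w

namespace Groth.Agent.DRingKP

open CategoryTheory Limits DerivedCategory CochainComplex HomologicalComplex

attribute [local instance] HasDerivedCategory.standard

variable {A : Type u} [CommRing A]

/-- every complex with bounded above cohomology has a bounded above projective resolution -/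
theorem exists_proj_rep_le (K : Dual.D A) (hK : ∃ n, IsAbove n K) :
    ∃ (P : DRing.Cx A) (b : ℤ), DRing.VanishesAbove P b ∧ (∀ i, Projective (P.X i)) ∧
      Nonempty (DRing.toD P ≅ K) := by
  obtain ⟨n, hn⟩ := hK
  let G : DRing.Cx A := DerivedCategory.Q.objPreimage K
  let eG : DRing.toD G ≅ K := DerivedCategory.Q.objObjPreimageIso K
  obtain ⟨Kc, π, -, hq, hb, hs, -, -⟩ := KFlat.exists_trunc_system G (exists_cover A)
  let N := n.toNat
  haveI : G.IsLE ((N : ℤ) + 1) := by
    rw [CochainComplex.isLE_iff]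
    intro i hi
    rw [HomologicalComplex.exactAt_iff_isZero_homology]
    exact (isAbove_of_iso eG.symm hn i (by lia)).of_iso
      ((homologyFunctorFactors (ModuleCat.{u} A) i).app G).symm
  haveI : QuasiIso (G.ιTruncLE ((N : ℤ) + 1)) :=
    (CochainComplex.quasiIso_ιTruncLE_iff G _).2 inferInstance
  haveI := (hq N).1
  obtain ⟨b, hb⟩ := hb N
  exact ⟨Kc.obj N, b, (CochainComplex.isStrictlyLE_iff _ b).1 hb, fun i => projective_of_isSum (hs N i),
    ⟨asIso (DerivedCategory.Q.map (π N ≫ G.ιTruncLE ((N : ℤ) + 1))) ≪≫ eG⟩⟩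

lemma isKProjective_of_vanishesAbove {P : DRing.Cx A} {b : ℤ} (hb : DRing.VanishesAbove P b)
    (hP : ∀ i, Projective (P.X i)) : P.IsKProjective := by
  haveI := hP
  haveI : P.IsStrictlyLE b := (CochainComplex.isStrictlyLE_iff P b).2 hb
  exact CochainComplex.isKProjective_of_projective P b

/-- cycles of an eventually exact bounded above complex of projectives are projective -/
lemma exists_section {E : DRing.Cx A} (m b : ℤ) (hb : DRing.VanishesAbove E b)
    (hE : ∀ i, Projective (E.X i)) (hex : ∀ i, m ≤ i → IsZero (E.homology i))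
    (i : ℤ) (hi : m - 1 ≤ i) :
    Module.Projective A (LinearMap.ker (E.d i (i + 1)).hom) ∧
    ∃ s : LinearMap.ker (E.d (i + 1) (i + 1 + 1)).hom →ₗ[A] E.X i,
      ∀ z, (E.d i (i + 1)).hom (s z) = z.1 := by
  suffices H : ∀ (k : ℕ) (i : ℤ), m - 1 ≤ i → b < i + k →
      Module.Projective A (LinearMap.ker (E.d i (i + 1)).hom) ∧
      ∃ s : LinearMap.ker (E.d (i + 1) (i + 1 + 1)).hom →ₗ[A] E.X i,
        ∀ z, (E.d i (i + 1)).hom (s z) = z.1 from H (b + 1 - i).toNat i hi (by lia)
  intro k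
  induction k with
  | zero =>
    intro i _ hi
    haveI : Subsingleton (E.X i) := ModuleCat.subsingleton_of_isZero (hb i (by simpa using hi))
    haveI : Subsingleton (E.X (i + 1)) := ModuleCat.subsingleton_of_isZero (hb (i + 1) (by lia))
    exact ⟨inferInstance, 0, fun z => Subsingleton.elim _ _⟩
  | succ k ih =>
    intro i hmi hi
    obtain ⟨hp, -⟩ := ih (i + 1) (by lia) (by lia)
    have hx : (E.sc' i (i + 1) (i + 1 + 1)).Exact :=
      (E.exactAt_iff' i (i + 1) (i + 1 + 1) (by simp) (by simp)).1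
        ((E.exactAt_iff_isZero_homology (i + 1)).2 (hex (i + 1) (by lia)))
    have hker := (ShortComplex.moduleCat_exact_iff_range_eq_ker _).1 hx
    let Z := LinearMap.ker (E.d (i + 1) (i + 1 + 1)).hom
    let π : E.X i →ₗ[A] Z := (E.d i (i + 1)).hom.codRestrict Z fun x =>
      LinearMap.congr_fun (congrArg ModuleCat.Hom.hom (E.d_comp_d i (i + 1) (i + 1 + 1))) x
    have hπ : Function.Surjective π := by
      rintro ⟨z, hz⟩
      obtain ⟨x, hx⟩ := hker.ge hz
      exact ⟨x, Subtype.ext hx⟩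
    haveI : Module.Projective A Z := hp
    obtain ⟨s, hs⟩ := Module.projective_lifting_property π LinearMap.id hπ
    refine ⟨?_, s, fun z => congrArg Subtype.val (LinearMap.congr_fun hs z)⟩
    have hπk : LinearMap.ker π = LinearMap.ker (E.d i (i + 1)).hom := LinearMap.ker_codRestrict _ _ _
    let r : E.X i →ₗ[A] LinearMap.ker π := (LinearMap.id - s ∘ₗ π).codRestrict _ fun x => by
      simp [← LinearMap.comp_apply π s, hs]
    have hr : r ∘ₗ (LinearMap.ker π).subtype = LinearMap.id := by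
      ext ⟨x, hx⟩
      simp [r, LinearMap.mem_ker.1 hx]
    haveI := (IsProjective.iff_projective (E.X i)).2 (hE i)
    rw [← hπk]
    exact Module.Projective.of_split _ r hr

/-- additive functors keep such complexes exact in high degrees -/
theorem isZero_homology_map {D : Type w} [Category.{v} D] [Abelian D]
    (T : ModuleCat.{u} A ⥤ D) [T.Additive] {E : DRing.Cx A} (m b : ℤ)
    (hb : DRing.VanishesAbove E b) (hE : ∀ i, Projective (E.X i))
    (hex : ∀ i, m ≤ i → IsZero (E.homology i)) (i : ℤ) (hi : m ≤ i) :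
    IsZero (((T.mapHomologicalComplex (ComplexShape.up ℤ)).obj E).homology i) := by
  obtain ⟨j, rfl⟩ : ∃ j, i = j + 1 := ⟨i - 1, by lia⟩
  obtain ⟨-, s₀, hs₀⟩ := exists_section m b hb hE hex j (by lia)
  obtain ⟨-, s₁, hs₁⟩ := exists_section m b hb hE hex (j + 1) (by lia)
  obtain ⟨-, s₂, hs₂⟩ := exists_section m b hb hE hex (j + 1 + 1) (by lia)
  have hd : ∀ (i : ℤ) (x : E.X i), (E.d (i + 1) (i + 1 + 1)).hom ((E.d i (i + 1)).hom x) = 0 :=
    fun i x => LinearMap.congr_fun (congrArg ModuleCat.Hom.hom (E.d_comp_d i (i + 1) (i + 1 + 1))) x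
  -- projections onto the cycles
  let r₂ : E.X (j + 1 + 1) →ₗ[A] LinearMap.ker (E.d (j + 1 + 1) (j + 1 + 1 + 1)).hom :=
    (LinearMap.id - s₂ ∘ₗ (E.d (j + 1 + 1) (j + 1 + 1 + 1)).hom.codRestrict (LinearMap.ker (E.d (j + 1 + 1 + 1) (j + 1 + 1 + 1 + 1)).hom) (hd _)).codRestrict _
      fun x => by simp [hs₂]
  let a : E.X (j + 1 + 1) →ₗ[A] E.X (j + 1) := s₁ ∘ₗ r₂
  let r₁ : E.X (j + 1) →ₗ[A] LinearMap.ker (E.d (j + 1) (j + 1 + 1)).hom :=
    (LinearMap.id - s₁ ∘ₗ (E.d (j + 1) (j + 1 + 1)).hom.codRestrict (LinearMap.ker (E.d (j + 1 + 1) (j + 1 + 1 + 1)).hom) (hd _)).codRestrict _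
      fun x => by simp [hs₁]
  let c : E.X (j + 1) →ₗ[A] E.X j := s₀ ∘ₗ r₁
  have hid : ∀ x, a ((E.d (j + 1) (j + 1 + 1)).hom x) + (E.d j (j + 1)).hom (c x) = x := by
    intro x
    have h0 : (E.d (j + 1 + 1) (j + 1 + 1 + 1)).hom.codRestrict
        (LinearMap.ker (E.d (j + 1 + 1 + 1) (j + 1 + 1 + 1 + 1)).hom) (hd (j + 1 + 1))
        ((E.d (j + 1) (j + 1 + 1)).hom x) = 0 := Subtype.ext (hd _ x)
    have h1 : r₂ ((E.d (j + 1) (j + 1 + 1)).hom x) =
        (E.d (j + 1) (j + 1 + 1)).hom.codRestrict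
          (LinearMap.ker (E.d (j + 1 + 1) (j + 1 + 1 + 1)).hom) (hd (j + 1)) x := by
      refine Subtype.ext ?_
      simp [r₂, h0]
    simp [a, c, h1, hs₀, r₁]
  have hid' : E.d (j + 1) (j + 1 + 1) ≫ ModuleCat.ofHom a + ModuleCat.ofHom c ≫ E.d j (j + 1) = 𝟙 _ := by
    ext x; exact hid x
  rw [← HomologicalComplex.exactAt_iff_isZero_homology,
    HomologicalComplex.exactAt_iff' _ j (j + 1) (j + 1 + 1) (by simp) (by simp)]
  have k2 : T.map (E.d (j + 1) (j + 1 + 1)) ≫ T.map (ModuleCat.ofHom a) +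
      T.map (ModuleCat.ofHom c) ≫ T.map (E.d j (j + 1)) = 𝟙 _ := by
    rw [← T.map_comp, ← T.map_comp, ← T.map_add, hid', T.map_id]
  have k0 : T.map (E.d j (j + 1)) ≫ T.map (E.d (j + 1) (j + 1 + 1)) = 0 := by
    rw [← T.map_comp, E.d_comp_d, T.map_zero]
  have kc : T.map (ModuleCat.ofHom c) ≫ T.map (E.d j (j + 1)) =
      𝟙 _ - T.map (E.d (j + 1) (j + 1 + 1)) ≫ T.map (ModuleCat.ofHom a) := by
    rw [← k2]; simp
  have ka : T.map (E.d (j + 1) (j + 1 + 1)) ≫ T.map (ModuleCat.ofHom a) =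
      𝟙 _ - T.map (ModuleCat.ofHom c) ≫ T.map (E.d j (j + 1)) := by
    rw [← k2]; simp
  let S := ShortComplex.mk (T.map (E.d j (j + 1))) (T.map (E.d (j + 1) (j + 1 + 1))) k0
  change S.Exact
  rw [ShortComplex.exact_iff_isZero_homology, IsZero.iff_id_eq_zero]
  let h : ShortComplex.Homotopy (𝟙 S) 0 :=
    { h₀ := 𝟙 _ - T.map (E.d j (j + 1)) ≫ T.map (ModuleCat.ofHom c)
      h₁ := T.map (ModuleCat.ofHom c)
      h₂ := T.map (ModuleCat.ofHom a)
      h₃ := 𝟙 _ - T.map (ModuleCat.ofHom a) ≫ T.map (E.d (j + 1) (j + 1 + 1))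
      h₀_f := by simp [S, kc, reassoc_of% k0]
      g_h₃ := by simp [S, reassoc_of% ka, k0]
      comm₁ := by simp [S]
      comm₂ := by simpa [S] using k2.symm
      comm₃ := by simp [S] }
  rw [← ShortComplex.homologyMap_id, h.homologyMap_congr, ShortComplex.homologyMap_zero]

variable {B : Type u} [CommRing B] (φ : A →+* B)

lemma extendScalars_finiteFree {M : ModuleCat.{u} A} (h : Module.Finite A M ∧ Module.Free A M) :
    Module.Finite B ((ModuleCat.extendScalars.{u, u, u} φ).obj M) ∧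
      Module.Free B ((ModuleCat.extendScalars.{u, u, u} φ).obj M) := by
  algebraize [φ]
  haveI := h.1
  haveI := h.2
  exact ⟨inferInstanceAs (Module.Finite B (TensorProduct A B M)),
    inferInstanceAs (Module.Free B (TensorProduct A B M))⟩

lemma extendScalars_finiteProjective {M : ModuleCat.{u} A}
    (h : Module.Finite A M ∧ Module.Projective A M) :
    Module.Finite B ((ModuleCat.extendScalars.{u, u, u} φ).obj M) ∧
      Module.Projective B ((ModuleCat.extendScalars.{u, u, u} φ).obj M) := by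
  algebraize [φ]
  haveI := h.1
  haveI := h.2
  exact ⟨inferInstanceAs (Module.Finite B (TensorProduct A B M)),
    inferInstanceAs (Module.Projective B (TensorProduct A B M))⟩

/-- termwise base change of a bounded above complex of projectives keeps pseudo-coherence -/
theorem pc_bc {P : DRing.Cx A} {b : ℤ} (hb : DRing.VanishesAbove P b) (hP : ∀ i, Projective (P.X i))
    (m : ℤ) (h : DRing.IsPseudoCoherent A m (DRing.toD P)) :
    DRing.IsPseudoCoherent B m (DRing.toD ((bc φ).obj P)) := by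
  obtain ⟨E, b', α, hE, hEf, hα⟩ := pc_exists_ge h
  haveI := isKProjective_of_vanishesAbove (fun i hi => hE i (Or.inr hi))
    (projective_X (termwiseFiniteProjective_of_free hEf))
  obtain ⟨g, hg⟩ := PerfLocal.exists_lift α
  rw [← hg] at hα
  refine pc_iff.2 ⟨(bc φ).obj E, m, b', DerivedCategory.Q.map ((bc φ).map g),
    fun i hi => (ModuleCat.extendScalars.{u, u, u} φ).map_isZero (hE i hi),
    fun i => extendScalars_finiteFree φ (hEf i), (isAbove_cone _).2 fun i hi => ?_⟩
  refine IsZero.of_iso ?_ ((HomologicalComplex.homologyFunctor (ModuleCat.{u} B) (ComplexShape.up ℤ) i).mapIso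
    (CochainComplex.mappingCone.mapHomologicalComplexIso g (ModuleCat.extendScalars.{u, u, u} φ))).symm
  refine isZero_homology_map (ModuleCat.extendScalars.{u, u, u} φ) m (max b b') (fun j hj => ?_) (fun j => ?_)
    ((isAbove_cone g).1 hα) i hi
  · exact IsZero.of_iso (biprod_isZero_iff _ _ |>.2 ⟨hE (j + 1) (by lia), hb j (by lia)⟩)
      (HomologicalComplex.homotopyCofiber.XIsoBiprod g j (j + 1) rfl)
  · haveI := projective_X (termwiseFiniteProjective_of_free hEf) (j + 1)
    haveI := hP j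
    exact Projective.of_iso (HomologicalComplex.homotopyCofiber.XIsoBiprod g j (j + 1) rfl).symm inferInstance

/-- derived base change keeps `m`-pseudo-coherence -/
theorem pc_lBaseChange [DRing.HasLBaseChange φ] (K : Dual.D A) (m : ℤ)
    (hK : DRing.IsPseudoCoherent A m K) :
    DRing.IsPseudoCoherent B m ((DRing.LBaseChange φ).obj K) := by
  obtain ⟨P, b, hb, hP, ⟨e⟩⟩ := exists_proj_rep_le K (pc_bounded hK)
  haveI := isKProjective_of_vanishesAbove hb hP
  exact pc_of_iso ((lBaseChangeIso φ P).symm ≪≫ (DRing.LBaseChange φ).mapIso e)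
    (pc_bc φ hb hP m (pc_of_iso e.symm hK))

/-- derived base change keeps perfectness -/
theorem isPerfect_lBaseChange [DRing.HasLBaseChange φ] (K : Dual.D A) (hK : DRing.IsPerfect A K) :
    DRing.IsPerfect B ((DRing.LBaseChange φ).obj K) := by
  obtain ⟨E, a, b, hE, hEp, ⟨e⟩⟩ := hK
  haveI := isKProjective_of_vanishesAbove (fun i hi => hE i (Or.inr hi)) (projective_X hEp)
  exact ⟨(bc φ).obj E, a, b, fun i hi => (ModuleCat.extendScalars.{u, u, u} φ).map_isZero (hE i hi),
    fun i => extendScalars_finiteProjective φ (hEp i),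
    ⟨(lBaseChangeIso φ E).symm ≪≫ (DRing.LBaseChange φ).mapIso e⟩⟩

/-- flat base change of a pseudo-coherent complex with bounded above cohomology -/
theorem pc_bc_of_flat (hφ : φ.Flat) (K : DRing.Cx A) (m : ℤ)
    (hK : DRing.IsPseudoCoherent A m (DRing.toD K)) :
    DRing.IsPseudoCoherent B m (DRing.toD ((bc φ).obj K)) := by
  obtain ⟨P, b, hb, hP, ⟨e⟩⟩ := exists_proj_rep_le _ (pc_bounded hK)
  haveI := isKProjective_of_vanishesAbove hb hP
  obtain ⟨g, hg⟩ := PerfLocal.exists_lift e.hom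
  haveI : IsIso (DerivedCategory.Q.map g) := by rw [hg]; infer_instance
  haveI : QuasiIso g := (DerivedCategory.isIso_Q_map_iff_quasiIso _ g).1 inferInstance
  haveI : PreservesFiniteLimits (ModuleCat.extendScalars.{u, u, u} φ) := by
    algebraize [φ]
    exact ModuleCat.preservesFiniteLimits_extendScalars_of_flat hφ
  haveI : PreservesFiniteColimits (ModuleCat.extendScalars.{u, u, u} φ) := inferInstance
  haveI : QuasiIso ((bc φ).map g) := inferInstance
  exact pc_of_iso (asIso (DerivedCategory.Q.map ((bc φ).map g))) (pc_bc φ hb hP m (pc_of_iso e.symm hK))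

end Groth.Agent.DRingKP
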