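import Groth.Agent.DRingKP.KFlat
import Groth.Agent.DRingKP.BC
import Groth.Agent.DRingKP.Coherent
import Mathlib.Algebra.Homology.Embedding.TruncGEHomology
import Mathlib.Algebra.Homology.Embedding.TruncLEHomology
import Mathlib.RingTheory.Flat.Tensor
import Mathlib.RingTheory.Flat.EquationalCriterion
import Mathlib.RingTheory.TensorProduct.Quotient

/-!
Tor amplitude of objects of `D(A)` through bounded above flat representatives.
-/

set_option autoImplicit false
set_option linter.style.haveILetI false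
universe u

namespace Groth.Agent.DRingKP

open CategoryTheory Limits DerivedCategory MonoidalCategory HomologicalComplex Pretriangulated ZeroObject
open scoped TensorProduct

attribute [local instance] HasDerivedCategory.standard

variable {A : Type u} [CommRing A]

/-- `- ⊗ M` on complexes -/
noncomputable abbrev tR (M : ModuleCat.{u} A) : DRing.Cx A ⥤ DRing.Cx A :=
  (tensorRight M).mapHomologicalComplex (ComplexShape.up ℤ)

/-- the cohomology of `F ⊗ M` vanishes outside `[a, b]` for all `M` -/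
def Van (a b : ℤ) (F : DRing.Cx A) : Prop :=
  ∀ (M : ModuleCat.{u} A) (i : ℤ), i < a ∨ b < i → IsZero (((tR M).obj F).homology i)

/-- `tens` with a module in degree zero -/
noncomputable def tensSingleIso (C : DRing.Cx A) (M : ModuleCat.{u} A) :
    ((KFlat.tens (tB A)).obj C).obj ((HomologicalComplex.single _ (ComplexShape.up ℤ) 0).obj M) ≅
      (tR M).obj C :=
  (HomologicalComplex.Hom.isoOfComponents (fun n => KFlat.singleXIso (tB A) C M 0 n n (add_zero n))
    (fun i j hij => by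
      obtain rfl : i + 1 = j := hij
      exact KFlat.singleXIso_comm' (tB A) C M 0 i i (i + 1) (add_zero i) (add_zero _))).symm

/-- acyclic bounded above flat complexes stay acyclic after `⊗ M` -/
theorem acyclic_tR {C : DRing.Cx A} {b : ℤ} (hb : DRing.VanishesAbove C b) (hC : DRing.TermwiseFlat C)
    (hac : C.Acyclic) (M : ModuleCat.{u} A) : ((tR M).obj C).Acyclic := by
  let F := (HomologicalComplex.single _ (ComplexShape.up ℤ) 0).obj M
  have h : (((KFlat.tens (tB A)).obj F).obj C).Acyclic := by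
    refine KFlat.acyclic_tens_of_acyclic_rflat (tBraid A) (fun G => ?_)
      ((rflat_iff C).2 (isKFlat_of_bounded hb hC)) hac F
    obtain ⟨K, q, h1, -, h3, -⟩ := exists_kFlat_resolution G
    exact ⟨K, q, (rflat_iff K).2 h1, h3⟩
  exact KFlat.acyclic_of_iso (tensSingleIso C M) (KFlat.acyclic_of_iso (KFlat.swapIso (tBraid A) F C) h)

lemma flat_biprod {M N : ModuleCat.{u} A} (h : Module.Flat A M) (h' : Module.Flat A N) :
    Module.Flat A (M ⊞ N : ModuleCat.{u} A) :=
  (flatObj_iff A _).1 (KFlat.flatObj_biprod ((flatObj_iff A _).2 h) ((flatObj_iff A _).2 h'))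

lemma cone_flat {F G : DRing.Cx A} (g : F ⟶ G) (hF : DRing.TermwiseFlat F) (hG : DRing.TermwiseFlat G) :
    DRing.TermwiseFlat (CochainComplex.mappingCone g) := fun i =>
  haveI := flat_biprod (hF (i + 1)) (hG i)
  Module.Flat.of_linearEquiv
    (HomologicalComplex.homotopyCofiber.XIsoBiprod g i (i + 1) rfl).toLinearEquiv

lemma cone_vanishesAbove {F G : DRing.Cx A} (g : F ⟶ G) {b b' : ℤ} (hF : DRing.VanishesAbove F b)
    (hG : DRing.VanishesAbove G b') : DRing.VanishesAbove (CochainComplex.mappingCone g) (max b b') :=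
  fun i hi => IsZero.of_iso (biprod_isZero_iff _ _ |>.2 ⟨hF (i + 1) (by lia), hG i (by lia)⟩)
    (HomologicalComplex.homotopyCofiber.XIsoBiprod g i (i + 1) rfl)

/-- quasi-isomorphisms of bounded above flat complexes stay so after `⊗ M` -/
theorem quasiIso_tR {F G : DRing.Cx A} (g : F ⟶ G) [QuasiIso g] {b b' : ℤ}
    (hFb : DRing.VanishesAbove F b) (hGb : DRing.VanishesAbove G b')
    (hF : DRing.TermwiseFlat F) (hG : DRing.TermwiseFlat G) (M : ModuleCat.{u} A) :
    QuasiIso ((tR M).map g) :=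
  KFlat.quasiIso_of_acyclic_mappingCone _ (KFlat.acyclic_of_iso
    (CochainComplex.mappingCone.mapHomologicalComplexIso g (tensorRight M))
    (acyclic_tR (cone_vanishesAbove g hFb hGb) (cone_flat g hF hG) (KFlat.mappingCone_acyclic g) M))

lemma flat_of_projective {P : DRing.Cx A} (hP : ∀ i, Projective (P.X i)) : DRing.TermwiseFlat P := fun i =>
  haveI : Module.Projective A (P.X i) := (IsProjective.iff_projective (P.X i)).2 (hP i)
  inferInstance

/-- comparison of two flat representatives -/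
theorem van_iff {F G : DRing.Cx A} {b b' : ℤ} (hFb : DRing.VanishesAbove F b) (hGb : DRing.VanishesAbove G b')
    (hF : DRing.TermwiseFlat F) (hG : DRing.TermwiseFlat G) (e : DRing.toD F ≅ DRing.toD G) (a c : ℤ) :
    Van a c F ↔ Van a c G := by
  haveI : (DRing.toD F).IsLE b :=
    haveI : F.IsStrictlyLE b := (CochainComplex.isStrictlyLE_iff F b).2 hFb
    inferInstance
  obtain ⟨P, bP, hPb, hP, ⟨eP⟩⟩ := exists_proj_rep_le (DRing.toD F)
    ⟨b + 1, fun i hi => DerivedCategory.isZero_of_isLE _ b i (by lia)⟩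
  haveI := isKProjective_of_vanishesAbove hPb hP
  obtain ⟨f, hf⟩ := PerfLocal.exists_lift eP.hom
  obtain ⟨g, hg⟩ := PerfLocal.exists_lift (eP.hom ≫ e.hom)
  haveI : IsIso (DerivedCategory.Q.map f) := by rw [hf]; infer_instance
  haveI : IsIso (DerivedCategory.Q.map g) := by rw [hg]; infer_instance
  haveI : QuasiIso f := (DerivedCategory.isIso_Q_map_iff_quasiIso _ f).1 inferInstance
  haveI : QuasiIso g := (DerivedCategory.isIso_Q_map_iff_quasiIso _ g).1 inferInstance
  have key : ∀ {X : DRing.Cx A} {bX : ℤ} (h : P ⟶ X), QuasiIso h → DRing.VanishesAbove X bX →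
      DRing.TermwiseFlat X → (Van a c P ↔ Van a c X) := fun {X bX} h _ hXb hX => by
    refine forall₃_congr fun M i _ => ?_
    have hq := quasiIso_tR h hPb hXb (flat_of_projective hP) hX M
    exact (@isoOfQuasiIsoAt _ _ _ _ _ _ _ ((tR M).map h) i _ _ ((quasiIso_iff _).1 hq i)).isZero_iff
  exact (key f inferInstance hFb hF).symm.trans (key g inferInstance hGb hG)

/-- representability by a bounded above flat complex with vanishing `⊗ M` outside `[a, b]` -/
def TorVan (a b : ℤ) (K : Dual.D A) : Prop :=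
  ∃ (F : DRing.Cx A) (c : ℤ), DRing.VanishesAbove F c ∧ DRing.TermwiseFlat F ∧
    Nonempty (DRing.toD F ≅ K) ∧ Van a b F

lemma torVan_of_amp {a b : ℤ} {K : Dual.D A} (h : DRing.HasTorAmplitudeIn A a b K) : TorVan a b K := by
  obtain ⟨E, hE, hEf, e⟩ := h
  exact ⟨E, b, fun i hi => hE i (Or.inr hi), hEf, e, fun M i hi =>
    ShortComplex.isZero_homology_of_isZero_X₂ _ ((tensorRight M).map_isZero (hE i hi))⟩

lemma torVan_rep {a b : ℤ} {K : Dual.D A} (h : TorVan a b K) {G : DRing.Cx A} {c : ℤ}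
    (hGb : DRing.VanishesAbove G c) (hG : DRing.TermwiseFlat G) (e : DRing.toD G ≅ K) : Van a b G := by
  obtain ⟨F, cF, hFb, hF, ⟨eF⟩, hv⟩ := h
  exact (van_iff hFb hGb hF hG (eF ≪≫ e.symm) a b).1 hv

/-- `⊗ A` does nothing -/
lemma isZero_homology_of_van {a b : ℤ} {F : DRing.Cx A} (h : Van a b F) {i : ℤ} (hi : i < a ∨ b < i) :
    IsZero (F.homology i) :=
  (h (𝟙_ (ModuleCat.{u} A)) i hi).of_iso ((HomologicalComplex.homologyFunctor _ _ i).mapIso
    (HomologicalComplex.Hom.isoOfComponents (fun n => ρ_ (F.X n))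
      (fun n m _ => (rightUnitor_naturality (F.d n m)).symm))).symm

/-- cokernels of differentials are flat below the range -/
theorem flat_coker {F : DRing.Cx A} (hF : DRing.TermwiseFlat F) (a : ℤ)
    (h : ∀ (M : ModuleCat.{u} A), IsZero (((tR M).obj F).homology (a - 1))) :
    Module.Flat A (F.X a ⧸ LinearMap.range (F.d (a - 1) a).hom) := by
  rw [Module.Flat.iff_lTensor_injective]
  intro I _
  let d := (F.d (a - 1) a).hom
  let π := (LinearMap.range d).mkQ
  haveI := hF a
  let μ : ∀ (N : Type u) [AddCommGroup N] [Module A N], N ⊗[A] I →ₗ[A] N := fun N _ _ =>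
    (TensorProduct.rid A N).toLinearMap ∘ₗ LinearMap.lTensor N I.subtype
  have hμnat : ∀ {N N' : Type u} [AddCommGroup N] [Module A N] [AddCommGroup N'] [Module A N']
      (f : N →ₗ[A] N') (x : N ⊗[A] I), μ N' (f.rTensor I x) = f (μ N x) := by
    intro N N' _ _ _ _ f x
    induction x using TensorProduct.induction_on with
    | zero => simp
    | tmul n i => simp [μ]
    | add x y hx hy => simp [hx, hy]
  refine (injective_iff_map_eq_zero _).2 fun x hx => ?_
  obtain ⟨y, rfl⟩ := LinearMap.rTensor_surjective I (Submodule.mkQ_surjective (LinearMap.range d)) x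
  have hy : π (μ _ y) = 0 := by
    rw [← hμnat]
    show (TensorProduct.rid A _) (LinearMap.lTensor _ I.subtype _) = 0
    rw [hx, map_zero]
  obtain ⟨z, hz⟩ := (Submodule.Quotient.mk_eq_zero _).1 hy
  -- `μ` hits `I • ⊤`
  have hrange : ∀ (N : Type u) [AddCommGroup N] [Module A N] (n : N), n ∈ I • (⊤ : Submodule A N) →
      ∃ t, μ N t = n := by
    intro N _ _ n hn
    refine Submodule.smul_induction_on hn (fun r hr n _ => ⟨n ⊗ₜ ⟨r, hr⟩, by simp [μ]⟩) ?_
    rintro _ _ ⟨t, rfl⟩ ⟨t', rfl⟩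
    exact ⟨t + t', map_add _ _ _⟩
  have hμmem : ∀ (t : F.X a ⊗[A] I), μ _ t ∈ I • (⊤ : Submodule A (F.X a)) := by
    intro t
    induction t using TensorProduct.induction_on with
    | zero => simp
    | tmul n i =>
      simp only [μ, LinearMap.comp_apply, LinearMap.lTensor_tmul, LinearEquiv.coe_coe, TensorProduct.rid_tmul]
      exact Submodule.smul_mem_smul i.2 trivial
    | add t t' ht ht' => rw [map_add]; exact add_mem ht ht'
  let Q : ModuleCat.{u} A := ModuleCat.of A (A ⧸ I)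
  have hcyc : (F.d (a - 1) a).hom.rTensor (A ⧸ I) (z ⊗ₜ (1 : A ⧸ I)) = 0 := by
    refine (TensorProduct.tensorQuotEquivQuotSMul (F.X a) I).injective ?_
    rw [LinearMap.rTensor_tmul, map_zero, show (1 : A ⧸ I) = Ideal.Quotient.mk I 1 from rfl,
      TensorProduct.tensorQuotEquivQuotSMul_tmul_mk, one_smul, Submodule.Quotient.mk_eq_zero]
    exact hz ▸ hμmem y
  have hex : (((tR Q).obj F).sc' (a - 2) (a - 1) a).Exact :=
    (((tR Q).obj F).exactAt_iff' (a - 2) (a - 1) a (by simp; lia) (by simp)).1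
      ((HomologicalComplex.exactAt_iff_isZero_homology _ _).2 (h Q))
  obtain ⟨w', hw'⟩ := (ShortComplex.moduleCat_exact_iff _).1 hex (z ⊗ₜ (1 : A ⧸ I)) hcyc
  have hsurj : ∀ (N : Type u) [AddCommGroup N] [Module A N] (t : N ⊗[A] (A ⧸ I)),
      ∃ n : N, n ⊗ₜ (1 : A ⧸ I) = t := by
    intro N _ _ t
    induction t using TensorProduct.induction_on with
    | zero => exact ⟨0, TensorProduct.zero_tmul _ _⟩
    | tmul n q =>
      obtain ⟨r, rfl⟩ := Ideal.Quotient.mk_surjective q
      exact ⟨r • n, by rw [TensorProduct.smul_tmul]; congr 1; simp [Algebra.smul_def]⟩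
    | add t t' ht ht' =>
      obtain ⟨n, rfl⟩ := ht; obtain ⟨n', rfl⟩ := ht'
      exact ⟨n + n', TensorProduct.add_tmul _ _ _⟩
  obtain ⟨w, rfl⟩ := hsurj (F.X (a - 2)) w'
  replace hw' : ((F.d (a - 2) (a - 1)).hom w) ⊗ₜ[A] (1 : A ⧸ I) = z ⊗ₜ (1 : A ⧸ I) := hw'
  have hmem : z - (F.d (a - 2) (a - 1)).hom w ∈ I • (⊤ : Submodule A (F.X (a - 1))) := by
    rw [← Submodule.Quotient.mk_eq_zero]
    have := congrArg (TensorProduct.tensorQuotEquivQuotSMul (F.X (a - 1)) I) hw'
    simp only [show (1 : A ⧸ I) = Ideal.Quotient.mk I 1 from rfl,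
      TensorProduct.tensorQuotEquivQuotSMul_tmul_mk, one_smul] at this
    rw [Submodule.Quotient.mk_sub, ← this, sub_self]
  obtain ⟨ζ, hζ⟩ := hrange _ _ hmem
  have hinj : Function.Injective (μ (F.X a)) :=
    (TensorProduct.rid A (F.X a)).injective.comp
      (Module.Flat.lTensor_preserves_injective_linearMap I.subtype I.injective_subtype)
  have hyζ : y = d.rTensor I ζ := by
    refine hinj ?_
    rw [hμnat, hζ, map_sub, ← hz]
    have : d ((F.d (a - 2) (a - 1)).hom w) = 0 :=
      LinearMap.congr_fun (congrArg ModuleCat.Hom.hom (F.d_comp_d (a - 2) (a - 1) a)) w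
    rw [this, sub_zero]
  rw [hyζ, ← LinearMap.rTensor_comp_apply, LinearMap.range_mkQ_comp, LinearMap.rTensor_zero,
    LinearMap.zero_apply]

section Trunc

variable {a b c : ℤ}

/-- truncation of a projective representative -/
theorem exists_trunc {P : DRing.Cx A} (hc : DRing.VanishesAbove P c) (hP : ∀ i, Projective (P.X i))
    (hv : Van a b P) :
    ∃ E : DRing.Cx A, DRing.VanishesOutside E a b ∧ DRing.TermwiseFlat E ∧
      Nonempty (DRing.toD E ≅ DRing.toD P) ∧
      (DRing.TermwiseFiniteProjective P → DRing.TermwiseFiniteProjective E) := by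
  have hex : ∀ i, b + 1 ≤ i → IsZero (P.homology i) := fun i hi => isZero_homology_of_van hv (Or.inr (by lia))
  haveI : P.IsLE b := (CochainComplex.isLE_iff P b).2 fun i hi =>
    (HomologicalComplex.exactAt_iff_isZero_homology _ _).2 (hex i (by lia))
  let P' := P.truncLE b
  haveI : QuasiIso (P.ιTruncLE b) := (CochainComplex.quasiIso_ιTruncLE_iff P b).2 inferInstance
  have hP'b : DRing.VanishesAbove P' b := (CochainComplex.isStrictlyLE_iff P' b).1 inferInstance
  let S := P.sc' (b - 1) b (b + 1)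
  let ecyc : P'.X b ≅ ModuleCat.of A (LinearMap.ker (P.d b (b + 1)).hom) :=
    P.truncLEXIsoCycles b ≪≫ P.cyclesIsoSc' (b - 1) b (b + 1) (by simp) (by simp) ≪≫ S.moduleCatCyclesIso
  have hP' : ∀ i, Projective (P'.X i) := fun i => by
    rcases lt_trichotomy i b with hi | rfl | hi
    · haveI := hP i
      exact Projective.of_iso (P.truncLEXIso b i hi).symm inferInstance
    · haveI : Module.Projective A (LinearMap.ker (P.d i (i + 1)).hom) :=
        (exists_section (i + 1) c hc hP hex i (by lia)).1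
      exact Projective.of_iso ecyc.symm ((IsProjective.iff_projective _).1 inferInstance)
    · exact Projective.of_iso (hP'b i hi).isoZero.symm inferInstance
  have hv' : Van a b P' := (van_iff hc hP'b (flat_of_projective hP) (flat_of_projective hP')
    (asIso (DerivedCategory.Q.map (P.ιTruncLE b))).symm a b).1 hv
  haveI : P'.IsGE a := (CochainComplex.isGE_iff P' a).2 fun i hi =>
    (HomologicalComplex.exactAt_iff_isZero_homology _ _).2 (isZero_homology_of_van hv' (Or.inl hi))
  haveI : QuasiIso (P'.πTruncGE a) := (CochainComplex.quasiIso_πTruncGE_iff P' a).2 inferInstance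
  let E := P'.truncGE a
  have hE : DRing.VanishesOutside E a b := fun i hi => by
    rcases hi with hi | hi
    · exact E.isZero_of_isStrictlyGE a i hi
    · exact E.isZero_of_isStrictlyLE b i hi
  let T := P'.sc' (a - 1) a (a + 1)
  let eop : E.X a ≅ ModuleCat.of A (P'.X a ⧸ LinearMap.range (P'.d (a - 1) a).hom) :=
    P'.truncGEXIsoOpcycles a ≪≫ P'.opcyclesIsoSc' (a - 1) a (a + 1) (by simp) (by simp) ≪≫
      T.moduleCatOpcyclesIso
  have hflatQ := flat_coker (flat_of_projective hP') a fun M => hv' M (a - 1) (Or.inl (by lia))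
  refine ⟨E, hE, fun i => ?_, ⟨(asIso (DerivedCategory.Q.map (P'.πTruncGE a))).symm ≪≫
      asIso (DerivedCategory.Q.map (P.ιTruncLE b))⟩, fun hfp i => ?_⟩
  · rcases lt_trichotomy i a with hi | rfl | hi
    · haveI := ModuleCat.subsingleton_of_isZero (hE i (Or.inl hi))
      infer_instance
    · exact Module.Flat.of_linearEquiv eop.toLinearEquiv
    · haveI := flat_of_projective hP' i
      exact Module.Flat.of_linearEquiv (P'.truncGEXIso a i hi).toLinearEquiv
  · have hP'f : ∀ j, Module.Finite A (P'.X j) := fun j => by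
      rcases lt_trichotomy j b with hj | rfl | hj
      · haveI := (hfp j).1
        exact Module.Finite.equiv (P.truncLEXIso b j hj).toLinearEquiv.symm
      · haveI : Module.Finite A (LinearMap.ker (P.d j (j + 1)).hom) :=
          (cycles_finiteProjective j c hc hfp (fun k hk => hex k (by lia)) j le_rfl).1
        exact Module.Finite.equiv ecyc.toLinearEquiv.symm
      · haveI := ModuleCat.subsingleton_of_isZero (hP'b j hj)
        infer_instance
    rcases lt_trichotomy i a with hi | rfl | hi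
    · exact PerfLocal.finiteProjective_of_isZero (hE i (Or.inl hi))
    · haveI := hP'f i
      haveI := hP'f (i - 1)
      haveI := (IsProjective.iff_projective (P'.X i)).2 (hP' i)
      haveI := Module.finitePresentation_of_projective A (P'.X i)
      haveI : Module.FinitePresentation A (P'.X i ⧸ LinearMap.range (P'.d (i - 1) i).hom) :=
        Module.finitePresentation_of_surjective (Submodule.mkQ _) (Submodule.mkQ_surjective _)
          (by rw [Submodule.ker_mkQ]; exact Submodule.fg_range (P'.d (i - 1) i).hom)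
      haveI := hflatQ
      exact PerfLocal.finiteProjective_of_iso eop.symm
        ⟨inferInstanceAs (Module.Finite A (P'.X i ⧸ LinearMap.range (P'.d (i - 1) i).hom)),
          Module.Flat.projective_of_finitePresentation⟩
    · exact PerfLocal.finiteProjective_of_iso (P'.truncGEXIso a i hi).symm
        ⟨hP'f i, (IsProjective.iff_projective (P'.X i)).2 (hP' i)⟩

end Trunc

/-- the criterion -/
theorem amp_iff_torVan {a b : ℤ} {K : Dual.D A} : DRing.HasTorAmplitudeIn A a b K ↔ TorVan a b K := by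
  refine ⟨torVan_of_amp, fun h => ?_⟩
  obtain ⟨F, c, hFb, hF, ⟨e⟩, -⟩ := id h
  haveI : F.IsStrictlyLE c := (CochainComplex.isStrictlyLE_iff F c).2 hFb
  obtain ⟨P, cP, hPb, hP, ⟨eP⟩⟩ := exists_proj_rep_le K ⟨c + 1, isAbove_of_iso e fun i hi =>
    DerivedCategory.isZero_of_isLE (DRing.toD F) c i (by lia)⟩
  obtain ⟨E, hE, hEf, ⟨eE⟩, -⟩ := exists_trunc hPb hP (torVan_rep h hPb (flat_of_projective hP) eP)
  exact ⟨E, hE, hEf, ⟨eE ≪≫ eP⟩⟩

/-- bounded finite projective representatives -/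
theorem exists_finiteProjective_rep {a b : ℤ} {K : Dual.D A} (hK : DRing.IsPseudoCoherent' A K)
    (h : DRing.HasTorAmplitudeIn A a b K) :
    ∃ E : DRing.Cx A, DRing.VanishesOutside E a b ∧ DRing.TermwiseFiniteProjective E ∧
      Nonempty (DRing.toD E ≅ K) := by
  obtain ⟨P, c, hc, hP, ⟨e⟩⟩ := hK
  have hP' := projective_X (termwiseFiniteProjective_of_free hP)
  obtain ⟨E, hE, -, ⟨eE⟩, hfp⟩ := exists_trunc hc hP'
    (torVan_rep (torVan_of_amp h) hc (flat_of_projective hP') e)
  exact ⟨E, hE, hfp (termwiseFiniteProjective_of_free hP), ⟨eE ≪≫ e⟩⟩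

lemma pc'_of_isPerfect {K : Dual.D A} (h : DRing.IsPerfect A K) : DRing.IsPseudoCoherent' A K := by
  obtain ⟨E, a, b, hE, hEp, e⟩ := h
  exact pc'_iff_projective.2 ⟨E, b, fun i hi => hE i (Or.inr hi), hEp, e⟩

lemma finiteTor_of_isPerfect {K : Dual.D A} (h : DRing.IsPerfect A K) : DRing.HasFiniteTorDimCx A K := by
  obtain ⟨E, a, b, hE, hEp, e⟩ := h
  exact ⟨a, b, E, hE, fun i => haveI := (hEp i).2; inferInstance, e⟩

theorem isPerfect_iff (K : Dual.D A) :
    DRing.IsPerfect A K ↔ DRing.IsPseudoCoherent' A K ∧ DRing.HasFiniteTorDimCx A K := by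
  refine ⟨fun h => ⟨pc'_of_isPerfect h, finiteTor_of_isPerfect h⟩, fun h => ?_⟩
  obtain ⟨a, b, hab⟩ := h.2
  obtain ⟨E, hE, hEp, e⟩ := exists_finiteProjective_rep h.1 hab
  exact ⟨E, a, b, hE, hEp, e⟩

/-- retracts -/
theorem torVan_retract {a b : ℤ} {K L : Dual.D A} (h : TorVan a b L) (s : K ⟶ L) (r : L ⟶ K)
    (hsr : s ≫ r = 𝟙 K) : TorVan a b K := by
  obtain ⟨F, c, hFb, hF, ⟨e⟩, hv⟩ := h
  haveI : F.IsStrictlyLE c := (CochainComplex.isStrictlyLE_iff F c).2 hFb
  have hL : IsAbove (c + 1) L := isAbove_of_iso e fun i hi =>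
    DerivedCategory.isZero_of_isLE (DRing.toD F) c i (by lia)
  have hK : IsAbove (c + 1) K := fun i hi => by
    rw [IsZero.iff_id_eq_zero, ← CategoryTheory.Functor.map_id, ← hsr, Functor.map_comp,
      (hL i hi).eq_of_tgt ((DerivedCategory.homologyFunctor (ModuleCat.{u} A) i).map s) 0, zero_comp]
  obtain ⟨P, cP, hPb, hP, ⟨eP⟩⟩ := exists_proj_rep_le K ⟨_, hK⟩
  obtain ⟨P₂, c₂, hP₂b, hP₂, ⟨eP₂⟩⟩ := exists_proj_rep_le L ⟨_, hL⟩
  haveI := isKProjective_of_vanishesAbove hPb hP
  haveI := isKProjective_of_vanishesAbove hP₂b hP₂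
  obtain ⟨f, hf⟩ := PerfLocal.exists_lift (eP.hom ≫ s ≫ eP₂.inv)
  obtain ⟨g, hg⟩ := PerfLocal.exists_lift (eP₂.hom ≫ r ≫ eP.inv)
  refine ⟨P, cP, hPb, flat_of_projective hP, ⟨eP⟩, fun M i hi => ?_⟩
  haveI : IsIso (DerivedCategory.Q.map (f ≫ g)) := by
    have : DerivedCategory.Q.map (f ≫ g) = 𝟙 _ := by
      rw [Functor.map_comp, hf, hg]
      simp [reassoc_of% hsr]
    rw [this]; infer_instance
  haveI : QuasiIso (f ≫ g) := (DerivedCategory.isIso_Q_map_iff_quasiIso _ _).1 inferInstance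
  have hz := (van_iff hFb hP₂b hF (flat_of_projective hP₂) (e ≪≫ eP₂.symm) a b).1 hv M i hi
  have hq := quasiIso_tR (f ≫ g) hPb hPb (flat_of_projective hP) (flat_of_projective hP) M
  have : IsIso (HomologicalComplex.homologyMap ((tR M).map (f ≫ g)) i) :=
    (quasiIsoAt_iff_isIso_homologyMap _ i).1 ((quasiIso_iff _).1 hq i)
  rw [Functor.map_comp, HomologicalComplex.homologyMap_comp,
    hz.eq_of_tgt (HomologicalComplex.homologyMap ((tR M).map f) i) 0, zero_comp] at this
  rw [IsZero.iff_id_eq_zero, ← @IsIso.hom_inv_id _ _ _ _ _ this]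
  exact zero_comp

/-- cones -/
theorem torVan_obj₃ {a b : ℤ} (T : Triangle (Dual.D A)) (hT : T ∈ distTriang (Dual.D A))
    (h₁ : TorVan (a + 1) (b + 1) T.obj₁) (h₂ : TorVan a b T.obj₂) : TorVan a b T.obj₃ := by
  obtain ⟨F, c, hFb, hF, ⟨eF⟩, hvF⟩ := id h₁
  obtain ⟨G, c', hGb, hG, ⟨eG⟩, hvG⟩ := h₂
  haveI : F.IsStrictlyLE c := (CochainComplex.isStrictlyLE_iff F c).2 hFb
  obtain ⟨P, cP, hPb, hP, ⟨eP⟩⟩ := exists_proj_rep_le T.obj₁ ⟨c + 1, isAbove_of_iso eF fun i hi =>
    DerivedCategory.isZero_of_isLE (DRing.toD F) c i (by lia)⟩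
  haveI := isKProjective_of_vanishesAbove hPb hP
  have hvP := torVan_rep h₁ hPb (flat_of_projective hP) eP
  obtain ⟨g, hg⟩ := PerfLocal.exists_lift (eP.hom ≫ T.mor₁ ≫ eG.inv)
  refine ⟨CochainComplex.mappingCone g, max cP c', cone_vanishesAbove g hPb hGb,
    cone_flat g (flat_of_projective hP) hG,
    ⟨Triangle.π₃.mapIso (isoTriangleOfIso₁₂ _ _ (mappingCone_triangle_distinguished g) hT eP eG ?_)⟩,
    fun M i hi => ?_⟩
  · show DerivedCategory.Q.map g ≫ eG.hom = eP.hom ≫ T.mor₁
    rw [hg, Category.assoc, Category.assoc, Iso.inv_hom_id, Category.comp_id]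
  · refine IsZero.of_iso ?_ ((HomologicalComplex.homologyFunctor (ModuleCat.{u} A) (ComplexShape.up ℤ) i).mapIso
      (CochainComplex.mappingCone.mapHomologicalComplexIso g (tensorRight M)))
    have h1 := hvP M (i + 1) (by lia)
    have h2 := hvG M i hi
    have hT' := mappingCone_triangle_distinguished ((tR M).map g)
    let e := fun j => homologyFunctorFactors (ModuleCat.{u} A) j
    exact ((HomologySequence.exact₃ _ hT' i (i + 1) rfl).isZero_of_both_zeros
      ((h2.of_iso ((e i).app _)).eq_of_src _ _)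
      ((h1.of_iso ((e (i + 1)).app _)).eq_of_tgt _ _)).of_iso ((e i).app _).symm

lemma amp_of_iso {a b : ℤ} {K L : Dual.D A} (e : K ≅ L) (h : DRing.HasTorAmplitudeIn A a b K) :
    DRing.HasTorAmplitudeIn A a b L := by
  obtain ⟨E, h1, h2, ⟨e'⟩⟩ := h
  exact ⟨E, h1, h2, ⟨e' ≪≫ e⟩⟩

lemma amp_shift {a b : ℤ} {K : Dual.D A} (h : DRing.HasTorAmplitudeIn A a b K) (n : ℤ) :
    DRing.HasTorAmplitudeIn A (a - n) (b - n) (K⟦n⟧) := by
  obtain ⟨E, h1, h2, ⟨e⟩⟩ := h
  exact ⟨E⟦n⟧, fun i hi => h1 (i + n) (by lia), fun i => h2 (i + n),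
    ⟨(DerivedCategory.Q.commShiftIso n).app E ≪≫ (shiftFunctor _ n).mapIso e⟩⟩

theorem amp_obj₃ {a b : ℤ} (T : Triangle (Dual.D A)) (hT : T ∈ distTriang (Dual.D A))
    (h₁ : DRing.HasTorAmplitudeIn A (a + 1) (b + 1) T.obj₁) (h₂ : DRing.HasTorAmplitudeIn A a b T.obj₂) :
    DRing.HasTorAmplitudeIn A a b T.obj₃ :=
  amp_iff_torVan.2 (torVan_obj₃ T hT (torVan_of_amp h₁) (torVan_of_amp h₂))

theorem amp_obj₂ {a b : ℤ} (T : Triangle (Dual.D A)) (hT : T ∈ distTriang (Dual.D A))
    (h₁ : DRing.HasTorAmplitudeIn A a b T.obj₁) (h₃ : DRing.HasTorAmplitudeIn A a b T.obj₃) :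
    DRing.HasTorAmplitudeIn A a b T.obj₂ := by
  have h := amp_shift h₃ (-1)
  rw [sub_neg_eq_add, sub_neg_eq_add] at h
  exact amp_obj₃ T.invRotate (inv_rot_of_distTriang _ hT) h h₁

theorem amp_obj₁ {a b : ℤ} (T : Triangle (Dual.D A)) (hT : T ∈ distTriang (Dual.D A))
    (h₂ : DRing.HasTorAmplitudeIn A (a + 1) (b + 1) T.obj₂) (h₃ : DRing.HasTorAmplitudeIn A a b T.obj₃) :
    DRing.HasTorAmplitudeIn A (a + 1) (b + 1) T.obj₁ := by
  have h := amp_shift (amp_obj₃ T.rotate (rot_of_distTriang _ hT) h₂ h₃) (-1)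
  rw [sub_neg_eq_add, sub_neg_eq_add] at h
  exact amp_of_iso ((shiftEquiv (Dual.D A) (1 : ℤ)).unitIso.app T.obj₁).symm h

theorem amp_biprod {a b : ℤ} (K L : Dual.D A) [HasBinaryBiproduct K L]
    (h : DRing.HasTorAmplitudeIn A a b (K ⊞ L)) :
    DRing.HasTorAmplitudeIn A a b K ∧ DRing.HasTorAmplitudeIn A a b L :=
  ⟨amp_iff_torVan.2 (torVan_retract (torVan_of_amp h) biprod.inl biprod.fst (by simp)),
    amp_iff_torVan.2 (torVan_retract (torVan_of_amp h) biprod.inr biprod.snd (by simp))⟩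

theorem isPerfect_biprod (K L : Dual.D A) [HasBinaryBiproduct K L] (h : DRing.IsPerfect A (K ⊞ L)) :
    DRing.IsPerfect A K ∧ DRing.IsPerfect A L := by
  obtain ⟨hpc, a, b, hab⟩ := (isPerfect_iff _).1 h
  have hpc' := pc'_iff.1 hpc
  refine ⟨(isPerfect_iff K).2 ⟨pc'_iff.2 fun n => (pc_biprod n K L (hpc' n)).1, a, b, (amp_biprod K L hab).1⟩,
    (isPerfect_iff L).2 ⟨pc'_iff.2 fun n => (pc_biprod n K L (hpc' n)).2, a, b, (amp_biprod K L hab).2⟩⟩

lemma amp_of_isZero (a b : ℤ) {X : Dual.D A} (h : IsZero X) : DRing.HasTorAmplitudeIn A a b X :=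
  ⟨0, fun i _ => (HomologicalComplex.eval _ _ i).map_isZero (isZero_zero _), fun i =>
    (flatObj_iff A _).1 (KFlat.flatObj_of_isZero
      ((HomologicalComplex.eval (ModuleCat.{u} A) (ComplexShape.up ℤ) i).map_isZero (isZero_zero _))),
    ⟨(DerivedCategory.Q.map_isZero (isZero_zero _)).iso h⟩⟩

lemma amp_single {a b : ℤ} (M : ModuleCat.{u} A) (i : ℤ)
    (h : DRing.HasTorAmplitudeIn A (a - i) (b - i) (Dual.inD A M)) :
    DRing.HasTorAmplitudeIn A a b ((DerivedCategory.singleFunctor (ModuleCat.{u} A) i).obj M) := by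
  have h' := amp_shift h (-i)
  rw [sub_neg_eq_add, sub_neg_eq_add, sub_add_cancel, sub_add_cancel] at h'
  exact amp_of_iso (singleShiftIso M i) h'

theorem amp_of_termwise (a b c d : ℤ) (K : DRing.Cx A) (hcd : DRing.VanishesOutside K c d)
    (hK : ∀ i, DRing.HasTorAmplitudeIn A (a - i) (b - i) (Dual.inD A (K.X i))) :
    DRing.HasTorAmplitudeIn A a b (DRing.toD K) :=
  of_terms (fun X => DRing.HasTorAmplitudeIn A a b X) (fun e h => amp_of_iso e h)
    (fun T hT h₁ h₃ => amp_obj₂ T hT h₁ h₃) (fun _ h => amp_of_isZero a b h) K c d hcd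
    fun i _ _ => amp_single (K.X i) i (hK i)

end Groth.Agent.DRingKP
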