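import Groth.Agent.DRingKP.KProj
import Groth.Agent.DRingKP.BC
import Groth.Prelude.Def_DRing4
import Mathlib.Algebra.Homology.Refinements
import Mathlib.CategoryTheory.Functor.Derived.PointwiseRightDerived

/-!
`Hom(P, -)` for a K-projective complex preserves quasi-isomorphisms.
-/

set_option autoImplicit false
set_option linter.style.haveILetI false
universe u

namespace Groth.Agent.DRingKP

open CategoryTheory Limits DerivedCategory CochainComplex HomComplex

attribute [local instance] HasDerivedCategory.standard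

variable {A : Type u} [CommRing A]

/-- lift elementwise choices along a free cover -/
lemma exists_cover_lift {T : ModuleCat.{u} A} {M : Type u} [AddCommGroup M] [Module A M] (p : T → M → Prop)
    (h : ∀ t, ∃ m, p t m) :
    ∃ (T' : ModuleCat.{u} A) (π : T' ⟶ T) (_ : Epi π) (g : T' →ₗ[A] M) (B : Set T'),
      Submodule.span A B = ⊤ ∧ ∀ b ∈ B, p (π.hom b) (g b) := by
  classical
  choose m hm using h
  refine ⟨ModuleCat.of A (T →₀ A), ModuleCat.ofHom (Finsupp.linearCombination A id), ?_,
    Finsupp.linearCombination A m, Set.range fun t => Finsupp.single t 1, ?_, ?_⟩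
  · exact (ModuleCat.epi_iff_surjective _).2 fun t => ⟨Finsupp.single t 1, by simp⟩
  · exact (Finsupp.basisSingleOne (R := A) (ι := T)).span_eq
  · rintro _ ⟨t, rfl⟩
    simpa using hm t

theorem quasiIso_homCxMap {P : DRing.Cx A} [hP : P.IsKProjective] {L L' : DRing.Cx A} (f : L ⟶ L') [QuasiIso f] :
    QuasiIso (DRing.homCxMap P f) := by
  rw [quasiIso_iff]
  intro n
  rw [quasiIsoAt_iff_isIso_homologyMap]
  have hC : (mappingCone f).Acyclic := by
    intro i
    rw [HomologicalComplex.exactAt_iff_isZero_homology]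
    have hz : IsZero (DerivedCategory.Q.obj (mappingCone f)) := by
      exact Pretriangulated.Triangle.isZero₃_of_isIso₁ _ (DerivedCategory.mappingCone_triangle_distinguished f)
        (show IsIso (DerivedCategory.Q.map f) from inferInstance)
    exact ((DerivedCategory.homologyFunctor (ModuleCat.{u} A) i).map_isZero hz).of_iso
      ((DerivedCategory.homologyFunctorFactors (ModuleCat.{u} A) i).app (mappingCone f)).symm
  have hsplit : ∀ (m m' : ℤ) (hm : m + 1 = m') (w : Cochain P (mappingCone f) m),
      ∃ (α : Cochain P L m') (β : Cochain P L' m), w = mappingCone.liftCochain f α β hm := fun m m' hm w =>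
    ⟨w.comp (mappingCone.fst f).1 hm, w.comp (mappingCone.snd f) (add_zero m), by
      simp [mappingCone.ext_cochain_to_iff f m m' hm]⟩
  haveI : Epi (HomologicalComplex.homologyMap (DRing.homCxMap P f) n) := by
    rw [HomologicalComplex.epi_homologyMap_iff_up_to_refinements _ (n - 1) n (n + 1) (by simp) (by simp)]
    intro T y hy
    have hT : ∀ t : T, ∃ αβ : Cochain P L n × Cochain P L' (n - 1), δ n (n + 1) αβ.1 = 0 ∧
        (y.hom t : Cochain P L' n) = αβ.1.comp (Cochain.ofHom f) (add_zero n) + δ (n - 1) n αβ.2 := by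
      intro t
      let z : Cochain P L' n := y.hom t
      have hz : δ n (n + 1) z = 0 := LinearMap.congr_fun (congrArg ModuleCat.Hom.hom hy) t
      obtain ⟨w, hw⟩ := exists_δ_eq hC n (n - 1) (n + 1) (by lia) rfl (z.comp (Cochain.ofHom (mappingCone.inr f)) (add_zero n))
        (by rw [δ_comp_ofHom, hz, Cochain.zero_comp])
      obtain ⟨α, β, rfl⟩ := hsplit (n - 1) n (by lia) w
      rw [mappingCone.δ_liftCochain f α β (by lia) (n + 1) rfl,
        mappingCone.ext_cochain_to_iff f n (n + 1) rfl] at hw
      obtain ⟨h1, h2⟩ := hw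
      simp at h1 h2
      exact ⟨(α, β), h1, by rw [add_comm]; exact h2.symm⟩
    obtain ⟨T', π, hπ, g, B, hB, hg⟩ := exists_cover_lift (M := Cochain P L n × Cochain P L' (n - 1)) _ hT
    refine ⟨T', π, hπ, ModuleCat.ofHom ((LinearMap.fst A _ _).comp g), ?_,
      ModuleCat.ofHom ((LinearMap.snd A _ _).comp g), ?_⟩
    · refine ModuleCat.hom_ext (LinearMap.ext_on hB fun b hb => ?_)
      exact (hg b hb).1
    · refine ModuleCat.hom_ext (LinearMap.ext_on hB fun b hb => ?_)
      exact (hg b hb).2
  haveI : Mono (HomologicalComplex.homologyMap (DRing.homCxMap P f) n) := by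
    rw [HomologicalComplex.mono_homologyMap_iff_up_to_refinements _ (n - 1) n (n + 1) (by simp) (by simp)]
    intro T x hx y hxy
    have hT : ∀ t : T, ∃ α : Cochain P L (n - 1), (x.hom t : Cochain P L n) = δ (n - 1) n α := by
      intro t
      let z : Cochain P L n := x.hom t
      let β : Cochain P L' (n - 1) := y.hom t
      have hz : δ n (n + 1) z = 0 := LinearMap.congr_fun (congrArg ModuleCat.Hom.hom hx) t
      have hβ : z.comp (Cochain.ofHom f) (add_zero n) = δ (n - 1) n β :=
        LinearMap.congr_fun (congrArg ModuleCat.Hom.hom hxy) t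
      have hc : δ (n - 1) n (mappingCone.liftCochain f z (-β) (by lia)) = 0 := by
        rw [mappingCone.δ_liftCochain f z (-β) (by lia) (n + 1) rfl, hz, δ_neg, hβ]
        simp
      obtain ⟨w, hw⟩ := exists_δ_eq hC (n - 1) (n - 1 - 1) n (by lia) (by lia) _ hc
      obtain ⟨α, γ, rfl⟩ := hsplit (n - 1 - 1) (n - 1) (by lia) w
      rw [mappingCone.δ_liftCochain f α γ (by lia) n (by lia),
        mappingCone.ext_cochain_to_iff f (n - 1) n (by lia)] at hw
      obtain ⟨h1, -⟩ := hw
      simp at h1
      refine ⟨-α, ?_⟩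
      rw [δ_neg]
      exact h1.symm
    obtain ⟨T', π, hπ, g, B, hB, hg⟩ := exists_cover_lift (M := Cochain P L (n - 1)) _ hT
    refine ⟨T', π, hπ, ModuleCat.ofHom g, ?_⟩
    refine ModuleCat.hom_ext (LinearMap.ext_on hB fun b hb => ?_)
    exact hg b hb
  exact isIso_of_mono_of_epi _

end Groth.Agent.DRingKP
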