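import Groth.Agent.DRingKP.Res
import Mathlib.Algebra.Homology.DerivedCategory.SingleTriangle
import Mathlib.Algebra.Homology.DerivedCategory.FullyFaithful

/-!
Pseudo-coherent modules; pseudo-coherence from cohomology and from the terms.
-/

set_option autoImplicit false
set_option linter.style.haveILetI false
universe u

namespace Groth.Agent.DRingKP

open CategoryTheory Limits DerivedCategory Pretriangulated ZeroObject

attribute [local instance] HasDerivedCategory.standard

variable {A : Type u} [CommRing A]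

local notation "HH" => DerivedCategory.homologyFunctor (ModuleCat _)
local notation "S0" => DerivedCategory.singleFunctor (ModuleCat _)

lemma isAbove_single (M : ModuleCat.{u} A) (n : ℤ) :
    IsAbove (n + 1) ((DerivedCategory.singleFunctor (ModuleCat.{u} A) n).obj M) := fun i hi =>
  DerivedCategory.isZero_of_isLE _ n i (by lia)

/-- the single functor in another degree -/
noncomputable def singleShiftIso (M : ModuleCat.{u} A) (n : ℤ) :
    ((DerivedCategory.singleFunctor (ModuleCat.{u} A) 0).obj M)⟦-n⟧ ≅
      (DerivedCategory.singleFunctor (ModuleCat.{u} A) n).obj M :=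
  (((DerivedCategory.singleFunctors (ModuleCat.{u} A)).shiftIso (-n) n 0 (by lia)).app M)

lemma pc_single_iff (M : ModuleCat.{u} A) (n m : ℤ) :
    DRing.IsPseudoCoherent A m ((DerivedCategory.singleFunctor (ModuleCat.{u} A) n).obj M) ↔
      DRing.IsPseudoCoherentModule A (m - n) M := by
  have h := pc_shift_iff (A := A) (m := m - n)
    (K := (DerivedCategory.singleFunctor (ModuleCat.{u} A) 0).obj M) (-n)
  rw [show m - n - -n = m by lia] at h
  exact ⟨fun h' => h.1 (pc_of_iso (singleShiftIso M n).symm h'),
    fun h' => pc_of_iso (singleShiftIso M n) (h.2 h')⟩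

lemma pcModule_iff (M : ModuleCat.{u} A) (m : ℤ) :
    DRing.IsPseudoCoherentModule A m M ↔
      DRing.IsPseudoCoherent A m ((DerivedCategory.singleFunctor (ModuleCat.{u} A) 0).obj M) := Iff.rfl

/-- the cohomology of a module in degree zero -/
noncomputable def hdInD (M : ModuleCat.{u} A) :
    (DerivedCategory.homologyFunctor (ModuleCat.{u} A) 0).obj
      ((DerivedCategory.singleFunctor (ModuleCat.{u} A) 0).obj M) ≅ M :=
  (DerivedCategory.singleFunctorCompHomologyFunctorIso (ModuleCat.{u} A) 0).app M

/-- finite free modules are pseudo-coherent in every degree -/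
theorem pcModule_of_free (M : ModuleCat.{u} A) [Module.Finite A M] [Module.Free A M] (m : ℤ) :
    DRing.IsPseudoCoherentModule A m M := by
  let P : DRing.Cx A := (HomologicalComplex.single _ (ComplexShape.up ℤ) 0).obj M
  refine pc_of_iso ((DerivedCategory.singleFunctorIsoCompQ (ModuleCat.{u} A) 0).app M).symm
    ((pc_iff (K := DRing.toD P)).2 ⟨P, 0, 0, 𝟙 (DRing.toD P),
      fun i hi => HomologicalComplex.isZero_single_obj_X _ 0 M i (by lia),
      fun i => ?_, mIso_of_isIso m (𝟙 (DRing.toD P))⟩)
  by_cases hi : i = 0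
  · subst hi
    let e := (HomologicalComplex.singleObjXSelf (ComplexShape.up ℤ) 0 M).symm.toLinearEquiv
    exact ⟨Module.Finite.equiv e, Module.Free.of_equiv e⟩
  · exact finiteFree_of_isZero (HomologicalComplex.isZero_single_obj_X _ 0 M i hi)

/-- modules in short exact sequences -/
theorem pcModule_quotient {S : ShortComplex (ModuleCat.{u} A)} (hS : S.ShortExact) (m : ℤ)
    (h₁ : DRing.IsPseudoCoherentModule A (m + 1) S.X₁) (h₂ : DRing.IsPseudoCoherentModule A m S.X₂) :
    DRing.IsPseudoCoherentModule A m S.X₃ :=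
  pc_obj₃ _ hS.singleTriangle_distinguished m h₁ h₂

theorem pcModule_zero_iff (M : ModuleCat.{u} A) :
    DRing.IsPseudoCoherentModule A 0 M ↔ Module.Finite A M := by
  constructor
  · intro h
    haveI := finite_top h (isAbove_single M 0)
    exact Module.Finite.equiv (hdInD M).toLinearEquiv
  · intro hM
    obtain ⟨r, p, hp⟩ := Module.Finite.exists_fin' A M
    let f : ModuleCat.of A (Fin r → A) ⟶ M := ModuleCat.ofHom p
    haveI : Epi f := (ModuleCat.epi_iff_surjective f).2 hp
    let S : ShortComplex (ModuleCat.{u} A) := ShortComplex.mk (kernel.ι f) f (kernel.condition f)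
    have hS : S.ShortExact :=
      { exact := ShortComplex.exact_kernel f, mono_f := inferInstanceAs (Mono (kernel.ι f)), epi_g := this }
    exact pcModule_quotient hS 0 (pc_of_isAbove (isAbove_mono (by lia) (isAbove_single _ 0)))
      (pcModule_of_free (ModuleCat.of A (Fin r → A)) 0)

theorem pcModule_negOne_iff (M : ModuleCat.{u} A) :
    DRing.IsPseudoCoherentModule A (-1) M ↔ Module.FinitePresentation A M := by
  constructor
  · intro h
    have h' := finitePresentation_top h (isAbove_mono (by lia) (isAbove_single M 0))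
    haveI : Module.FinitePresentation A
        ((DerivedCategory.homologyFunctor (ModuleCat.{u} A) 0).obj
          ((DerivedCategory.singleFunctor (ModuleCat.{u} A) 0).obj M)) := h'
    exact Module.FinitePresentation.of_equiv (hdInD M).toLinearEquiv
  · intro hM
    obtain ⟨r, p, hp⟩ := Module.Finite.exists_fin' A M
    have hker : Module.Finite A (LinearMap.ker p) :=
      Module.Finite.iff_fg.2 (Module.FinitePresentation.fg_ker p hp)
    let f : ModuleCat.of A (Fin r → A) ⟶ M := ModuleCat.ofHom p
    let S : ShortComplex (ModuleCat.{u} A) := ShortComplex.mk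
      (ModuleCat.ofHom (LinearMap.ker p).subtype) f (by ext ⟨x, hx⟩; exact hx)
    have hS : S.ShortExact :=
      { exact := (ShortComplex.moduleCat_exact_iff_range_eq_ker _).2 (Submodule.range_subtype _)
        mono_f := (ModuleCat.mono_iff_injective _).2 (LinearMap.ker p).injective_subtype
        epi_g := (ModuleCat.epi_iff_surjective _).2 hp }
    exact pcModule_quotient hS (-1) ((pcModule_zero_iff (ModuleCat.of A (LinearMap.ker p))).2 hker)
      (pcModule_of_free (ModuleCat.of A (Fin r → A)) (-1))

/-- splitting off the top cohomology -/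
lemma exists_top_triangle (K : Dual.D A) (n : ℤ) (hK : IsAbove (n + 1) K) :
    ∃ (X B : Dual.D A) (f : X ⟶ K) (g : K ⟶ B) (h : B ⟶ X⟦(1 : ℤ)⟧),
      Triangle.mk f g h ∈ distTriang (Dual.D A) ∧ IsAbove n X ∧
      (∀ i, i < n → Nonempty ((HH i).obj X ≅ (HH i).obj K)) ∧
      Nonempty (B ≅ (DerivedCategory.singleFunctor (ModuleCat.{u} A) n).obj ((HH n).obj K)) := by
  obtain ⟨X, B, hX, hB, f, g, h, hT⟩ :=
    (DerivedCategory.TStructure.t (C := ModuleCat.{u} A)).exists_triangle K (n - 1) n (by lia)
  haveI : X.IsLE (n - 1) := ⟨hX⟩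
  haveI : B.IsGE n := ⟨hB⟩
  have hXz : IsAbove n X := fun i hi => DerivedCategory.isZero_of_isLE X (n - 1) i (by lia)
  haveI : B.IsLE n := (DerivedCategory.isLE_iff B n).2 fun i hi =>
    (HomologySequence.exact₃ _ hT i (i + 1) rfl).isZero_of_both_zeros
      ((hK i (by lia)).eq_of_src _ _) ((hXz (i + 1) (by lia)).eq_of_tgt _ _)
  refine ⟨X, B, f, g, h, hT, hXz, fun i hi => ?_, ?_⟩
  · haveI : Epi ((DerivedCategory.homologyFunctor (ModuleCat.{u} A) i).map f) :=
      (HomologySequence.epi_homologyMap_mor₁_iff _ hT i).2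
        ((DerivedCategory.isZero_of_isGE B n i hi).eq_of_tgt _ _)
    haveI : Mono ((DerivedCategory.homologyFunctor (ModuleCat.{u} A) i).map f) :=
      (HomologySequence.mono_homologyMap_mor₁_iff _ hT (i - 1) i (by lia)).2
        ((DerivedCategory.isZero_of_isGE B n (i - 1) (by lia)).eq_of_src _ _)
    haveI := isIso_of_mono_of_epi ((DerivedCategory.homologyFunctor (ModuleCat.{u} A) i).map f)
    exact ⟨asIso ((DerivedCategory.homologyFunctor (ModuleCat.{u} A) i).map f)⟩
  · obtain ⟨Y, ⟨e⟩⟩ := DerivedCategory.exists_iso_singleFunctor_obj_of_isGE_of_isLE B n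
    haveI : Mono ((DerivedCategory.homologyFunctor (ModuleCat.{u} A) n).map g) :=
      (HomologySequence.mono_homologyMap_mor₂_iff _ hT n).2 ((hXz n le_rfl).eq_of_src _ _)
    haveI : Epi ((DerivedCategory.homologyFunctor (ModuleCat.{u} A) n).map g) :=
      (HomologySequence.epi_homologyMap_mor₂_iff _ hT n (n + 1) rfl).2
        ((hXz (n + 1) (by lia)).eq_of_tgt _ _)
    haveI := isIso_of_mono_of_epi ((DerivedCategory.homologyFunctor (ModuleCat.{u} A) n).map g)
    exact ⟨e ≪≫ (DerivedCategory.singleFunctor (ModuleCat.{u} A) n).mapIso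
      ((asIso ((DerivedCategory.homologyFunctor (ModuleCat.{u} A) n).map g) ≪≫
        (DerivedCategory.homologyFunctor (ModuleCat.{u} A) n).mapIso e ≪≫
        (DerivedCategory.singleFunctorCompHomologyFunctorIso (ModuleCat.{u} A) n).app Y).symm)⟩

lemma pcModule_of_iso {M N : ModuleCat.{u} A} (e : M ≅ N) {m : ℤ}
    (h : DRing.IsPseudoCoherentModule A m M) : DRing.IsPseudoCoherentModule A m N :=
  pc_of_iso ((DerivedCategory.singleFunctor (ModuleCat.{u} A) 0).mapIso e) h

/-- pseudo-coherence from the cohomology modules -/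
theorem pc_of_homology (m : ℤ) (K : Dual.D A) (hb : ∃ n, IsAbove n K)
    (h : ∀ i, m ≤ i → DRing.IsPseudoCoherentModule A (m - i) ((HH i).obj K)) :
    DRing.IsPseudoCoherent A m K := by
  obtain ⟨n, hn⟩ := hb
  suffices H : ∀ (d : ℕ) (n : ℤ) (K : Dual.D A), n ≤ m + d → IsAbove n K →
      (∀ i, m ≤ i → DRing.IsPseudoCoherentModule A (m - i)
        ((DerivedCategory.homologyFunctor (ModuleCat.{u} A) i).obj K)) →
      DRing.IsPseudoCoherent A m K from H (n - m).toNat n K (by lia) hn h
  intro d
  induction d with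
  | zero => exact fun n K hn hK _ => pc_of_isAbove (isAbove_mono (by simpa using hn) hK)
  | succ d ih =>
    intro n K hn hK h
    obtain ⟨X, B, f, g, k, hT, hX, hlt, ⟨e⟩⟩ :=
      exists_top_triangle K (m + d) (isAbove_mono (by lia) hK)
    refine pc_obj₂ _ hT m (ih (m + d) X le_rfl hX fun i hi => ?_)
      (pc_of_iso e.symm ((pc_single_iff _ _ _).2 (h (m + d) (by lia))))
    by_cases hi' : i < m + d
    · exact pcModule_of_iso (hlt i hi').some.symm (h i hi)
    · exact pc_of_isAbove (isAbove_of_iso
        ((DerivedCategory.singleFunctor (ModuleCat.{u} A) 0).mapIso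
          ((hX i (by lia)).iso (isZero_zero (ModuleCat.{u} A)))).symm
        fun j _ => isZero_of_isZero j ((DerivedCategory.singleFunctor _ 0).map_isZero (isZero_zero _)))

/-- bounded complexes: induction on the terms -/
theorem of_terms (P : Dual.D A → Prop) (hiso : ∀ {X Y : Dual.D A}, (X ≅ Y) → P X → P Y)
    (hext : ∀ T : Triangle (Dual.D A), T ∈ distTriang (Dual.D A) → P T.obj₁ → P T.obj₃ → P T.obj₂)
    (hzero : ∀ X : Dual.D A, IsZero X → P X) (K : DRing.Cx A) (a b : ℤ)
    (hab : DRing.VanishesOutside K a b)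
    (hK : ∀ i, a ≤ i → i ≤ b →
      P ((DerivedCategory.singleFunctor (ModuleCat.{u} A) i).obj (K.X i))) :
    P (DRing.toD K) := by
  suffices H : ∀ (d : ℕ) (a : ℤ) (K : DRing.Cx A), b < a + d → DRing.VanishesOutside K a b →
      (∀ i, a ≤ i → i ≤ b → P ((DerivedCategory.singleFunctor (ModuleCat.{u} A) i).obj (K.X i))) →
      P (DRing.toD K) from H (b + 1 - a).toNat a K (by lia) hab hK
  intro d
  induction d with
  | zero =>
    intro a K ha hab _
    refine hzero _ (DerivedCategory.Q.map_isZero ?_)
    rw [IsZero.iff_id_eq_zero]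
    ext i : 1
    exact (hab i (by lia)).eq_of_src _ _
  | succ d ih =>
    intro a K ha hab hK
    by_cases hba : b < a
    · exact ih a K (by lia) hab hK
    let S := σSeq K (a + 1)
    refine hext _ (DerivedCategory.triangleOfSES_distinguished (σSeq_shortExact K (a + 1))) ?_ ?_
    · refine ih (a + 1) (σGE K (a + 1)) (by lia)
        (σGE_vanishesOutside K (a + 1) b fun i hi => hab i (Or.inr hi)) fun i hi hi' => ?_
      haveI := isIso_σι_f K (a + 1) i hi
      exact hiso ((DerivedCategory.singleFunctor _ i).mapIso (asIso ((σι K (a + 1)).f i)).symm)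
        (hK i (by lia) hi')
    · haveI : S.X₃.IsStrictlyLE a :=
        (CochainComplex.isStrictlyLE_iff _ a).2 fun i hi => isZero_σQuot K (a + 1) i (by lia)
      haveI : S.X₃.IsStrictlyGE a := by
        refine (CochainComplex.isStrictlyGE_iff _ a).2 fun i hi => ?_
        haveI := isIso_σπ_f K (a + 1) i (by lia)
        exact (hab i (Or.inl hi)).of_iso (asIso (S.g.f i)).symm
      obtain ⟨M, ⟨e⟩⟩ := CochainComplex.exists_iso_single S.X₃ a
      haveI := isIso_σπ_f K (a + 1) a (by lia)
      let e' : M ≅ K.X a := (HomologicalComplex.singleObjXSelf (ComplexShape.up ℤ) a M).symm ≪≫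
        ((HomologicalComplex.eval _ _ a).mapIso e).symm ≪≫ (asIso (S.g.f a)).symm
      exact hiso ((DerivedCategory.singleFunctor _ a).mapIso e'.symm ≪≫
        (DerivedCategory.singleFunctorIsoCompQ (ModuleCat.{u} A) a).app M ≪≫
        DerivedCategory.Q.mapIso e.symm) (hK a le_rfl (by lia))

/-- pseudo-coherence from the terms -/
theorem pc_of_termwise (m : ℤ) (K : DRing.Cx A) (b : ℤ) (hb : DRing.VanishesAbove K b)
    (h : ∀ i, m ≤ i → DRing.IsPseudoCoherentModule A (m - i) (K.X i)) :
    DRing.IsPseudoCoherent A m (DRing.toD K) := by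
  have h1 : DRing.IsPseudoCoherent A m (DRing.toD (σGE K m)) := by
    refine of_terms (fun X => DRing.IsPseudoCoherent A m X) (fun e h => pc_of_iso e h)
      (fun T hT h₁ h₃ => pc_obj₂ T hT m h₁ h₃)
      (fun X hX => pc_of_isAbove fun i _ => isZero_of_isZero i hX)
      (σGE K m) m b (σGE_vanishesOutside K m b hb) fun i hi _ => ?_
    haveI := isIso_σι_f K m i hi
    exact (pc_single_iff _ _ _).2 (pcModule_of_iso (asIso ((σι K m).f i)).symm (h i hi))
  obtain ⟨E, a', b', α, h1, h2, h3⟩ := pc_iff.1 h1
  exact pc_iff.2 ⟨E, a', b', α ≫ DerivedCategory.Q.map (σι K m), h1, h2, mIso_comp h3 (mIso_σι K m)⟩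

/-- finite projective modules are pseudo-coherent in every degree -/
theorem pcModule_of_projective (M : ModuleCat.{u} A) [Module.Finite A M] [Module.Projective A M]
    (m : ℤ) : DRing.IsPseudoCoherentModule A m M := by
  obtain ⟨r, p, hp⟩ := Module.Finite.exists_fin' A M
  obtain ⟨s, hs⟩ := Module.projective_lifting_property p LinearMap.id hp
  haveI : Module.Finite A (LinearMap.ker p) :=
    Module.Finite.iff_fg.2 (Module.FinitePresentation.fg_ker (h := Module.finitePresentation_of_projective A M) p hp)
  let e : (Fin r → A) ≃ₗ[A] LinearMap.ker p × M :=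
    { toFun := fun x => (⟨x - s (p x), by
        simp [← LinearMap.comp_apply p s, hs]⟩, p x)
      invFun := fun y => y.1.1 + s y.2
      map_add' := fun x y => by ext <;> simp [add_sub_add_comm]
      map_smul' := fun c x => by ext <;> simp [mul_sub]
      left_inv := fun x => by simp
      right_inv := fun y => by
        have h1 : p (y.1.1 + s y.2) = y.2 := by
          rw [map_add, LinearMap.mem_ker.1 y.1.2, zero_add, ← LinearMap.comp_apply, hs, LinearMap.id_apply]
        ext <;> simp [h1] }
  have hsum : DRing.IsPseudoCoherentModule A m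
      (ModuleCat.of A (LinearMap.ker p) ⊞ M : ModuleCat.{u} A) :=
    pcModule_of_iso (e.toModuleIso ≪≫ (ModuleCat.biprodIsoProd (ModuleCat.of A (LinearMap.ker p)) M).symm)
      (pcModule_of_free (ModuleCat.of A (Fin r → A)) m)
  haveI := Abelian.hasFiniteBiproducts (C := ModuleCat.{u} A)
  let F := DerivedCategory.singleFunctor (ModuleCat.{u} A) 0
  haveI : PreservesBinaryBiproduct (ModuleCat.of A (LinearMap.ker p)) M F :=
    (preservesBinaryBiproducts_of_preservesBiproducts F).preserves
  exact (pc_biprod m _ _ (pc_of_iso (F.mapBiprod _ M) hsum)).2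

theorem pc'_iff_projective {K : Dual.D A} : DRing.IsPseudoCoherent' A K ↔
    ∃ (E : DRing.Cx A) (b : ℤ), DRing.VanishesAbove E b ∧
      DRing.TermwiseFiniteProjective E ∧ Nonempty (DRing.toD E ≅ K) := by
  constructor
  · rintro ⟨E, b, hb, hE, e⟩
    exact ⟨E, b, hb, termwiseFiniteProjective_of_free hE, e⟩
  · rintro ⟨E, b, hb, hE, ⟨e⟩⟩
    refine pc'_of_forall fun m => pc_of_iso e (pc_of_termwise m E b hb fun i _ => ?_)
    haveI := (hE i).1
    haveI := (hE i).2
    exact pcModule_of_projective (E.X i) _

end Groth.Agent.DRingKP
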