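import Groth.Agent.DRingKP.TorMore
import Mathlib.Algebra.Homology.DerivedCategory.ExactFunctor
import Mathlib.CategoryTheory.Abelian.Projective.Dimension

/-!
Flat base change of tor amplitude and perfectness; finite global dimension.
-/

set_option autoImplicit false
set_option linter.style.haveILetI false
universe u

namespace Groth.Agent.DRingKP

open CategoryTheory Limits DerivedCategory HomologicalComplex

attribute [local instance] HasDerivedCategory.standard

variable {A B : Type u} [CommRing A] [CommRing B]

/-- exact base change respects isomorphisms in the derived category -/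
noncomputable def bcDIso (φ : A →+* B) (hφ : φ.Flat) {K L : DRing.Cx A} (e : DRing.toD K ≅ DRing.toD L) :
    DRing.toD ((bc φ).obj K) ≅ DRing.toD ((bc φ).obj L) :=
  haveI : PreservesFiniteLimits (ModuleCat.extendScalars.{u, u, u} φ) :=
    ModuleCat.preservesFiniteLimits_extendScalars_of_flat hφ
  haveI : PreservesFiniteColimits (ModuleCat.extendScalars.{u, u, u} φ) := inferInstance
  ((ModuleCat.extendScalars.{u, u, u} φ).mapDerivedCategoryFactors.app K).symm ≪≫
    (ModuleCat.extendScalars.{u, u, u} φ).mapDerivedCategory.mapIso e ≪≫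
    (ModuleCat.extendScalars.{u, u, u} φ).mapDerivedCategoryFactors.app L

variable [Algebra A B]

/-- the extension of scalars is the tensor product -/
noncomputable def extendTensorIso (M : Type u) [AddCommGroup M] [Module A M] :
    (ModuleCat.extendScalars.{u, u, u} (algebraMap A B)).obj (ModuleCat.of A M) ≅
      ModuleCat.of B (TensorProduct A B M) :=
  let e₁ : (ModuleCat.restrictScalars.{u} (algebraMap A B)).obj (ModuleCat.of B B) ≃ₗ[A] B :=
    { toFun := fun x => x
      map_add' := fun _ _ => rfl
      map_smul' := fun a x => by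
        rw [RingHom.id_apply, Algebra.smul_def]
        rfl
      invFun := fun x => x
      left_inv := fun _ => rfl
      right_inv := fun _ => rfl }
  let e₀ : TensorProduct A ((ModuleCat.restrictScalars.{u} (algebraMap A B)).obj (ModuleCat.of B B)) M ≃ₗ[A]
      TensorProduct A B M := TensorProduct.congr e₁ (LinearEquiv.refl A M)
  let el : (ModuleCat.extendScalars.{u, u, u} (algebraMap A B)).obj (ModuleCat.of A M) ≃ₗ[B]
      TensorProduct A B M :=
    { toFun := fun x => e₀ x
      map_add' := fun x y => e₀.map_add x y
      map_smul' := fun c x => by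
        induction x using TensorProduct.induction_on with
        | zero =>
          exact (congrArg e₀ (smul_zero (A := (ModuleCat.extendScalars.{u, u, u} (algebraMap A B)).obj
            (ModuleCat.of A M)) c)).trans (e₀.map_zero.trans
              ((congrArg (c • ·) e₀.map_zero).trans (smul_zero c)).symm)
        | tmul b y => rfl
        | add x y hx hy =>
          exact (congrArg e₀ (smul_add (A := (ModuleCat.extendScalars.{u, u, u} (algebraMap A B)).obj
            (ModuleCat.of A M)) c x y)).trans ((e₀.map_add _ _).trans ((congrArg₂ (· + ·) hx hy).trans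
            ((smul_add _ _ _).symm.trans (congrArg (c • ·) (e₀.map_add x y).symm))))
      invFun := fun x => e₀.symm x
      left_inv := fun x => e₀.symm_apply_apply x
      right_inv := fun x => e₀.apply_symm_apply x }
  el.toModuleIso

/-- base change of a module in degree zero -/
noncomputable def bcSingleIso [Module.Flat A B] {E : DRing.Cx A} (M : Type u) [AddCommGroup M] [Module A M]
    (e : DRing.toD E ≅ Dual.inD A M) :
    DRing.toD ((bc (algebraMap A B)).obj E) ≅ Dual.inD B (TensorProduct A B M) :=
  bcDIso (algebraMap A B) (RingHom.flat_algebraMap_iff.mpr ‹_›)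
      (L := (HomologicalComplex.single _ (ComplexShape.up ℤ) 0).obj (ModuleCat.of A M))
      (e ≪≫ (DerivedCategory.singleFunctorIsoCompQ (ModuleCat.{u} A) 0).app (ModuleCat.of A M)) ≪≫
    DerivedCategory.Q.mapIso
      ((HomologicalComplex.singleMapHomologicalComplex (ModuleCat.extendScalars.{u, u, u} (algebraMap A B))
        (ComplexShape.up ℤ) 0).app (ModuleCat.of A M) ≪≫
        (HomologicalComplex.single _ (ComplexShape.up ℤ) 0).mapIso (extendTensorIso M)) ≪≫
    ((DerivedCategory.singleFunctorIsoCompQ (ModuleCat.{u} B) 0).app _).symm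

theorem amp_baseChange [Module.Flat A B] (a b : ℤ) (M : Type u) [AddCommGroup M] [Module A M]
    (h : DRing.HasTorAmplitudeIn A a b (Dual.inD A M)) :
    DRing.HasTorAmplitudeIn B a b (Dual.inD B (TensorProduct A B M)) := by
  obtain ⟨E, hE, hEf, ⟨e⟩⟩ := h
  exact ⟨(bc (algebraMap A B)).obj E,
    fun i hi => (ModuleCat.extendScalars.{u, u, u} (algebraMap A B)).map_isZero (hE i hi),
    fun i => extendScalars_flat _ (hEf i), ⟨bcSingleIso M e⟩⟩

theorem isPerfectModule_baseChange [Module.Flat A B] (M : Type u) [AddCommGroup M] [Module A M]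
    (h : DRing.IsPerfectModule A M) : DRing.IsPerfectModule B (TensorProduct A B M) := by
  obtain ⟨E, a, b, hE, hEp, ⟨e⟩⟩ := h
  exact ⟨(bc (algebraMap A B)).obj E, a, b,
    fun i hi => (ModuleCat.extendScalars.{u, u, u} (algebraMap A B)).map_isZero (hE i hi),
    fun i => extendScalars_finiteProjective _ (hEp i), ⟨bcSingleIso M e⟩⟩

omit [Algebra A B] in
lemma amp_widen {a b a' b' : ℤ} (ha : a' ≤ a) (hb : b ≤ b') {K : Dual.D A}
    (h : DRing.HasTorAmplitudeIn A a b K) : DRing.HasTorAmplitudeIn A a' b' K := by
  obtain ⟨E, h1, h2, h3⟩ := h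
  exact ⟨E, fun i hi => h1 i (by lia), h2, h3⟩

omit [Algebra A B] in
theorem amp_of_projDim (d : ℕ) : ∀ (M : ModuleCat.{u} A), HasProjectiveDimensionLT M (d + 1) →
    DRing.HasTorAmplitudeIn A (-(d : ℤ)) 0 (Dual.inD A M) := by
  induction d with
  | zero =>
    intro M hM
    haveI : Projective M := (projective_iff_hasProjectiveDimensionLT_one (X := M)).2 hM
    haveI : Module.Projective A M := (IsProjective.iff_projective M).2 this
    refine ⟨(HomologicalComplex.single _ (ComplexShape.up ℤ) 0).obj M,
      fun i hi => HomologicalComplex.isZero_single_obj_X _ 0 M i (by lia), fun i => ?_,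
      ⟨((DerivedCategory.singleFunctorIsoCompQ (ModuleCat.{u} A) 0).app M).symm⟩⟩
    by_cases hi : i = 0
    · subst hi
      exact Module.Flat.of_linearEquiv (HomologicalComplex.singleObjXSelf (ComplexShape.up ℤ) 0 M).toLinearEquiv
    · exact (flatObj_iff A _).1 (KFlat.flatObj_of_isZero (HomologicalComplex.isZero_single_obj_X _ 0 M i hi))
  | succ d ih =>
    intro M hM
    obtain ⟨P, p, hp, hP⟩ := exists_cover A M
    haveI := hp
    haveI : Projective P := projective_of_isSum hP
    let S : ShortComplex (ModuleCat.{u} A) := ShortComplex.mk (kernel.ι p) p (kernel.condition p)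
    have hS : S.ShortExact :=
      { exact := ShortComplex.exact_kernel p, mono_f := inferInstanceAs (Mono (kernel.ι p)), epi_g := hp }
    have h1 : HasProjectiveDimensionLT S.X₁ (d + 1) :=
      hS.hasProjectiveDimensionLT_X₁ (d + 1)
        (hasProjectiveDimensionLT_of_ge P 1 (d + 1) (by lia)) hM
    have hP0 : DRing.HasTorAmplitudeIn A (-((d + 1 : ℕ) : ℤ)) 0 (Dual.inD A P) := by
      refine ⟨(HomologicalComplex.single _ (ComplexShape.up ℤ) 0).obj P,
        fun i hi => HomologicalComplex.isZero_single_obj_X _ 0 P i (by lia), fun i => ?_,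
        ⟨((DerivedCategory.singleFunctorIsoCompQ (ModuleCat.{u} A) 0).app P).symm⟩⟩
      by_cases hi : i = 0
      · subst hi
        haveI : Module.Projective A P := (IsProjective.iff_projective P).2 inferInstance
        exact Module.Flat.of_linearEquiv (HomologicalComplex.singleObjXSelf (ComplexShape.up ℤ) 0 P).toLinearEquiv
      · exact (flatObj_iff A _).1 (KFlat.flatObj_of_isZero (HomologicalComplex.isZero_single_obj_X _ 0 P i hi))
    exact amp_obj₃ _ hS.singleTriangle_distinguished (amp_widen (by lia) (by lia) (ih S.X₁ h1)) hP0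

end Groth.Agent.DRingKP
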