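import Groth.Agent.DRingKP.TorMore
import Mathlib.CategoryTheory.Monoidal.Tor
import Mathlib.CategoryTheory.Abelian.LeftDerived
import Mathlib.CategoryTheory.Abelian.Projective.Extend

/-!
`Tor` and tor amplitude of modules.
-/

set_option autoImplicit false
set_option linter.style.haveILetI false
universe u

namespace Groth.Agent.DRingKP

open CategoryTheory Limits DerivedCategory MonoidalCategory HomologicalComplex

attribute [local instance] HasDerivedCategory.standard

variable {A : Type u} [CommRing A]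

local notation "single0" => HomologicalComplex.single (ModuleCat _) (ComplexShape.up ℤ) 0

/-- `π'` as a map to `single` -/
noncomputable def resToSingle {M : ModuleCat.{u} A} (R : ProjectiveResolution M) :
    R.cochainComplex ⟶ (HomologicalComplex.single _ (ComplexShape.up ℤ) 0).obj M := R.π'

instance quasiIso_resToSingle {M : ModuleCat.{u} A} (R : ProjectiveResolution M) :
    QuasiIso (resToSingle R) := inferInstanceAs (QuasiIso R.π')

lemma isKFlat_res {M : ModuleCat.{u} A} (R : ProjectiveResolution M) : KFlat.RFlat (tB A) R.cochainComplex :=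
  (rflat_iff _).2 (isKFlat_of_bounded (b := 0)
    ((CochainComplex.isStrictlyLE_iff _ 0).1 inferInstance) (flat_of_projective fun _ => inferInstance))

/-- balancing -/
lemma isZero_balance {M N : ModuleCat.{u} A} (RM : ProjectiveResolution M) (RN : ProjectiveResolution N) (i : ℤ) :
    IsZero (((tR N).obj RM.cochainComplex).homology i) ↔
      IsZero (((tR M).obj RN.cochainComplex).homology i) := by
  let PM := RM.cochainComplex
  let PN := RN.cochainComplex
  let M0 := (HomologicalComplex.single _ (ComplexShape.up ℤ) 0).obj M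
  let N0 := (HomologicalComplex.single _ (ComplexShape.up ℤ) 0).obj N
  let H := HomologicalComplex.homologyFunctor (ModuleCat.{u} A) (ComplexShape.up ℤ) i
  haveI h1 : QuasiIso (((KFlat.tens (tB A)).map (resToSingle RM)).app PN) :=
    (isKFlat_res RN).quasiIso_map_app (resToSingle RM)
  haveI h2 : QuasiIso (((KFlat.tens (tB A)).map (resToSingle RN)).app PM) :=
    (isKFlat_res RM).quasiIso_map_app (resToSingle RN)
  let e₁ : H.obj (((KFlat.tens (tB A)).obj PM).obj PN) ≅ H.obj ((tR M).obj PN) :=
    @isoOfQuasiIsoAt _ _ _ _ _ _ _ (((KFlat.tens (tB A)).map (resToSingle RM)).app PN) i _ _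
      ((quasiIso_iff _).1 h1 i) ≪≫
    H.mapIso (KFlat.swapIso (tBraid A) M0 PN ≪≫ tensSingleIso PN M)
  let e₂ : H.obj (((KFlat.tens (tB A)).obj PN).obj PM) ≅ H.obj ((tR N).obj PM) :=
    @isoOfQuasiIsoAt _ _ _ _ _ _ _ (((KFlat.tens (tB A)).map (resToSingle RN)).app PM) i _ _
      ((quasiIso_iff _).1 h2 i) ≪≫
    H.mapIso (KFlat.swapIso (tBraid A) N0 PM ≪≫ tensSingleIso PM N)
  exact (e₂.symm ≪≫ H.mapIso (KFlat.swapIso (tBraid A) PN PM) ≪≫ e₁).isZero_iff

lemma isZero_tR_iff_tensorLeft (M : ModuleCat.{u} A) (P : DRing.Cx A) (i : ℤ) :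
    IsZero (((tR M).obj P).homology i) ↔
      IsZero ((((tensorLeft M).mapHomologicalComplex (ComplexShape.up ℤ)).obj P).homology i) :=
  ((HomologicalComplex.homologyFunctor (ModuleCat.{u} A) (ComplexShape.up ℤ) i).mapIso
    (HomologicalComplex.Hom.isoOfComponents (fun n => β_ (P.X n) M)
      (fun n m _ => (BraidedCategory.braiding_naturality_left (P.d n m) M).symm))).isZero_iff

/-- vanishing of `Tor` in positive degrees -/
lemma isZero_tor_iff (M N : ModuleCat.{u} A) (RN : ProjectiveResolution N) (p : ℕ) :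
    IsZero (((CategoryTheory.Tor (ModuleCat.{u} A) (p + 1)).obj M).obj N) ↔
      IsZero (((tR M).obj RN.cochainComplex).homology (-((p + 1 : ℕ) : ℤ))) := by
  rw [isZero_tR_iff_tensorLeft]
  refine (RN.isoLeftDerivedObj (tensorLeft M) (p + 1)).isZero_iff.trans ?_
  let C := ((tensorLeft M).mapHomologicalComplex (ComplexShape.down ℕ)).obj RN.complex
  let D := ((tensorLeft M).mapHomologicalComplex (ComplexShape.up ℤ)).obj RN.cochainComplex
  let S := C.sc' (p + 2) (p + 1) p
  let S' := D.sc' (-((p + 2 : ℕ) : ℤ)) (-((p + 1 : ℕ) : ℤ)) (-(p : ℤ))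
  let e : S ≅ S' := ShortComplex.isoMk
    ((tensorLeft M).mapIso (RN.cochainComplexXIso _ (p + 2) rfl).symm)
    ((tensorLeft M).mapIso (RN.cochainComplexXIso _ (p + 1) rfl).symm)
    ((tensorLeft M).mapIso (RN.cochainComplexXIso _ p rfl).symm)
    (by
      change (tensorLeft M).map _ ≫ (tensorLeft M).map _ = (tensorLeft M).map _ ≫ (tensorLeft M).map _
      rw [← Functor.map_comp, ← Functor.map_comp, RN.cochainComplex_d _ _ (p + 2) (p + 1) rfl rfl]
      congr 1
      simp)
    (by
      change (tensorLeft M).map _ ≫ (tensorLeft M).map _ = (tensorLeft M).map _ ≫ (tensorLeft M).map _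
      rw [← Functor.map_comp, ← Functor.map_comp, RN.cochainComplex_d _ _ (p + 1) p rfl rfl]
      congr 1
      simp)
  exact ((C.homologyIsoSc' (p + 2) (p + 1) p (by simp) (by simp)) ≪≫
    ShortComplex.homologyMapIso e ≪≫
    (D.homologyIsoSc' _ (-((p + 1 : ℕ) : ℤ)) _ (by simp; lia) (by simp)).symm).isZero_iff

theorem hasTorDimLE_iff (M : Type u) [AddCommGroup M] [Module A M] (d : ℕ) :
    DRing.HasTorDimLE A d M ↔ DRing.HasTorAmplitudeIn A (-(d : ℤ)) 0 (Dual.inD A M) := by
  let RM := projectiveResolution (ModuleCat.of A M)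
  have hb : DRing.VanishesAbove RM.cochainComplex 0 :=
    (CochainComplex.isStrictlyLE_iff _ 0).1 inferInstance
  let eM : DRing.toD RM.cochainComplex ≅ Dual.inD A M :=
    asIso (DerivedCategory.Q.map (resToSingle RM)) ≪≫
      ((DerivedCategory.singleFunctorIsoCompQ (ModuleCat.{u} A) 0).app (ModuleCat.of A M)).symm
  have hf := flat_of_projective (P := RM.cochainComplex) fun _ => inferInstance
  constructor
  · intro h
    refine amp_iff_torVan.2 ⟨RM.cochainComplex, 0, hb, hf, ⟨eM⟩, fun N i hi => ?_⟩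
    by_cases h0 : 0 < i
    · exact ShortComplex.isZero_homology_of_isZero_X₂ _ ((tensorRight N).map_isZero (hb i h0))
    · obtain ⟨p, rfl⟩ : ∃ p : ℕ, i = -((p + 1 : ℕ) : ℤ) := ⟨(-i - 1).toNat, by lia⟩
      rw [isZero_balance RM (projectiveResolution N), ← isZero_tor_iff]
      haveI := h N (p + 1) (by lia)
      exact ModuleCat.isZero_of_subsingleton _
  · intro h N _ _ p hp
    obtain ⟨q, rfl⟩ : ∃ q, p = q + 1 := ⟨p - 1, by lia⟩
    refine ModuleCat.subsingleton_of_isZero ?_
    rw [isZero_tor_iff (ModuleCat.of A M) (ModuleCat.of A N) (projectiveResolution (ModuleCat.of A N)),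
      ← isZero_balance RM]
    exact torVan_rep (torVan_of_amp h) hb hf eM _ _ (Or.inl (by lia))

theorem amp_zero_iff_flat (M : Type u) [AddCommGroup M] [Module A M] :
    DRing.HasTorAmplitudeIn A 0 0 (Dual.inD A M) ↔ Module.Flat A M := by
  constructor
  · rintro ⟨E, hE, hEf, ⟨e⟩⟩
    haveI : E.IsStrictlyLE 0 := (CochainComplex.isStrictlyLE_iff E 0).2 fun i hi => hE i (Or.inr hi)
    haveI : E.IsStrictlyGE 0 := (CochainComplex.isStrictlyGE_iff E 0).2 fun i hi => hE i (Or.inl hi)
    obtain ⟨X, ⟨eX⟩⟩ := CochainComplex.exists_iso_single E 0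
    let eXM : X ≅ ModuleCat.of A M := (hdInD X).symm ≪≫
      (DerivedCategory.homologyFunctor (ModuleCat.{u} A) 0).mapIso
        ((DerivedCategory.singleFunctorIsoCompQ (ModuleCat.{u} A) 0).app X ≪≫
          DerivedCategory.Q.mapIso eX.symm ≪≫ e) ≪≫ hdInD (ModuleCat.of A M)
    haveI := hEf 0
    let e0 : E.X 0 ≅ ((HomologicalComplex.single _ (ComplexShape.up ℤ) 0).obj X).X 0 :=
      (HomologicalComplex.eval (ModuleCat.{u} A) (ComplexShape.up ℤ) 0).mapIso eX
    exact Module.Flat.of_linearEquiv ((eXM.symm ≪≫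
      (HomologicalComplex.singleObjXSelf (ComplexShape.up ℤ) 0 X).symm ≪≫ e0.symm).toLinearEquiv)
  · intro h
    refine ⟨(HomologicalComplex.single _ (ComplexShape.up ℤ) 0).obj (ModuleCat.of A M),
      fun i hi => HomologicalComplex.isZero_single_obj_X _ 0 _ i (by lia), fun i => ?_,
      ⟨((DerivedCategory.singleFunctorIsoCompQ (ModuleCat.{u} A) 0).app _).symm⟩⟩
    by_cases hi : i = 0
    · subst hi
      haveI : Module.Flat A (ModuleCat.of A M) := h
      exact Module.Flat.of_linearEquiv
        (HomologicalComplex.singleObjXSelf (ComplexShape.up ℤ) 0 (ModuleCat.of A M)).toLinearEquiv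
    · exact (flatObj_iff A _).1 (KFlat.flatObj_of_isZero (HomologicalComplex.isZero_single_obj_X _ 0 _ i hi))

end Groth.Agent.DRingKP
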