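import Groth.Agent.DRingKP.BC

/-!
Flat base change of pseudo-coherent modules.
-/

set_option autoImplicit false
set_option linter.style.haveILetI false
universe u

namespace Groth.Agent.DRingKP

open CategoryTheory Limits DerivedCategory HomologicalComplex

attribute [local instance] HasDerivedCategory.standard

theorem pcModule_baseChange {A B : Type u} [CommRing A] [CommRing B] [Algebra A B] [Module.Flat A B]
    (m : ℤ) (M : Type u) [AddCommGroup M] [Module A M] (h : DRing.IsPseudoCoherentModule A m M) :
    DRing.IsPseudoCoherentModule B m (TensorProduct A B M) := by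
  let K : DRing.Cx A := (HomologicalComplex.single _ (ComplexShape.up ℤ) 0).obj (ModuleCat.of A M)
  have h1 : DRing.IsPseudoCoherent B m (DRing.toD ((bc (algebraMap A B)).obj K)) :=
    pc_bc_of_flat (algebraMap A B) (RingHom.flat_algebraMap_iff.mpr ‹_›) K m
      (pc_of_iso ((DerivedCategory.singleFunctorIsoCompQ (ModuleCat.{u} A) 0).app (ModuleCat.of A M)) h)
  let e₁ : (ModuleCat.restrictScalars.{u} (algebraMap A B)).obj (ModuleCat.of B B) ≃ₗ[A] B :=
    { toFun := fun x => x
      map_add' := fun _ _ => rfl
      map_smul' := fun a x => by
        rw [RingHom.id_apply, Algebra.smul_def]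
        rfl
      invFun := fun x => x
      left_inv := fun _ => rfl
      right_inv := fun _ => rfl }
  let e₀ : TensorProduct A ((ModuleCat.restrictScalars.{u} (algebraMap A B)).obj (ModuleCat.of B B)) M ≃ₗ[A]
      TensorProduct A B M := TensorProduct.congr e₁ (LinearEquiv.refl A M)
  let el : (ModuleCat.extendScalars.{u, u, u} (algebraMap A B)).obj (ModuleCat.of A M) ≃ₗ[B]
      TensorProduct A B M :=
    { toFun := fun x => e₀ x
      map_add' := fun x y => e₀.map_add x y
      map_smul' := fun c x => by
        induction x using TensorProduct.induction_on with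
        | zero =>
          exact (congrArg e₀ (smul_zero (A := (ModuleCat.extendScalars.{u, u, u} (algebraMap A B)).obj
            (ModuleCat.of A M)) c)).trans (e₀.map_zero.trans
              ((congrArg (c • ·) e₀.map_zero).trans (smul_zero c)).symm)
        | tmul b y => rfl
        | add x y hx hy =>
          exact (congrArg e₀ (smul_add (A := (ModuleCat.extendScalars.{u, u, u} (algebraMap A B)).obj
            (ModuleCat.of A M)) c x y)).trans ((e₀.map_add _ _).trans ((congrArg₂ (· + ·) hx hy).trans
            ((smul_add _ _ _).symm.trans (congrArg (c • ·) (e₀.map_add x y).symm))))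
      invFun := fun x => e₀.symm x
      left_inv := fun x => e₀.symm_apply_apply x
      right_inv := fun x => e₀.apply_symm_apply x }
  let e := el.toModuleIso
  exact pc_of_iso (DerivedCategory.Q.mapIso
      ((HomologicalComplex.singleMapHomologicalComplex (ModuleCat.extendScalars.{u, u, u} (algebraMap A B))
        (ComplexShape.up ℤ) 0).app (ModuleCat.of A M) ≪≫
        (HomologicalComplex.single _ (ComplexShape.up ℤ) 0).mapIso e) ≪≫
      ((DerivedCategory.singleFunctorIsoCompQ (ModuleCat.{u} B) 0).app _).symm) h1

end Groth.Agent.DRingKP
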