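import Groth.Agent.DRingKP.TorAmp
import Groth.Agent.DRingKP.BCModule

/-!
Tor amplitude: cohomology, base change, derived tensor product.
-/

set_option autoImplicit false
set_option linter.style.haveILetI false
universe u

namespace Groth.Agent.DRingKP

open CategoryTheory Limits DerivedCategory MonoidalCategory HomologicalComplex Pretriangulated ZeroObject
open scoped TensorProduct

attribute [local instance] HasDerivedCategory.standard

variable {A : Type u} [CommRing A]

theorem amp_of_homology (a b c d : ℤ) (K : Dual.D A)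
    (hz : ∀ i, (i < c ∨ d < i) → IsZero ((DerivedCategory.homologyFunctor (ModuleCat.{u} A) i).obj K))
    (hK : ∀ i, DRing.HasTorAmplitudeIn A (a - i) (b - i)
      (Dual.inD A ((DerivedCategory.homologyFunctor (ModuleCat.{u} A) i).obj K))) :
    DRing.HasTorAmplitudeIn A a b K := by
  suffices H : ∀ (k : ℕ) (d : ℤ) (K : Dual.D A), d < c + k →
      (∀ i, (i < c ∨ d < i) → IsZero ((DerivedCategory.homologyFunctor (ModuleCat.{u} A) i).obj K)) →
      (∀ i, DRing.HasTorAmplitudeIn A (a - i) (b - i)
        (Dual.inD A ((DerivedCategory.homologyFunctor (ModuleCat.{u} A) i).obj K))) →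
      DRing.HasTorAmplitudeIn A a b K from H (d + 1 - c).toNat d K (by lia) hz hK
  intro k
  induction k with
  | zero =>
    intro d K hd hz _
    haveI : K.IsLE (c - 1) := (DerivedCategory.isLE_iff K (c - 1)).2 fun i _ => hz i (by lia)
    haveI : K.IsGE c := (DerivedCategory.isGE_iff K c).2 fun i hi => hz i (Or.inl hi)
    exact amp_of_isZero a b (DerivedCategory.TStructure.t.isZero K (c - 1) c (by lia))
  | succ k ih =>
    intro d K hd hz h
    obtain ⟨X, B, f, g, w, hT, hX, hlt, ⟨e⟩⟩ :=
      exists_top_triangle K d fun i hi => hz i (Or.inr (by lia))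
    refine amp_obj₂ _ hT (ih (d - 1) X (by lia) (fun i hi => ?_) fun i => ?_)
      (amp_of_iso e.symm (amp_single _ d (h d)))
    · by_cases hi' : i < d
      · exact (hz i (by lia)).of_iso (hlt i hi').some
      · exact hX i (by lia)
    · by_cases hi' : i < d
      · exact amp_of_iso ((DerivedCategory.singleFunctor (ModuleCat.{u} A) 0).mapIso (hlt i hi').some).symm (h i)
      · exact amp_of_isZero _ _ ((DerivedCategory.singleFunctor (ModuleCat.{u} A) 0).map_isZero (hX i (by lia)))

/-- the perfect case of the truncation -/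
theorem exists_projective_iff {K : Dual.D A} (hK : DRing.IsPseudoCoherent' A K) (a b : ℤ) :
    (∃ P : DRing.Cx A, DRing.VanishesOutside P a b ∧ (∀ i : ℤ, Module.Projective A (P.X i)) ∧
        Nonempty (DRing.toD P ≅ K)) ↔ DRing.IsPerfect A K ∧ DRing.HasTorAmplitudeIn A a b K := by
  constructor
  · rintro ⟨P, hP, hPp, e⟩
    have hamp : DRing.HasTorAmplitudeIn A a b K := ⟨P, hP, fun i => haveI := hPp i; inferInstance, e⟩
    exact ⟨(isPerfect_iff K).2 ⟨hK, a, b, hamp⟩, hamp⟩
  · rintro ⟨hperf, hamp⟩
    obtain ⟨E, hE, hEp, e⟩ := exists_finiteProjective_rep hK hamp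
    exact ⟨E, hE, fun i => (hEp i).2, e⟩

/-- cokernels of a flat representative -/
theorem flat_coker_of_amp {K : DRing.Cx A} {b : ℤ} (hb : DRing.VanishesAbove K b)
    (hflat : DRing.TermwiseFlat K) {a c : ℤ} (hamp : DRing.HasTorAmplitudeIn A a c (DRing.toD K)) :
    Module.Flat A ((K.X a) ⧸ LinearMap.range (K.d (a - 1) a).hom) :=
  flat_coker hflat a fun M => torVan_rep (torVan_of_amp hamp) hb hflat (Iso.refl _) M (a - 1) (Or.inl (by lia))

/-- the comparison for the derived tensor product with a module -/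
noncomputable def lTensorCmp (M : ModuleCat.{u} A) [DRing.HasLTensor A M] (P : DRing.Cx A) :
    (DRing.LTensor A M).obj (DerivedCategory.Qh.obj
        ((HomotopyCategory.quotient (ModuleCat.{u} A) (ComplexShape.up ℤ)).obj P)) ⟶
      DerivedCategory.Qh.obj ((HomotopyCategory.quotient (ModuleCat.{u} A) (ComplexShape.up ℤ)).obj ((tR M).obj P)) :=
  ((DRing.tensorKh A M).totalLeftDerivedCounit DerivedCategory.Qh
    (HomotopyCategory.quasiIso (ModuleCat.{u} A) (ComplexShape.up ℤ))).app
      ((HomotopyCategory.quotient (ModuleCat.{u} A) (ComplexShape.up ℤ)).obj P)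

/-- derived tensor product on K-projective complexes -/
noncomputable def lTensorIso (M : ModuleCat.{u} A) [DRing.HasLTensor A M] (P : DRing.Cx A) [P.IsKProjective] :
    (DRing.LTensor A M).obj (DRing.toD P) ≅ DRing.toD ((tR M).obj P) :=
  (DRing.LTensor A M).mapIso ((DerivedCategory.quotientCompQhIso (ModuleCat.{u} A)).app P).symm ≪≫
    (@asIso _ _ _ _ (lTensorCmp M P) (isIso_app (tensorRight M) (DRing.LTensor A M)
          ((DRing.tensorKh A M).totalLeftDerivedCounit DerivedCategory.Qh
            (HomotopyCategory.quasiIso (ModuleCat.{u} A) (ComplexShape.up ℤ))) P)) ≪≫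
    (DerivedCategory.quotientCompQhIso (ModuleCat.{u} A)).app ((tR M).obj P)

theorem amp_iff_lTensor [∀ M : ModuleCat.{u} A, DRing.HasLTensor A M] (K : Dual.D A) (a b : ℤ) :
    DRing.HasTorAmplitudeIn A a b K ↔
      ∀ (M : ModuleCat.{u} A) (i : ℤ), (i < a ∨ b < i) →
        Subsingleton (Dual.HD A ((DRing.LTensor A M).obj K) i) := by
  -- a K-projective representative
  obtain ⟨P, c, hP, hq⟩ := exists_kProj_resolution (DerivedCategory.Q.objPreimage K)
  haveI := hP
  haveI := hq
  let eP : DRing.toD P ≅ K := asIso (DerivedCategory.Q.map c) ≪≫ DerivedCategory.Q.objObjPreimageIso K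
  have hiso : ∀ (M : ModuleCat.{u} A) (i : ℤ),
      Subsingleton (Dual.HD A ((DRing.LTensor A M).obj K) i) ↔ IsZero (((tR M).obj P).homology i) := fun M i => by
    refine ⟨fun h => ?_, fun h => ?_⟩
    · haveI := h
      exact ((ModuleCat.isZero_of_subsingleton _).of_iso
        ((DerivedCategory.homologyFunctor (ModuleCat.{u} A) i).mapIso
          ((lTensorIso M P).symm ≪≫ (DRing.LTensor A M).mapIso eP))).of_iso
        ((homologyFunctorFactors (ModuleCat.{u} A) i).app ((tR M).obj P)).symm
    · exact ModuleCat.subsingleton_of_isZero ((h.of_iso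
        ((homologyFunctorFactors (ModuleCat.{u} A) i).app ((tR M).obj P))).of_iso
        ((DerivedCategory.homologyFunctor (ModuleCat.{u} A) i).mapIso
          ((lTensorIso M P).symm ≪≫ (DRing.LTensor A M).mapIso eP)).symm)
  -- bounded above K-projective representatives agree with `P`
  have hrep : ∀ (Q : DRing.Cx A) [Q.IsKProjective], (DRing.toD Q ≅ K) → ∀ (M : ModuleCat.{u} A) (i : ℤ),
      IsZero (((tR M).obj P).homology i) ↔ IsZero (((tR M).obj Q).homology i) := by
    intro Q _ eQ M i
    exact ((homologyFunctorFactors (ModuleCat.{u} A) i).app ((tR M).obj P)).symm.isZero_iff.trans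
      (((DerivedCategory.homologyFunctor (ModuleCat.{u} A) i).mapIso
        ((lTensorIso M P).symm ≪≫ (DRing.LTensor A M).mapIso (eP ≪≫ eQ.symm) ≪≫ lTensorIso M Q)).isZero_iff.trans
        ((homologyFunctorFactors (ModuleCat.{u} A) i).app ((tR M).obj Q)).isZero_iff)
  constructor
  · intro h M i hi
    obtain ⟨F, d, hFb, hF, ⟨e⟩, -⟩ := torVan_of_amp h
    haveI : F.IsStrictlyLE d := (CochainComplex.isStrictlyLE_iff F d).2 hFb
    obtain ⟨Q, dQ, hQb, hQ, ⟨eQ⟩⟩ := exists_proj_rep_le K ⟨d + 1, isAbove_of_iso e fun j hj =>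
      DerivedCategory.isZero_of_isLE (DRing.toD F) d j (by lia)⟩
    haveI := isKProjective_of_vanishesAbove hQb hQ
    exact (hiso M i).2 ((hrep Q eQ M i).2 (torVan_rep (torVan_of_amp h) hQb (flat_of_projective hQ) eQ M i hi))
  · intro h
    have hunit : ∀ i, b < i → IsZero (P.homology i) := fun i hi =>
      ((hiso (𝟙_ (ModuleCat.{u} A)) i).1 (h _ i (Or.inr hi))).of_iso
        ((HomologicalComplex.homologyFunctor _ _ i).mapIso
          (HomologicalComplex.Hom.isoOfComponents (fun n => ρ_ (P.X n))
            (fun n m _ => (rightUnitor_naturality (P.d n m)).symm))).symm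
    obtain ⟨Q, dQ, hQb, hQ, ⟨eQ⟩⟩ := exists_proj_rep_le K ⟨b + 1, fun i hi =>
      ((hunit i (by lia)).of_iso ((homologyFunctorFactors (ModuleCat.{u} A) i).app P)).of_iso
        ((DerivedCategory.homologyFunctor (ModuleCat.{u} A) i).mapIso eP).symm⟩
    haveI := isKProjective_of_vanishesAbove hQb hQ
    exact amp_iff_torVan.2 ⟨Q, dQ, hQb, flat_of_projective hQ, ⟨eQ⟩,
      fun M i hi => (hrep Q eQ M i).1 ((hiso M i).1 (h M i hi))⟩

section BC

variable {B : Type u} [CommRing B] (φ : A →+* B)

lemma extendScalars_flat {M : ModuleCat.{u} A} (h : Module.Flat A M) :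
    Module.Flat B ((ModuleCat.extendScalars.{u, u, u} φ).obj M) := by
  algebraize [φ]
  haveI := h
  exact inferInstanceAs (Module.Flat B (TensorProduct A B M))

lemma bcObjEquiv_smul (M : ModuleCat.{u} A) (r : A)
    (x : (ModuleCat.restrictScalars.{u} φ).obj ((ModuleCat.extendScalars.{u, u, u} φ).obj M)) :
    TensorProduct.comm A ((ModuleCat.restrictScalars.{u} φ).obj (ModuleCat.of B B)) M (r • x) =
      r • TensorProduct.comm A ((ModuleCat.restrictScalars.{u} φ).obj (ModuleCat.of B B)) M x := by
  induction x using TensorProduct.induction_on with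
  | zero =>
    exact (congrArg (TensorProduct.comm A _ _) (smul_zero
      (A := (ModuleCat.restrictScalars.{u} φ).obj ((ModuleCat.extendScalars.{u, u, u} φ).obj M)) r)).trans
        ((map_zero (TensorProduct.comm A _ _)).trans
          ((congrArg (r • ·) (map_zero (TensorProduct.comm A _ _))).trans (smul_zero r)).symm)
  | tmul c m =>
    exact TensorProduct.tmul_smul r m c
  | add x y hx hy =>
    exact (congrArg (TensorProduct.comm A _ _) (smul_add
      (A := (ModuleCat.restrictScalars.{u} φ).obj ((ModuleCat.extendScalars.{u, u, u} φ).obj M)) r x y)).trans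
        ((map_add _ _ _).trans ((congrArg₂ (· + ·) hx hy).trans ((smul_add _ _ _).symm.trans
          (congrArg (r • ·) (map_add (TensorProduct.comm A _ _) x y).symm))))

/-- componentwise -/
noncomputable def bcObjEquiv (M : ModuleCat.{u} A) :
    (ModuleCat.restrictScalars.{u} φ).obj ((ModuleCat.extendScalars.{u, u, u} φ).obj M) ≃ₗ[A]
      TensorProduct A M ((ModuleCat.restrictScalars.{u} φ).obj (ModuleCat.of B B)) where
  toFun := fun x => TensorProduct.comm A _ _ x
  map_add' := fun x y => map_add (TensorProduct.comm A _ _) x y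
  map_smul' := fun r x => bcObjEquiv_smul φ M r x
  invFun := fun x => (TensorProduct.comm A _ _).symm x
  left_inv := fun x => (TensorProduct.comm A _ _).symm_apply_apply x
  right_inv := fun x => (TensorProduct.comm A _ _).apply_symm_apply x

/-- restricting `P ⊗ B` to `A` is `P ⊗ B` -/
noncomputable def bcRestrictIso (P : DRing.Cx A) :
    ((ModuleCat.restrictScalars.{u} φ).mapHomologicalComplex (ComplexShape.up ℤ)).obj ((bc φ).obj P) ≅
      (tR ((ModuleCat.restrictScalars.{u} φ).obj (ModuleCat.of B B))).obj P :=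
  HomologicalComplex.Hom.isoOfComponents (fun n => (bcObjEquiv φ (P.X n)).toModuleIso)
    (fun i j _ => by
      refine ModuleCat.hom_ext (LinearMap.ext fun x => ?_)
      induction x using TensorProduct.induction_on with
      | zero => exact (map_zero _).trans (map_zero _).symm
      | tmul c m => rfl
      | add x y hx hy => exact (map_add _ x y).trans ((congrArg₂ (· + ·) hx hy).trans (map_add _ x y).symm))

/-- acyclicity is detected after restriction -/
lemma quasiIso_bc {F G : DRing.Cx A} (g : F ⟶ G) [QuasiIso g] {b b' : ℤ}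
    (hFb : DRing.VanishesAbove F b) (hGb : DRing.VanishesAbove G b')
    (hF : DRing.TermwiseFlat F) (hG : DRing.TermwiseFlat G) : QuasiIso ((bc φ).map g) := by
  refine KFlat.quasiIso_of_acyclic_mappingCone _ (KFlat.acyclic_of_iso
    (CochainComplex.mappingCone.mapHomologicalComplexIso g (ModuleCat.extendScalars.{u, u, u} φ)) fun i => ?_)
  have h := KFlat.acyclic_of_iso (bcRestrictIso φ (CochainComplex.mappingCone g)).symm
    (acyclic_tR (cone_vanishesAbove g hFb hGb) (cone_flat g hF hG) (KFlat.mappingCone_acyclic g) _) i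
  rw [HomologicalComplex.exactAt_iff] at h ⊢
  exact (ShortComplex.exact_map_iff_of_faithful _ (ModuleCat.restrictScalars.{u} φ)).1 h

theorem amp_lBaseChange [DRing.HasLBaseChange φ] (K : Dual.D A) (a b : ℤ)
    (hK : DRing.HasTorAmplitudeIn A a b K) :
    DRing.HasTorAmplitudeIn B a b ((DRing.LBaseChange φ).obj K) := by
  obtain ⟨E, hE, hEf, ⟨e⟩⟩ := hK
  haveI : E.IsStrictlyLE b := (CochainComplex.isStrictlyLE_iff E b).2 fun i hi => hE i (Or.inr hi)
  obtain ⟨P, c, hPb, hP, ⟨eP⟩⟩ := exists_proj_rep_le (DRing.toD E) ⟨b + 1, fun i hi =>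
    DerivedCategory.isZero_of_isLE (DRing.toD E) b i (by lia)⟩
  haveI := isKProjective_of_vanishesAbove hPb hP
  obtain ⟨g, hg⟩ := PerfLocal.exists_lift eP.hom
  haveI : IsIso (DerivedCategory.Q.map g) := by rw [hg]; infer_instance
  haveI : QuasiIso g := (DerivedCategory.isIso_Q_map_iff_quasiIso _ g).1 inferInstance
  haveI := quasiIso_bc φ g hPb (fun i hi => hE i (Or.inr hi)) (flat_of_projective hP) hEf
  exact ⟨(bc φ).obj E, fun i hi => (ModuleCat.extendScalars.{u, u, u} φ).map_isZero (hE i hi),
    fun i => extendScalars_flat φ (hEf i),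
    ⟨(asIso (DerivedCategory.Q.map ((bc φ).map g))).symm ≪≫ (lBaseChangeIso φ P).symm ≪≫
      (DRing.LBaseChange φ).mapIso (eP ≪≫ e)⟩⟩

end BC

/-- projective amplitude and vanishing of maps -/
theorem subsingleton_hom {a b : ℤ} {P : DRing.Cx A} (hP : DRing.VanishesOutside P a b)
    (hPp : ∀ i, Module.Projective A (P.X i)) {L K : Dual.D A} (e : DRing.toD P ≅ L) (hK : IsAbove a K) :
    Subsingleton (L ⟶ K) := by
  haveI := isKProjective_of_vanishesAbove (fun i hi => hP i (Or.inr hi))
    (fun i => haveI := hPp i; (IsProjective.iff_projective (P.X i)).1 inferInstance)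
  haveI : P.IsStrictlyGE a := (CochainComplex.isStrictlyGE_iff P a).2 fun i hi => hP i (Or.inl hi)
  refine subsingleton_of_forall_eq 0 fun f => ?_
  rw [← cancel_epi e.hom, comp_zero]
  exact hom_eq_zero a hK _

end Groth.Agent.DRingKP
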