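import Groth.Agent.DRingKP.Amp
import Mathlib.LinearAlgebra.Matrix.Charpoly.LinearMap
import Mathlib.LinearAlgebra.TensorProduct.Quotient

/-!
Tor amplitude of pseudo-coherent objects from the fibres at maximal ideals.
-/

set_option autoImplicit false
set_option linter.style.haveILetI false
universe u

namespace Groth.Agent.DRingKP

open CategoryTheory Limits DerivedCategory MonoidalCategory HomologicalComplex

attribute [local instance] HasDerivedCategory.standard

variable {A : Type u} [CommRing A]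

/-- split injectivity is detected modulo all maximal ideals -/
theorem exists_retraction_of_mod_maximal {C F : Type u} [AddCommGroup C] [Module A C] [AddCommGroup F]
    [Module A F] [Module.Finite A C] [Module.Projective A F] (δ : C →ₗ[A] F)
    (h : ∀ m : Ideal A, m.IsMaximal → ∀ x, δ x ∈ m • (⊤ : Submodule A F) → x ∈ m • (⊤ : Submodule A C)) :
    ∃ r : F →ₗ[A] C, r ∘ₗ δ = LinearMap.id := by
  let I : Ideal A :=
    { carrier := {c | ∃ r : F →ₗ[A] C, r ∘ₗ δ = c • LinearMap.id}
      add_mem' := fun {a b} ⟨r, hr⟩ ⟨s, hs⟩ => ⟨r + s, by rw [LinearMap.add_comp, hr, hs, add_smul]⟩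
      zero_mem' := ⟨0, by simp⟩
      smul_mem' := fun a b ⟨r, hr⟩ => ⟨a • r, by rw [LinearMap.smul_comp, hr, smul_smul, smul_eq_mul]⟩ }
  by_cases hI : I = ⊤
  · obtain ⟨r, hr⟩ : (1 : A) ∈ I := hI ▸ Submodule.mem_top
    exact ⟨r, hr.trans (one_smul _ _)⟩
  exfalso
  obtain ⟨m, hm, hIm⟩ := Ideal.exists_le_maximal I hI
  letI := Ideal.Quotient.field m
  let V := C ⧸ m • (⊤ : Submodule A C)
  let W := F ⧸ m • (⊤ : Submodule A F)
  let δ₀ : V →ₗ[A] W := (m • (⊤ : Submodule A C)).mapQ (m • (⊤ : Submodule A F)) δ (by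
    rw [← Submodule.map_le_iff_le_comap, Submodule.map_smul'']
    exact Submodule.smul_mono le_rfl le_top)
  let δm : V →ₗ[A ⧸ m] W :=
    { toFun := δ₀
      map_add' := map_add δ₀
      map_smul' := fun a x => by
        obtain ⟨a, rfl⟩ := Ideal.Quotient.mk_surjective a
        exact δ₀.map_smul a x }
  have hinj : LinearMap.ker δm = ⊥ := by
    rw [eq_bot_iff]
    intro x hx
    obtain ⟨x, rfl⟩ := Submodule.Quotient.mk_surjective _ x
    exact (Submodule.Quotient.mk_eq_zero _).2 (h m hm x ((Submodule.Quotient.mk_eq_zero _).1 hx))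
  obtain ⟨g, hg⟩ := δm.exists_leftInverse_of_injective hinj
  let g₀ : W →ₗ[A] V :=
    { toFun := g
      map_add' := map_add g
      map_smul' := fun a x => g.map_smul (Ideal.Quotient.mk m a) x }
  obtain ⟨s, hs⟩ := Module.projective_lifting_property (m • (⊤ : Submodule A C)).mkQ
    (g₀ ∘ₗ (m • (⊤ : Submodule A F)).mkQ) (Submodule.mkQ_surjective _)
  let φ : Module.End A C := 1 - s ∘ₗ δ
  have hφ : LinearMap.range φ ≤ m • ⊤ := by
    rintro _ ⟨x, rfl⟩
    refine (Submodule.Quotient.mk_eq_zero _).1 ?_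
    change (m • (⊤ : Submodule A C)).mkQ (x - s (δ x)) = 0
    rw [map_sub, sub_eq_zero]
    exact ((LinearMap.congr_fun hs (δ x)).trans (LinearMap.congr_fun hg (Submodule.Quotient.mk x))).symm
  obtain ⟨p, hp, -, hcoeff, hp0⟩ :=
    LinearMap.exists_monic_and_natDegree_eq_and_coeff_mem_pow_and_aeval_eq_zero (R := A) φ m hφ
  have hc : p.eval 1 ∉ m := by
    have hmap : p.map (Ideal.Quotient.mk m) = Polynomial.X ^ p.natDegree := by
      ext k
      rw [Polynomial.coeff_map, Polynomial.coeff_X_pow]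
      rcases lt_trichotomy k p.natDegree with hk | rfl | hk
      · rw [if_neg hk.ne, Ideal.Quotient.eq_zero_iff_mem]
        exact Ideal.pow_le_self (by omega) (hcoeff k)
      · rw [if_pos rfl, hp.coeff_natDegree, map_one]
      · rw [if_neg hk.ne', Polynomial.coeff_eq_zero_of_natDegree_lt hk, map_zero]
    intro hmem
    have := (Polynomial.eval_map_apply (f := Ideal.Quotient.mk m) (p := p) 1).trans
      (Ideal.Quotient.eq_zero_iff_mem.2 hmem)
    rw [hmap, map_one] at this
    simp at this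
  obtain ⟨q, hq⟩ := Polynomial.X_sub_C_dvd_sub_C_eval (p := p) (a := 1)
  refine hc (hIm ⟨(Polynomial.aeval φ q) ∘ₗ s, ?_⟩)
  have h0 : (Polynomial.aeval φ) (p - Polynomial.C (p.eval 1)) = (Polynomial.aeval φ) (q * (Polynomial.X - Polynomial.C 1)) := by rw [hq, mul_comm]
  simp only [map_sub, map_mul, Polynomial.aeval_C, Polynomial.aeval_X, hp0, map_one, zero_sub] at h0
  have h1 : φ - 1 = -(s ∘ₗ δ) := by simp [φ]
  rw [h1, mul_neg, neg_inj] at h0
  rw [LinearMap.comp_assoc]
  exact h0.symm.trans (by ext x; simp)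

/-- contracting homotopies from exactness of the fibres -/
theorem exists_homotopy_of_fibres (P : DRing.Cx A) (i j k : ℤ) [Module.Finite A (P.X j)]
    [Module.Projective A (P.X j)] [Module.Projective A (P.X k)]
    (h : ∀ m : Ideal A, m.IsMaximal → ∀ x, (P.d j k).hom x ∈ m • (⊤ : Submodule A (P.X k)) →
      ∃ y, x - (P.d i j).hom y ∈ m • (⊤ : Submodule A (P.X j))) :
    ∃ (s : P.X k ⟶ P.X j) (t : P.X j ⟶ P.X i), P.d j k ≫ s + t ≫ P.d i j = 𝟙 (P.X j) := by
  let d₀ := (P.d i j).hom
  let d₁ := (P.d j k).hom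
  have hd : LinearMap.range d₀ ≤ LinearMap.ker d₁ := by
    rintro _ ⟨y, rfl⟩
    exact LinearMap.congr_fun (congrArg ModuleCat.Hom.hom (P.d_comp_d i j k)) y
  obtain ⟨r, hr⟩ := exists_retraction_of_mod_maximal ((LinearMap.range d₀).liftQ d₁ hd) fun m hm x hx => by
    obtain ⟨x, rfl⟩ := Submodule.Quotient.mk_surjective _ x
    obtain ⟨y, hy⟩ := h m hm x hx
    have hxy : Submodule.Quotient.mk (p := LinearMap.range d₀) x =
        (LinearMap.range d₀).mkQ (x - d₀ y) := by
      rw [Submodule.mkQ_apply, Submodule.Quotient.eq]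
      exact ⟨y, (sub_sub_cancel x _).symm⟩
    rw [hxy]
    have := Submodule.mem_map_of_mem (f := (LinearMap.range d₀).mkQ) hy
    rw [Submodule.map_smul''] at this
    exact Submodule.smul_mono le_rfl le_top this
  obtain ⟨s, hs⟩ := Module.projective_lifting_property (LinearMap.range d₀).mkQ r (Submodule.mkQ_surjective _)
  have hmem : ∀ x, x - s (d₁ x) ∈ LinearMap.range d₀ := fun x => by
    rw [← Submodule.Quotient.mk_eq_zero, ← Submodule.mkQ_apply, map_sub, sub_eq_zero]
    exact ((LinearMap.congr_fun hs (d₁ x)).trans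
      (LinearMap.congr_fun hr (Submodule.Quotient.mk x))).symm
  obtain ⟨t, ht⟩ := Module.projective_lifting_property d₀.rangeRestrict
    ((LinearMap.id - s ∘ₗ d₁).codRestrict (LinearMap.range d₀) hmem) d₀.surjective_rangeRestrict
  refine ⟨ModuleCat.ofHom s, ModuleCat.ofHom t, ModuleCat.hom_ext (LinearMap.ext fun x => ?_)⟩
  have hx : d₀ (t x) = x - s (d₁ x) := congrArg Subtype.val (LinearMap.congr_fun ht x)
  change s (d₁ x) + d₀ (t x) = x
  rw [hx, add_sub_cancel]

variable [∀ m : Ideal A, DRing.HasLBaseChange (Ideal.Quotient.mk m)]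

theorem exists_homotopy_of_HD {P : DRing.Cx A} {b : ℤ} (hb : DRing.VanishesAbove P b)
    (hP : DRing.TermwiseFiniteFree P) (i : ℤ)
    (h : ∀ m : Ideal A, m.IsMaximal → IsZero
      ((DerivedCategory.homologyFunctor (ModuleCat.{u} (A ⧸ m)) i).obj
        ((DRing.LBaseChange (Ideal.Quotient.mk m)).obj (DRing.toD P)))) :
    ∃ (s : P.X (i + 1) ⟶ P.X i) (t : P.X i ⟶ P.X (i - 1)),
      P.d i (i + 1) ≫ s + t ≫ P.d (i - 1) i = 𝟙 (P.X i) := by
  haveI := fun k => (hP k).1
  haveI := fun k => (hP k).2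
  haveI := isKProjective_of_finiteProjective b hb (termwiseFiniteProjective_of_free hP)
  refine exists_homotopy_of_fibres P (i - 1) i (i + 1) fun m hm x hx => ?_
  let φ := Ideal.Quotient.mk m
  let B₀ := (ModuleCat.restrictScalars.{u} φ).obj (ModuleCat.of (A ⧸ m) (A ⧸ m))
  let eB : B₀ ≃ₗ[A] A ⧸ m :=
    { toFun := fun x => x
      map_add' := fun _ _ => rfl
      map_smul' := fun a x => rfl
      invFun := fun x => x
      left_inv := fun _ => rfl
      right_inv := fun _ => rfl }
  have hz : IsZero (((bc φ).obj P).homology i) :=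
    ((h m hm).of_iso ((DerivedCategory.homologyFunctor (ModuleCat.{u} (A ⧸ m)) i).mapIso
      (lBaseChangeIso φ P).symm)).of_iso ((homologyFunctorFactors (ModuleCat.{u} (A ⧸ m)) i).app _).symm
  have hex : ((tR B₀).obj P).ExactAt i := by
    have h1 := (exactAt_iff_isZero_homology _ i).2 hz
    refine HomologicalComplex.ExactAt.of_iso ?_ (bcRestrictIso φ P)
    rw [HomologicalComplex.exactAt_iff] at h1 ⊢
    exact h1.map (ModuleCat.restrictScalars.{u} φ)
  rw [HomologicalComplex.exactAt_iff' _ (i - 1) i (i + 1) (by simp) (by simp),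
    ShortComplex.moduleCat_exact_iff] at hex
  let u : ∀ k, P.X k →ₗ[A] TensorProduct A (P.X k) B₀ := fun k =>
    (TensorProduct.mk A (P.X k) B₀).flip (eB.symm (Ideal.Quotient.mk m 1))
  let ev : ∀ k, TensorProduct A (P.X k) B₀ ≃ₗ[A] P.X k ⧸ m • (⊤ : Submodule A (P.X k)) := fun k =>
    TensorProduct.congr (LinearEquiv.refl A (P.X k)) eB ≪≫ₗ TensorProduct.tensorQuotEquivQuotSMul (P.X k) m
  have hev : ∀ k z, ev k (u k z) = Submodule.Quotient.mk z := fun k z => by
    refine (TensorProduct.tensorQuotEquivQuotSMul_tmul_mk m z 1).trans ?_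
    rw [one_smul]
  have hu : u (i + 1) ((P.d i (i + 1)).hom x) = 0 := (ev (i + 1)).injective (by
    rw [hev, map_zero]; exact (Submodule.Quotient.mk_eq_zero _).2 hx)
  obtain ⟨y, hy⟩ := hex (u i x) hu
  obtain ⟨y₀, hy₀⟩ := Submodule.Quotient.mk_surjective _ (ev (i - 1) y)
  obtain rfl : u (i - 1) y₀ = y := (ev (i - 1)).injective ((hev _ _).trans hy₀)
  refine ⟨y₀, (Submodule.Quotient.mk_eq_zero _).1 ?_⟩
  have h2 : u i ((P.d (i - 1) i).hom y₀) = u i x := hy
  rw [← hev, map_sub, map_sub, h2, sub_self]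

theorem amp_of_fibres {K : Dual.D A} (hK : DRing.IsPseudoCoherent' A K) (a b : ℤ)
    (h : ∀ m : Ideal A, m.IsMaximal → ∀ i : ℤ, (i < a ∨ b < i) →
      Subsingleton (Dual.HD (A ⧸ m) ((DRing.LBaseChange (Ideal.Quotient.mk m)).obj K) i)) :
    DRing.IsPerfect A K ∧ DRing.HasTorAmplitudeIn A a b K := by
  obtain ⟨P, c, hc, hP, ⟨eP⟩⟩ := id hK
  have hamp : DRing.HasTorAmplitudeIn A a b K := by
    refine amp_iff_torVan.2 ⟨P, c, hc,
      fun k => haveI := (hP k).2; inferInstance, ⟨eP⟩, fun M i hi => ?_⟩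
    obtain ⟨s, t, hst⟩ := exists_homotopy_of_HD hc hP i fun m hm => by
      haveI := h m hm i hi
      exact (@ModuleCat.isZero_of_subsingleton _ _
        ((DerivedCategory.homologyFunctor (ModuleCat.{u} (A ⧸ m)) i).obj
          ((DRing.LBaseChange (Ideal.Quotient.mk m)).obj K)) this).of_iso
        ((DerivedCategory.homologyFunctor (ModuleCat.{u} (A ⧸ m)) i).mapIso
          ((DRing.LBaseChange (Ideal.Quotient.mk m)).mapIso eP))
    rw [← HomologicalComplex.exactAt_iff_isZero_homology,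
      HomologicalComplex.exactAt_iff' _ (i - 1) i (i + 1) (by simp) (by simp), ShortComplex.moduleCat_exact_iff]
    intro x hx
    have := LinearMap.congr_fun (congrArg ModuleCat.Hom.hom (congrArg (tensorRight M).map hst)) x
    simp only [Functor.map_add, Functor.map_comp, CategoryTheory.Functor.map_id, ModuleCat.hom_add,
      ModuleCat.hom_comp, LinearMap.add_apply, LinearMap.comp_apply, ModuleCat.hom_id, LinearMap.id_apply] at this
    refine ⟨((tensorRight M).map t).hom x, ?_⟩
    have hx' : ((tensorRight M).map (P.d i (i + 1))).hom x = 0 := hx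
    rw [hx', map_zero, zero_add] at this
    exact this
  exact ⟨(isPerfect_iff K).2 ⟨hK, a, b, hamp⟩, hamp⟩

end Groth.Agent.DRingKP
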