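import Mathlib

/-!
Algebra of the telescope map `(x_n) ↦ (x_n - f x_{n+1})` on sequences in a module.
-/

set_option autoImplicit false
set_option linter.style.haveILetI false

namespace Groth.Agent.DRingKP

universe u v w

variable {A : Type u} [CommRing A] {M : Type v} [AddCommGroup M] [Module A M]
  {N : Type w} [AddCommGroup N] [Module A N]

/-- the telescope map -/
def tele (M : Type v) [AddCommGroup M] [Module A M] (f : A) : (ℕ → M) →ₗ[A] (ℕ → M) where
  toFun x n := x n - f • x (n + 1)
  map_add' x y := by funext n; simp [smul_add]; abel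
  map_smul' a x := by funext n; simp [smul_sub, smul_comm a f]

@[simp] lemma tele_apply (f : A) (x : ℕ → M) (n : ℕ) : tele M f x n = x n - f • x (n + 1) := rfl

/-- `M` is complete along `f` -/
def TBij (M : Type v) [AddCommGroup M] [Module A M] (f : A) : Prop := Function.Bijective (tele (A := A) M f)

lemma TBij.of_equiv {f : A} (h : TBij M f) (e : M ≃ₗ[A] N) : TBij N f := by
  refine ⟨fun x y hxy => ?_, fun d => ?_⟩
  · have : (fun n => e.symm (x n)) = fun n => e.symm (y n) := h.1 (funext fun n => by
      simpa using congrArg e.symm (congrFun hxy n))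
    funext n
    exact e.symm.injective (congrFun this n)
  · obtain ⟨x, hx⟩ := h.2 fun n => e.symm (d n)
    exact ⟨fun n => e (x n), funext fun n => by simpa using congrArg e (congrFun hx n)⟩

lemma TBij.subsingleton [Subsingleton M] (f : A) : TBij M f :=
  ⟨fun _ _ _ => Subsingleton.elim _ _, fun d => ⟨d, Subsingleton.elim _ _⟩⟩

lemma TBij.zero : TBij M (0 : A) := by
  refine ⟨fun x y h => funext fun n => ?_, fun d => ⟨d, funext fun n => by simp⟩⟩
  simpa using congrFun h n

/-- the value at `0` of the solution -/
noncomputable def tev {f : A} (h : TBij M f) : (ℕ → M) →ₗ[A] M :=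
  (LinearMap.proj 0) ∘ₗ (LinearEquiv.ofBijective (tele (A := A) M f) h).symm.toLinearMap

lemma tev_tele {f : A} (h : TBij M f) (x : ℕ → M) : tev h (tele M f x) = x 0 := by
  simp only [tev, LinearMap.comp_apply, LinearEquiv.coe_coe, LinearMap.proj_apply]
  rw [show tele M f x = LinearEquiv.ofBijective (tele (A := A) M f) h x from rfl, LinearEquiv.symm_apply_apply]

lemma tev_rec {f : A} (h : TBij M f) (d : ℕ → M) : tev h d = d 0 + f • tev h fun n => d (n + 1) := by
  obtain ⟨x, rfl⟩ := h.2 d
  rw [tev_tele, show (fun n => tele M f x (n + 1)) = tele M f fun n => x (n + 1) from rfl, tev_tele]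
  simp

lemma tev_sum {f : A} (h : TBij M f) (d : ℕ → M) (K : ℕ) :
    tev h d = ∑ k ∈ Finset.range K, f ^ k • d k + f ^ K • tev h fun n => d (n + K) := by
  induction K with
  | zero => simp
  | succ K ih =>
    rw [ih, tev_rec h (fun n => d (n + K)), Finset.sum_range_succ, smul_add, pow_succ, mul_smul]
    simp only [zero_add, add_assoc, add_comm 1 K]

lemma eq_zero_of_div {f : A} (h : TBij M f) (x : ℕ → M) (hx : ∀ n, x n = f • x (n + 1)) (n : ℕ) : x n = 0 :=
  congrFun (h.1 (a₁ := x) (a₂ := 0) (funext fun n => by simpa [sub_eq_zero] using hx n)) n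

lemma TBij.ker {f : A} (hM : TBij M f) (hN : TBij N f) (u : M →ₗ[A] N) : TBij (LinearMap.ker u) f := by
  refine ⟨fun x y hxy => funext fun n => Subtype.ext ?_, fun d => ?_⟩
  · exact congrFun (hM.1 (a₁ := fun n => (x n).1) (a₂ := fun n => (y n).1)
      (funext fun n => by simpa using congrArg Subtype.val (congrFun hxy n))) n
  · obtain ⟨x, hx⟩ := hM.2 fun n => (d n).1
    have hu : ∀ n, u (x n) = 0 := fun n => eq_zero_of_div hN (fun n => u (x n)) (fun n => by
      have := congrArg u (congrFun hx n)
      simpa [sub_eq_zero] using this) n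
    exact ⟨fun n => ⟨x n, hu n⟩, funext fun n => Subtype.ext (by simpa using congrFun hx n)⟩

lemma TBij.coker {f : A} (hM : TBij M f) (hN : TBij N f) (u : M →ₗ[A] N) :
    TBij (N ⧸ LinearMap.range u) f := by
  refine ⟨fun x y hxy => funext fun n => ?_, fun d => ?_⟩
  · rw [← sub_eq_zero]
    choose z hz using fun n => Submodule.Quotient.mk_surjective _ (x n - y n)
    have h1 : ∀ n, z n - f • z (n + 1) ∈ LinearMap.range u := fun n => by
      rw [← Submodule.Quotient.mk_eq_zero, Submodule.Quotient.mk_sub, Submodule.Quotient.mk_smul, hz, hz, smul_sub]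
      have := congrFun hxy n
      simp only [tele_apply] at this
      linear_combination (norm := abel) this
    choose w hw using h1
    obtain ⟨v, hv⟩ := hM.2 w
    have h2 : (fun n => u (v n)) = z := hN.1 (funext fun n => by
      simpa [← hw] using congrArg u (congrFun hv n))
    rw [← hz, ← h2, Submodule.Quotient.mk_eq_zero]
    exact ⟨_, rfl⟩
  · choose e he using fun n => Submodule.Quotient.mk_surjective _ (d n)
    obtain ⟨x, hx⟩ := hN.2 e
    exact ⟨fun n => Submodule.Quotient.mk (x n), funext fun n => by
      rw [← he, ← congrFun hx n]; simp [Submodule.Quotient.mk_smul]⟩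

lemma TBij.extension {f : A} (M₁ : Submodule A M) (h1 : TBij M₁ f) (h3 : TBij (M ⧸ M₁) f) : TBij M f := by
  refine ⟨fun x y hxy => funext fun n => ?_, fun d => ?_⟩
  · have hz : ∀ n, (x - y) n = f • (x - y) (n + 1) := fun n => by
      have := congrFun hxy n
      simp only [tele_apply] at this
      simp only [Pi.sub_apply, smul_sub]
      linear_combination (norm := abel) this
    have h0 : ∀ n, (x - y) n ∈ M₁ := fun n => by
      rw [← Submodule.Quotient.mk_eq_zero]
      exact eq_zero_of_div h3 (fun n => Submodule.Quotient.mk ((x - y) n)) (fun n => by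
        rw [hz n, Submodule.Quotient.mk_smul]) n
    have := eq_zero_of_div h1 (fun n => ⟨_, h0 n⟩) (fun n => Subtype.ext (hz n)) n
    exact sub_eq_zero.1 (congrArg Subtype.val this)
  · obtain ⟨q, hq⟩ := h3.2 fun n => Submodule.Quotient.mk (d n)
    choose x hx using fun n => Submodule.Quotient.mk_surjective M₁ (q n)
    have h0 : ∀ n, d n - tele M f x n ∈ M₁ := fun n => by
      rw [← Submodule.Quotient.mk_eq_zero, Submodule.Quotient.mk_sub, tele_apply, Submodule.Quotient.mk_sub,
        Submodule.Quotient.mk_smul, hx, hx, ← congrFun hq n]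
      simp
    obtain ⟨y, hy⟩ := h1.2 fun n => ⟨_, h0 n⟩
    refine ⟨fun n => x n + (y n).1, funext fun n => ?_⟩
    have := congrArg Subtype.val (congrFun hy n)
    simp only [tele_apply, smul_add] at this ⊢
    simp only [AddSubgroupClass.coe_sub, SetLike.val_smul] at this
    linear_combination (norm := abel) this

lemma TBij.mul_left {f : A} (h : TBij M f) (a : A) : TBij M (a * f) := by
  refine ⟨fun x y hxy => funext fun n => ?_, fun d => ?_⟩
  · rw [← sub_eq_zero]
    have hz : ∀ n, x n - y n = (a * f) • (x (n + 1) - y (n + 1)) := fun n => by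
      have := congrFun hxy n
      simp only [tele_apply] at this
      rw [smul_sub]
      linear_combination (norm := abel) this
    have := eq_zero_of_div h (fun k => a ^ k • (x (n + k) - y (n + k))) (fun k => by
      simp only [hz (n + k), smul_smul, add_assoc]; ring_nf) 0
    simpa using this
  · refine ⟨fun n => tev h fun k => a ^ k • d (n + k), funext fun n => ?_⟩
    simp only [tele_apply]
    rw [tev_rec h fun k => a ^ k • d (n + k), show (fun k => a ^ (k + 1) • d (n + (k + 1))) =
      a • fun k => a ^ k • d (n + 1 + k) from funext fun k => by simp [smul_smul, pow_succ']; ring_nf,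
      map_smul, smul_smul, mul_comm f a]
    simp

lemma TBij.add {f g : A} (hf : TBij M f) (hg : TBij M g) : TBij M (f + g) := by
  let L : M →ₗ[A] M := g • LinearMap.id
  have hsurj : ∀ e : ℕ → M, ∃ y d : ℕ → M, e = tele M (f + g) y + g • d := by
    intro e
    obtain ⟨y, hy⟩ := hf.2 e
    refine ⟨y, fun n => y (n + 1), funext fun n => ?_⟩
    simp only [← congrFun hy n, Pi.add_apply, Pi.smul_apply, tele_apply, add_smul]
    abel
  choose Y D hYD using hsurj
  refine ⟨fun x y hxy => sub_eq_zero.1 ?_, fun d => ?_⟩
  · have hker : TBij (LinearMap.ker L) f := TBij.ker hf hf L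
    have hco : TBij (M ⧸ LinearMap.range L) f := TBij.coker hf hf L
    have step : ∀ z : ℕ → M, tele M (f + g) z = 0 → ∃ z', tele M (f + g) z' = 0 ∧ z = g • z' := by
      intro z hz
      have hz' : ∀ n, z n - f • z (n + 1) - g • z (n + 1) = 0 := fun n => by
        have := congrFun hz n
        simp only [tele_apply, add_smul, Pi.zero_apply] at this
        linear_combination (norm := abel) this
      have h1 : ∀ n, z n ∈ LinearMap.range L := fun n => by
        rw [← Submodule.Quotient.mk_eq_zero]
        refine eq_zero_of_div hco (fun n => Submodule.Quotient.mk (z n)) (fun n => ?_) n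
        rw [← Submodule.Quotient.mk_smul, Submodule.Quotient.eq]
        exact ⟨z (n + 1), by
          simp only [L, LinearMap.smul_apply, LinearMap.id_apply]
          linear_combination (norm := abel) -(hz' n)⟩
      choose w hw using h1
      have h2 : ∀ n, tele M (f + g) w n ∈ LinearMap.ker L := fun n => by
        have := congrFun hz n
        simp only [tele_apply, Pi.zero_apply, ← hw] at this
        simpa [L, smul_sub, smul_comm g (f + g)] using this
      obtain ⟨v, hv⟩ := hker.2 fun n => ⟨_, h2 n⟩
      refine ⟨fun n => w n - (v n).1, funext fun n => ?_, funext fun n => ?_⟩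
      · have := congrArg Subtype.val (congrFun hv n)
        have hvg : g • (v (n + 1)).1 = 0 := by simpa [L] using (v (n + 1)).2
        simp only [tele_apply, AddSubgroupClass.coe_sub, SetLike.val_smul] at this
        simp only [tele_apply, smul_sub, add_smul, hvg, Pi.zero_apply] at this ⊢
        linear_combination (norm := abel) -this
      · have hvg : g • (v n).1 = 0 := by simpa [L] using (v n).2
        simp [← hw, L, hvg, smul_sub]
    choose S hS1 hS2 using step
    let it : ℕ → {z : ℕ → M // tele M (f + g) z = 0} := fun k =>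
      k.rec ⟨x - y, by rw [map_sub, hxy, sub_self]⟩ fun _ z => ⟨S z.1 z.2, hS1 z.1 z.2⟩
    funext n
    exact eq_zero_of_div hg (fun k => (it k).1 n) (fun k => congrFun (hS2 (it k).1 (it k).2) n) 0
  · let it : ℕ → (ℕ → M) := fun k => k.rec d fun _ e => D e
    refine ⟨fun n => tev hg fun k => Y (it k) n, funext fun n => ?_⟩
    have hk : (fun k => Y (it k) n) - (f + g) • (fun k => Y (it k) (n + 1)) = tele M g fun k => it k n := by
      funext k
      have := congrFun (hYD (it k)) n
      simp only [Pi.sub_apply, Pi.smul_apply, tele_apply, Pi.add_apply, it] at this ⊢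
      linear_combination (norm := abel) -this
    simp only [tele_apply, ← map_smul, ← map_sub]
    rw [hk, tev_tele]
    rfl

/-- the ideal of elements along which `M` is complete -/
def tideal (M : Type v) [AddCommGroup M] [Module A M] : Ideal A where
  carrier := {f | TBij M f}
  add_mem' := TBij.add
  zero_mem' := TBij.zero
  smul_mem' a _ h := h.mul_left a

/-- Nakayama -/
theorem subsingleton_of_smul_top (s : Finset A) :
    ∀ (M : Type v) [AddCommGroup M] [Module A M], (∀ f ∈ s, TBij M f) →
      Ideal.span (s : Set A) • (⊤ : Submodule A M) = ⊤ → Subsingleton M := by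
  classical
  induction s using Finset.induction_on with
  | empty =>
    intro M _ _ _ h
    simp only [Finset.coe_empty, Ideal.span_empty, Submodule.bot_smul] at h
    exact (Submodule.subsingleton_iff A).1 (subsingleton_of_bot_eq_top h)
  | @insert f s hfs ih =>
    intro M _ _ hT h
    let L : M →ₗ[A] M := f • LinearMap.id
    have hf := hT f (Finset.mem_insert_self _ _)
    have : Subsingleton (M ⧸ LinearMap.range L) := by
      refine ih _ (fun g hg => TBij.coker (hT g (Finset.mem_insert_of_mem hg)) (hT g (Finset.mem_insert_of_mem hg)) L) ?_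
      refine eq_top_iff.2 fun q _ => ?_
      obtain ⟨m, rfl⟩ := Submodule.mkQ_surjective _ q
      have hm : m ∈ Ideal.span ((insert f s : Finset A) : Set A) • (⊤ : Submodule A M) := by rw [h]; trivial
      have := Submodule.mem_map_of_mem (f := (LinearMap.range L).mkQ) hm
      rw [Submodule.map_smul'', Finset.coe_insert, Ideal.span_insert, Submodule.sup_smul] at this
      refine SetLike.le_def.1 (sup_le (α := Submodule A _) ?_ (Submodule.smul_mono le_rfl le_top)) this
      refine Submodule.smul_le.2 fun a ha x _ => ?_
      obtain ⟨c, rfl⟩ := Ideal.mem_span_singleton'.1 ha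
      obtain ⟨y, rfl⟩ := Submodule.mkQ_surjective _ x
      rw [mul_smul, ← LinearMap.map_smul _ f y, show (LinearMap.range L).mkQ (f • y) = 0 from
        (Submodule.Quotient.mk_eq_zero _).2 ⟨y, rfl⟩, smul_zero]
      exact Submodule.zero_mem _
    have hdiv : ∀ m : M, ∃ y, f • y = m := fun m => by
      obtain ⟨y, hy⟩ := (Submodule.Quotient.mk_eq_zero _).1
        (Subsingleton.elim (Submodule.Quotient.mk (p := LinearMap.range L) m) 0)
      exact ⟨y, hy⟩
    choose D hD using hdiv
    refine subsingleton_of_forall_eq 0 fun m => ?_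
    exact eq_zero_of_div hf (fun k => D^[k] m) (fun k => by rw [Function.iterate_succ_apply', hD]) 0

/-- adically complete modules are complete along the elements of the ideal -/
theorem TBij.of_isAdicComplete (I : Ideal A) [IsAdicComplete I M] {f : A} (hf : f ∈ I) : TBij M f := by
  have key : ∀ (k : ℕ) (m : M), f ^ k • m ∈ I ^ k • (⊤ : Submodule A M) := fun k m =>
    Submodule.smul_mem_smul (Ideal.pow_mem_pow hf k) trivial
  refine ⟨fun x y hxy => sub_eq_zero.1 (funext fun n => ?_), fun d => ?_⟩
  · refine IsHausdorff.haus (inferInstance : IsHausdorff I M) _ fun k => ?_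
    have : ∀ j, (x - y) n = f ^ j • (x - y) (n + j) := by
      intro j
      induction j with
      | zero => simp
      | succ j ih =>
        rw [ih, pow_succ, mul_smul]
        have h := congrFun hxy (n + j)
        simp only [tele_apply] at h
        congr 1
        simp only [Pi.sub_apply, smul_sub, ← add_assoc]
        linear_combination (norm := abel) h
    rw [SModEq.zero, this k]
    exact key k _
  · let s : ℕ → ℕ → M := fun n K => ∑ k ∈ Finset.range K, f ^ k • d (n + k)
    have hs : ∀ n {a b : ℕ}, a ≤ b → s n a ≡ s n b [SMOD I ^ a • (⊤ : Submodule A M)] := fun n a b hab => by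
      rw [SModEq.comm, SModEq.sub_mem, ← Finset.sum_Ico_eq_sub _ hab]
      refine Submodule.sum_mem _ fun k hk => ?_
      exact Submodule.smul_mono (Ideal.pow_le_pow_right (Finset.mem_Ico.1 hk).1) le_rfl (key k _)
    choose x hx using fun n => IsPrecomplete.prec (inferInstance : IsPrecomplete I M) (hs n)
    refine ⟨x, funext fun n => sub_eq_zero.1 (IsHausdorff.haus (inferInstance : IsHausdorff I M) _ fun k => ?_)⟩
    rw [SModEq.zero]
    have h1 := SModEq.sub_mem.1 (hx n (k + 1))
    have h2 := SModEq.sub_mem.1 (hx (n + 1) k)
    have e : tele M f x n - d n = f • (s (n + 1) k - x (n + 1)) - (s n (k + 1) - x n) := by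
      simp only [tele_apply, s, Finset.sum_range_succ' _ k, smul_sub, Finset.smul_sum, smul_smul, pow_zero,
        one_smul, add_zero, pow_succ', add_assoc, add_comm 1]
      abel
    rw [e]
    exact sub_mem (Submodule.smul_mem _ _ h2) (Submodule.smul_mono (Ideal.pow_le_pow_right (by omega)) le_rfl h1)

end Groth.Agent.DRingKP
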