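import Groth.Agent.DRingKP.DCUniv
import Groth.Agent.DRingKP.DCAlg
import Mathlib.RingTheory.AdicCompletion.AsTensorProduct
import Mathlib.RingTheory.Flat.CategoryTheory
import Mathlib.CategoryTheory.Monoidal.Linear

/-!
The derived completion of a complex with finite cohomology over a Noetherian ring.
-/

set_option autoImplicit false
set_option linter.style.haveILetI false
universe u

namespace Groth.Agent.DRingKP

open CategoryTheory Limits DerivedCategory Pretriangulated MonoidalCategory
open CochainComplex (mappingCone)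
open scoped TensorProduct

attribute [local instance] HasDerivedCategory.standard

variable {A : Type u} [CommRing A] (I : Ideal A)

/-- `M ↦ Â ⊗ M` -/
noncomputable abbrev hatF : ModuleCat.{u} A ⥤ ModuleCat.{u} A := tensorLeft (ModuleCat.of A (AdicCompletion I A))

/-- `M → Â ⊗ M` -/
noncomputable def hatη : 𝟭 (ModuleCat.{u} A) ⟶ hatF I where
  app M := ModuleCat.ofHom (TensorProduct.mk A (AdicCompletion I A) M 1)
  naturality M N g := rfl

instance [IsNoetherianRing A] : (hatF I).PreservesHomology := by
  haveI : Module.Flat A (ModuleCat.of A (AdicCompletion I A)) := AdicCompletion.flat_of_isNoetherian I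
  exact Functor.preservesHomology_of_map_exact _ fun S hS => Module.Flat.lTensor_shortComplex_exact _ S hS

/-- on a complex -/
noncomputable abbrev hatCx (C : DRing.Cx A) : DRing.Cx A := ((hatF I).mapHomologicalComplex (ComplexShape.up ℤ)).obj C

/-- the canonical map on a complex -/
noncomputable def hatι (C : DRing.Cx A) : C ⟶ hatCx I C where
  f i := (hatη I).app (C.X i)
  comm' i j _ := ((hatη I).naturality (C.d i j)).symm

lemma hatι_naturality {C D : DRing.Cx A} (g : C ⟶ D) :
    g ≫ hatι I D = hatι I C ≫ ((hatF I).mapHomologicalComplex (ComplexShape.up ℤ)).map g :=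
  HomologicalComplex.hom_ext _ _ fun i => (hatη I).naturality (g.f i)

/-- the cohomology of the completed complex -/
noncomputable def hatHH [IsNoetherianRing A] (C : DRing.Cx A) (n : ℤ) :
    (hatCx I C).homology n ≅ (hatF I).obj (C.homology n) :=
  (C.sc n).mapHomologyIso (hatF I)

lemma homologyMap_hatι [IsNoetherianRing A] (C : DRing.Cx A) (n : ℤ) :
    HomologicalComplex.homologyMap (hatι I C) n = (hatη I).app (C.homology n) ≫ (hatHH I C n).inv := by
  have h := ShortComplex.homologyMap_mapNatTrans (C.sc n) (hatη I)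
  change ShortComplex.homologyMap ((C.sc n).mapNatTrans (hatη I)) = _
  rw [h]
  have e : ((C.sc n).mapHomologyIso (𝟭 (ModuleCat.{u} A))).hom = 𝟙 _ := by
    rw [ShortComplex.mapHomologyIso, ShortComplex.LeftHomologyData.homologyIso]
    simp
    change ShortComplex.leftHomologyMap' (𝟙 _) _ _ ≫ ShortComplex.leftHomologyMap' (𝟙 _) _ _ = _
    rw [← ShortComplex.leftHomologyMap'_comp, Category.id_comp]
    exact (ShortComplex.LeftHomologyMapData.mk (φ := 𝟙 (C.sc n)) (h₁ := (C.sc n).homologyData.left)
      (h₂ := (C.sc n).homologyData.left.map (𝟭 (ModuleCat.{u} A))) (𝟙 _) (𝟙 _) (Category.id_comp _) (by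
        let h₁ := (C.sc n).homologyData.left
        let h₂ := h₁.map (𝟭 (ModuleCat.{u} A))
        refine (cancel_mono h₂.i).1 ?_
        simp only [Category.comp_id, Category.assoc]
        refine (ShortComplex.LeftHomologyData.f'_i h₁).trans ?_
        erw [ShortComplex.LeftHomologyData.f'_i h₂]
        simp) ((Category.comp_id _).trans (Category.id_comp _).symm)).leftHomologyMap'_eq
  rw [e]
  exact Category.id_comp _

variable [IsNoetherianRing A]

/-- the comparison with the completion -/
noncomputable def hatEquiv (M : ModuleCat.{u} A) [Module.Finite A M] :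
    (hatF I).obj M ≃ₗ[A] AdicCompletion I M :=
  (AdicCompletion.ofTensorProductEquivOfFiniteNoetherian I M).restrictScalars A

lemma hatEquiv_hatη (M : ModuleCat.{u} A) [Module.Finite A M] (x : M) :
    hatEquiv I M ((hatη I).app M x) = AdicCompletion.of I M x := by
  change AdicCompletion.ofTensorProduct I M ((1 : AdicCompletion I A) ⊗ₜ x) = _
  rw [AdicCompletion.ofTensorProduct_tmul, one_smul]

lemma bijective_hatη (M : ModuleCat.{u} A) [Module.Finite A M] {J : Ideal A} {N : ℕ} (hIJ : I ^ N ≤ J)
    (hJ : ∀ r ∈ J, ∀ x : M, r • x = 0) : Function.Bijective ((hatη I).app M) := by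
  have h0 : (I ^ N • ⊤ : Submodule A M) = ⊥ := by
    rw [eq_bot_iff, Submodule.smul_le]
    intro r hr x _
    exact (Submodule.mem_bot A).2 (hJ r (hIJ hr) x)
  haveI : IsHausdorff I M := ⟨fun x hx => by
    have := hx N
    rw [h0, SModEq.bot] at this
    exact this⟩
  haveI : IsPrecomplete I M := ⟨fun f hf => ⟨f N, fun n => by
    rcases le_total n N with h | h
    · exact hf h
    · have := hf h
      rw [h0, SModEq.bot] at this
      rw [this]⟩⟩
  haveI : IsAdicComplete I M := {}
  have hb : Function.Bijective (AdicCompletion.of I M) := AdicCompletion.of_bijective I M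
  refine (Function.Bijective.of_comp_iff' (hatEquiv I M).bijective _).1 ?_
  have e : hatEquiv I M ∘ (hatη I).app M = AdicCompletion.of I M := funext fun x => hatEquiv_hatη I M x
  exact e ▸ hb

/-- the cohomology of the cone of multiplication by `f` -/
lemma cone_smul_homology (f : A) (C : DRing.Cx A) (n : ℤ) (hfin : ∀ i, Module.Finite A (C.homology i)) :
    Module.Finite A ((mappingCone (f • 𝟙 C)).homology n) ∧
      (∀ z : (mappingCone (f • 𝟙 C)).homology n, f • f • z = 0) ∧
      ∀ r r' : A, (∀ x : C.homology n, r • x = 0) → (∀ x : C.homology (n + 1), r' • x = 0) →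
        ∀ z : (mappingCone (f • 𝟙 C)).homology n, r • r' • z = 0 := by
  let T := CochainComplex.mappingCone.triangle (f • 𝟙 C)
  have hT : DerivedCategory.Q.mapTriangle.obj T ∈ distTriang (Dual.D A) :=
    mappingCone_triangle_distinguished _
  let H := DerivedCategory.homologyFunctor (ModuleCat.{u} A) 0
  let e : ∀ (K : DRing.Cx A) (i : ℤ), (H.shift i).obj (DerivedCategory.Q.obj K) ≅ K.homology i := fun K i =>
    (DerivedCategory.homologyFunctorFactors (ModuleCat.{u} A) i).app K
  let S := DerivedCategory.Q.mapTriangle.obj T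
  let α : (H.shift n).obj S.obj₂ →ₗ[A] (H.shift n).obj S.obj₃ := ((H.shift n).map S.mor₂).hom
  let β : (H.shift n).obj S.obj₃ →ₗ[A] (H.shift (n + 1)).obj S.obj₁ :=
    (H.homologySequenceδ S n (n + 1) rfl).hom
  have hαβ : Function.Exact α β :=
    (ShortComplex.ShortExact.moduleCat_exact_iff_function_exact _).1 (H.homologySequence_exact₃ S hT n (n + 1) rfl)
  have hmor : S.mor₁ = f • 𝟙 (DerivedCategory.Q.obj C) := by
    change DerivedCategory.Q.map (f • 𝟙 C) = _
    rw [Functor.map_smul, CategoryTheory.Functor.map_id]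
  have hmap : ∀ i, (H.shift i).map S.mor₁ = f • 𝟙 ((H.shift i).obj (DerivedCategory.Q.obj C)) := fun i => by
    have hh : HomologicalComplex.homologyMap (f • 𝟙 C) i = f • 𝟙 (C.homology i) := by
      change ShortComplex.homologyMap ((HomologicalComplex.shortComplexFunctor _ (ComplexShape.up ℤ) i).map (f • 𝟙 C)) = _
      have he : (HomologicalComplex.shortComplexFunctor _ (ComplexShape.up ℤ) i).map (f • 𝟙 C) =
          f • 𝟙 ((HomologicalComplex.shortComplexFunctor _ (ComplexShape.up ℤ) i).obj C) := by
        ext <;> rfl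
      rw [he, ShortComplex.homologyMap_smul, ShortComplex.homologyMap_id]
      rfl
    have hn := (DerivedCategory.homologyFunctorFactors (ModuleCat.{u} A) i).hom.naturality (f • 𝟙 C)
    change (DerivedCategory.homologyFunctor (ModuleCat.{u} A) i).map (DerivedCategory.Q.map (f • 𝟙 C)) ≫ (e C i).hom =
      (e C i).hom ≫ HomologicalComplex.homologyMap (f • 𝟙 C) i at hn
    rw [hh, Linear.comp_smul, Category.comp_id] at hn
    change (DerivedCategory.homologyFunctor (ModuleCat.{u} A) i).map (DerivedCategory.Q.map (f • 𝟙 C)) = _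
    refine (cancel_mono (e C i).hom).1 (hn.trans ?_)
    exact ((Linear.smul_comp _ _ _ f (𝟙 _) (e C i).hom).trans (congrArg (f • ·) (Category.id_comp (e C i).hom))).symm
  have hαf : ∀ x, α (f • x) = 0 := by
    intro x
    have h := H.homologySequence_comp S hT n
    rw [hmap] at h
    exact LinearMap.congr_fun (congrArg ModuleCat.Hom.hom h) x
  have hβf : ∀ z, f • β z = 0 := by
    intro z
    have h := H.homologySequenceδ_comp S hT n (n + 1) rfl
    rw [hmap] at h
    exact LinearMap.congr_fun (congrArg ModuleCat.Hom.hom h) z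
  let e₂ : (H.shift n).obj S.obj₂ ≃ₗ[A] C.homology n := (e C n).toLinearEquiv
  let e₁ : (H.shift (n + 1)).obj S.obj₁ ≃ₗ[A] C.homology (n + 1) := (e C (n + 1)).toLinearEquiv
  let e₃ : (H.shift n).obj S.obj₃ ≃ₗ[A] (mappingCone (f • 𝟙 C)).homology n :=
    (e (mappingCone (f • 𝟙 C)) n).toLinearEquiv
  have key : ∀ r r' : A, (∀ x, α (r • x) = 0) → (∀ z, r' • β z = 0) → ∀ z : (H.shift n).obj S.obj₃, r • r' • z = 0 := by
    intro r r' hr hr' z
    obtain ⟨x, hx⟩ := (hαβ (r' • z)).1 (by rw [map_smul]; exact hr' z)
    rw [← hx, ← map_smul]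
    exact hr x
  refine ⟨?_, fun z => ?_, fun r r' hr hr' z => ?_⟩
  · haveI : Module.Finite A ((H.shift n).obj S.obj₂) := haveI := hfin n; Module.Finite.equiv e₂.symm
    haveI : Module.Finite A ((H.shift (n + 1)).obj S.obj₁) := haveI := hfin (n + 1); Module.Finite.equiv e₁.symm
    haveI : IsNoetherian A ((H.shift n).obj S.obj₂) := inferInstance
    haveI : IsNoetherian A ((H.shift (n + 1)).obj S.obj₁) := inferInstance
    haveI : IsNoetherian A ((H.shift n).obj S.obj₃) := isNoetherian_of_range_eq_ker α β (LinearMap.exact_iff.1 hαβ).symm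
    exact Module.Finite.equiv e₃
  · apply e₃.symm.injective
    rw [map_smul, map_smul, map_zero]
    exact key f f hαf hβf _
  · apply e₃.symm.injective
    rw [map_smul, map_smul, map_zero]
    refine key r r' (fun x => ?_) (fun z => ?_) _
    · have : r • x = 0 := e₂.injective (by rw [map_smul, map_zero]; exact hr _)
      rw [this, map_zero]
    · exact e₁.injective (by rw [map_smul, map_zero]; exact hr' _)

/-- `C → Ĉ` is universal among maps to complexes complete along `s` -/
theorem univ_hatι : ∀ (s : List A) (C : DRing.Cx A) (J : Ideal A), (∀ i, Module.Finite A (C.homology i)) →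
    (∀ r ∈ J, ∀ (i : ℤ) (x : C.homology i), r • x = 0) → I ≤ (J ⊔ Ideal.span {x | x ∈ s}).radical →
    Univ s (DerivedCategory.Q.map (hatι I C)) := by
  intro s
  induction s with
  | nil =>
    intro C J hfin hJ hI
    simp only [List.not_mem_nil, Set.setOf_false, Ideal.span_empty, sup_bot_eq] at hI
    obtain ⟨N, hN⟩ := Ideal.exists_pow_le_of_le_radical_of_fg hI (IsNoetherian.noetherian I)
    haveI : QuasiIso (hatι I C) := by
      rw [quasiIso_iff]
      intro n
      rw [quasiIsoAt_iff_isIso_homologyMap, homologyMap_hatι]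
      haveI := hfin n
      haveI : IsIso ((hatη I).app (C.homology n)) :=
        (ConcreteCategory.isIso_iff_bijective _).2 (bijective_hatη I _ hN fun r hr x => hJ r hr n x)
      infer_instance
    exact Univ.of_isIso _ _
  | cons f s ih =>
    intro C J hfin hJ hI
    let C' := mappingCone (f • 𝟙 C)
    have hC' := fun n => cone_smul_homology f C n hfin
    have hFf : ((hatF I).mapHomologicalComplex (ComplexShape.up ℤ)).map (f • 𝟙 C) = f • 𝟙 (hatCx I C) := by
      refine HomologicalComplex.hom_ext _ _ fun i => ?_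
      change (hatF I).map (f • 𝟙 (C.X i)) = f • 𝟙 ((hatF I).obj (C.X i))
      rw [Functor.map_smul, CategoryTheory.Functor.map_id]
    have h' := ih C' (J * J ⊔ Ideal.span {f * f}) (fun n => (hC' n).1) (fun r hr n z => ?_) (hI.trans ?_)
    · refine univ_step f (hatι I C) (f • 𝟙 C) (((hatF I).mapHomologicalComplex (ComplexShape.up ℤ)).map (f • 𝟙 C))
        rfl hFf (hatι_naturality I _) ?_
      have e : hatι I C' ≫ (CochainComplex.mappingCone.mapHomologicalComplexIso (f • 𝟙 C) (hatF I)).hom =
          CochainComplex.mappingCone.map (f • 𝟙 C) (((hatF I).mapHomologicalComplex (ComplexShape.up ℤ)).map (f • 𝟙 C))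
            (hatι I C) (hatι I C) (hatι_naturality I _) := by
        ext n : 1
        simp only [HomologicalComplex.comp_f, CochainComplex.mappingCone.mapHomologicalComplexIso,
          HomologicalComplex.Hom.isoOfComponents_hom_f,
          CochainComplex.mappingCone.mapHomologicalComplexXIso_eq _ _ n (n + 1) rfl]
        rw [CochainComplex.mappingCone.ext_from_iff _ (n + 1) n rfl]
        have n₁ : ∀ {X Y : ModuleCat.{u} A} (g : X ⟶ Y),
            (hatη I).app X ≫ (ModuleCat.of A (AdicCompletion I A) ◁ g) = g ≫ (hatη I).app Y :=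
          fun g => ((hatη I).naturality g).symm
        have n₂ : ∀ {W X Y Z : ModuleCat.{u} A} (k : W ⟶ X) (g : X ⟶ Y) (h : _ ⟶ Z),
            k ≫ (hatη I).app X ≫ (ModuleCat.of A (AdicCompletion I A) ◁ g) ≫ h = (k ≫ g) ≫ (hatη I).app Y ≫ h :=
          fun k g h => (congrArg (k ≫ ·) (((Category.assoc _ _ _).symm.trans (congrArg (· ≫ h) (n₁ g))).trans
            (Category.assoc _ _ _))).trans (Category.assoc _ _ _).symm
        constructor
        · simp [C', hatι, CochainComplex.mappingCone.map, Preadditive.comp_add]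
          erw [Preadditive.comp_add, Preadditive.comp_add]
          refine (congrArg₂ (· + ·) (n₂ _ _ _) (n₂ _ _ _)).trans ?_
          simp
          rfl
        · simp [C', hatι, CochainComplex.mappingCone.map, Preadditive.comp_add]
          erw [Preadditive.comp_add, Preadditive.comp_add]
          refine (congrArg₂ (· + ·) (n₂ _ _ _) (n₂ _ _ _)).trans ?_
          simp
          rfl
      rw [← e, Functor.map_comp]
      exact Univ.of_comp_iso (DerivedCategory.Q.mapIso (CochainComplex.mappingCone.mapHomologicalComplexIso (f • 𝟙 C) (hatF I))) h'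
    · obtain ⟨a, ha, b, hb, rfl⟩ := Submodule.mem_sup.1 hr
      obtain ⟨c, rfl⟩ := Ideal.mem_span_singleton.1 hb
      clear hr
      have hz := (hC' n).2.1 z
      rw [add_smul]
      have h1 : a • z = 0 := by
        induction ha using Submodule.mul_induction_on' with
        | mem_mul_mem r hr r' hr' => rw [mul_smul]; exact (hC' n).2.2 r r' (hJ r hr n) (hJ r' hr' (n + 1)) z
        | add x _ y _ hx hy => rw [add_smul, hx, hy, add_zero]
      rw [h1, zero_add, mul_comm (f * f) c, mul_smul, mul_smul, hz, smul_zero]
    · refine Ideal.radical_le_radical_iff.2 (sup_le ?_ (Ideal.span_le.2 fun x hx => ?_))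
      · exact fun r hr => ⟨2, Ideal.mem_sup_left (Ideal.mem_sup_left (by rw [sq]; exact Ideal.mul_mem_mul hr hr))⟩
      · rcases List.mem_cons.1 hx with rfl | hx
        · exact ⟨2, Ideal.mem_sup_left (Ideal.mem_sup_right (by rw [sq]; exact Ideal.mem_span_singleton_self _))⟩
        · exact Ideal.le_radical (Ideal.mem_sup_right (Ideal.subset_span hx))

/-- the cohomology of the completed complex is complete -/
lemma cAlong_hatCx (C : DRing.Cx A) (hfin : ∀ i, Module.Finite A (C.homology i)) {f : A} (hf : f ∈ I) :
    CAlong f (DerivedCategory.Q.obj (hatCx I C)) := fun n => by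
  haveI := hfin n
  let e := (((DerivedCategory.homologyFunctorFactors (ModuleCat.{u} A) n).app (hatCx I C)) ≪≫ hatHH I C n).toLinearEquiv
  haveI : IsAdicComplete I (AdicCompletion I (C.homology n)) :=
    AdicCompletion.isAdicComplete (IsNoetherian.noetherian I)
  exact (TBij.of_isAdicComplete I hf).of_equiv (e.trans (hatEquiv I (C.homology n))).symm

/-- the derived completion of an object with finite cohomology -/
theorem exists_completion_HD [DRing.HasDerivedCompletion I] (K : Dual.D A)
    (hK : ∀ n : ℤ, Module.Finite A (Dual.HD A K n)) (n : ℤ) :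
    ∃ e : Dual.HD A ((DRing.derivedCompletion I).obj K).obj n ≃ₗ[A] AdicCompletion I (Dual.HD A K n),
      ∀ x : Dual.HD A K n,
        e (((DerivedCategory.homologyFunctor (ModuleCat.{u} A) n).map (DRing.toDerivedCompletion I K)).hom x) =
          AdicCompletion.of I (Dual.HD A K n) x := by
  let C := DerivedCategory.Q.objPreimage K
  let eC : DerivedCategory.Q.obj C ≅ K := DerivedCategory.Q.objObjPreimageIso K
  let H := fun i => DerivedCategory.homologyFunctor (ModuleCat.{u} A) i
  let d : ∀ i, C.homology i ≅ (H i).obj K := fun i =>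
    ((DerivedCategory.homologyFunctorFactors (ModuleCat.{u} A) i).app C).symm ≪≫ (H i).mapIso eC
  have hfin : ∀ i, Module.Finite A (C.homology i) := fun i => by
    haveI := hK i
    exact Module.Finite.equiv (d i).toLinearEquiv.symm
  obtain ⟨s, hs⟩ := IsNoetherian.noetherian I
  have hs' : Ideal.span {x | x ∈ s.toList} = I := by simpa using hs
  let L := DerivedCategory.Q.obj (hatCx I C)
  have hL : DRing.IsDerivedComplete I L := (isDerivedComplete_span_iff _ I hs' L).2 fun f hf =>
    cAlong_hatCx I C hfin (hs' ▸ Ideal.subset_span hf)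
  have hU := univ_hatι I s.toList C ⊥ hfin (fun r hr i x => by rw [(Submodule.mem_bot A).1 hr, zero_smul])
    (by rw [bot_sup_eq, hs']; exact Ideal.le_radical)
  let η : K ⟶ L := eC.inv ≫ DerivedCategory.Q.map (hatι I C)
  obtain ⟨v, hv⟩ := exists_iso_completion I η hL fun E hE => by
    have h1 := hU E ((isDerivedComplete_span_iff _ I hs' E).1 hE)
    simp only [η, Category.assoc]
    exact (show Function.Bijective (fun g : DerivedCategory.Q.obj C ⟶ E => eC.inv ≫ g) from
      ⟨fun a b hab => (cancel_epi eC.inv).1 hab, fun g => ⟨eC.hom ≫ g, eC.inv_hom_id_assoc g⟩⟩).comp h1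
  haveI := hfin n
  haveI := hK n
  let a := (((H n).mapIso v).symm ≪≫ ((DerivedCategory.homologyFunctorFactors (ModuleCat.{u} A) n).app (hatCx I C))
    ≪≫ hatHH I C n)
  let b := (hatF I).mapIso (d n)
  refine ⟨(a ≪≫ b).toLinearEquiv.trans (hatEquiv I ((H n).obj K)), fun x => ?_⟩
  have key : (H n).map (DRing.toDerivedCompletion I K) ≫ (a ≪≫ b).hom = (hatη I).app ((H n).obj K) := by
    rw [← hv]
    have hn := (DerivedCategory.homologyFunctorFactors (ModuleCat.{u} A) n).hom.naturality (hatι I C)
    change (H n).map (DerivedCategory.Q.map (hatι I C)) ≫ _ =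
      _ ≫ HomologicalComplex.homologyMap (hatι I C) n at hn
    rw [homologyMap_hatι] at hn
    simp only [a, b, η, Iso.trans_hom, Iso.symm_hom, Functor.mapIso_inv, Functor.mapIso_hom, Category.assoc,
      Functor.map_comp, Iso.app_hom]
    erw [← (H n).map_comp_assoc v.hom v.inv, Iso.hom_inv_id, CategoryTheory.Functor.map_id, Category.id_comp,
      reassoc_of% hn]
    have h1 : (hatHH I C n).inv ≫ (hatHH I C n).hom ≫ (hatF I).map (d n).hom = (hatF I).map (d n).hom :=
      Iso.inv_hom_id_assoc _ _
    erw [h1]
    have h2 : (hatη I).app (C.homology n) ≫ (hatF I).map (d n).hom = (d n).hom ≫ (hatη I).app ((H n).obj K) :=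
      ((hatη I).naturality (d n).hom).symm
    erw [h2]
    refine (Category.assoc _ _ _).symm.trans ?_
    exact (d n).inv_hom_id_assoc _
  have hx := congrArg (fun t => hatEquiv I ((H n).obj K) (t.hom x)) key
  exact hx.trans (hatEquiv_hatη I _ x)

end Groth.Agent.DRingKP
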