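import Groth.Agent.DRingKP.Coherent
import Groth.Agent.DRingKP.FlatBC
import Groth.Agent.DRingKP.Amp
import Groth.Agent.LocH.SpreadPd
import Groth.Agent.SerreReg.Regular
import Mathlib.RingTheory.LocalProperties.ProjectiveDimension

/-!
Perfectness over regular rings.
-/

set_option autoImplicit false
set_option linter.style.haveILetI false
universe u

namespace Groth.Agent.DRingKP

open CategoryTheory Limits DerivedCategory HomologicalComplex

attribute [local instance] HasDerivedCategory.standard

variable {R : Type u} [CommRing R] [IsNoetherianRing R]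

/-- finite modules over regular rings have finite projective dimension -/
theorem exists_projDim (hreg : ∀ p : PrimeSpectrum R, IsRegularLocalRing (Localization.AtPrime p.asIdeal))
    (M : Type u) [AddCommGroup M] [Module R M] [Module.Finite R M] :
    ∃ d : ℕ, HasProjectiveDimensionLT (ModuleCat.of R M) (d + 1) := by
  have hloc : ∀ p : MaximalSpectrum R, ∃ k, ∃ s ∈ p.asIdeal.primeCompl, LocH.pdLT (Submonoid.powers s) M k := by
    intro p
    haveI := hreg ⟨p.asIdeal, p.isMaximal.isPrime⟩
    let L := Localization.AtPrime p.asIdeal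
    haveI : IsRegularLocalRing L := hreg ⟨p.asIdeal, p.isMaximal.isPrime⟩
    obtain ⟨d, hd⟩ : ∃ d : ℕ, ringKrullDim L = d := ⟨_, (IsRegularLocalRing.spanFinrank_maximalIdeal (R := L)).symm⟩
    obtain ⟨s, hs, hsk⟩ := LocH.pdLT_exists (T := p.asIdeal.primeCompl) (d + 1) M
      (SerreReg.pdLE_of_isRegularLocalRing L d hd (LocalizedModule p.asIdeal.primeCompl M))
    exact ⟨d + 1, s, hs, hsk⟩
  choose k s hs hk using hloc
  have htop : Ideal.span (Set.range s) = ⊤ := by
    by_contra h
    obtain ⟨m, hm, hle⟩ := Ideal.exists_le_maximal _ h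
    exact hs ⟨m, hm⟩ (hle (Ideal.subset_span ⟨_, rfl⟩))
  obtain ⟨T, hT, hT1⟩ := Submodule.mem_span_finite_of_mem_span ((Ideal.eq_top_iff_one _).1 htop)
  choose pt hpt using fun t : T => hT t.2
  refine ⟨(Finset.univ : Finset T).sup fun t => k (pt t), ?_⟩
  refine ((ModuleCat.of R M).hasProjectiveDimensionLE_iff_forall_maximalSpectrum _).2 fun q => ?_
  obtain ⟨t, ht⟩ : ∃ t : T, (t : R) ∉ q.asIdeal := by
    by_contra h
    simp only [not_exists, not_not] at h
    exact q.isMaximal.ne_top ((Ideal.eq_top_iff_one _).2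
      (Ideal.span_le.2 (fun x hx => h ⟨x, hx⟩) hT1))
  have h1 : LocH.pdLT q.asIdeal.primeCompl M (k (pt t)) :=
    LocH.pdLT_mono (Submonoid.powers_le.2 (show s (pt t) ∈ q.asIdeal.primeCompl by rw [hpt t]; exact ht))
      _ M (hk (pt t))
  haveI : HasProjectiveDimensionLT
      (ModuleCat.of (Localization q.asIdeal.primeCompl) (LocalizedModule q.asIdeal.primeCompl M))
      (((Finset.univ : Finset T).sup fun t => k (pt t)) + 1) :=
    @hasProjectiveDimensionLT_of_ge _ _ _ _ (k (pt t)) _
      ((Finset.le_sup (f := fun t => k (pt t)) (Finset.mem_univ t)).trans (Nat.le_succ _)) h1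
  exact hasProjectiveDimensionLT_of_iso (LinearEquiv.toModuleIso
    (Shrink.linearEquiv (Localization q.asIdeal.primeCompl) (LocalizedModule q.asIdeal.primeCompl M)).symm) _

theorem isPerfectModule_of_finite (hreg : ∀ p : PrimeSpectrum R, IsRegularLocalRing (Localization.AtPrime p.asIdeal))
    (M : Type u) [AddCommGroup M] [Module R M] [Module.Finite R M] : DRing.IsPerfectModule R M := by
  obtain ⟨d, hd⟩ := exists_projDim hreg M
  refine (isPerfect_iff _).2 ⟨pc'_of_forall fun m => ?_, -(d : ℤ), 0, amp_of_projDim d (ModuleCat.of R M) hd⟩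
  exact pcModule_of_fp isCoh_of_noetherian (ModuleCat.of R M) (Module.finitePresentation_of_finite R M) m

theorem isPerfectModule_iff_finite (hreg : ∀ p : PrimeSpectrum R, IsRegularLocalRing (Localization.AtPrime p.asIdeal))
    (M : Type u) [AddCommGroup M] [Module R M] : DRing.IsPerfectModule R M ↔ Module.Finite R M :=
  ⟨fun h => (pcModule_zero_iff (ModuleCat.of R M)).1 (pc_of_pc' (pc'_of_isPerfect h) 0),
    fun _ => isPerfectModule_of_finite hreg M⟩

theorem isPerfect_iff_of_regular (hreg : ∀ p : PrimeSpectrum R, IsRegularLocalRing (Localization.AtPrime p.asIdeal))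
    (K : Dual.D R) :
    DRing.IsPerfect R K ↔
      (∃ a b : ℤ, ∀ i : ℤ, (i < a ∨ b < i) → Subsingleton (Dual.HD R K i)) ∧
        ∀ i : ℤ, Module.Finite R (Dual.HD R K i) := by
  constructor
  · intro h
    have hpc := pc'_of_isPerfect h
    obtain ⟨E, a, b, hE, -, ⟨e⟩⟩ := h
    refine ⟨⟨a, b, fun i hi => ModuleCat.subsingleton_of_isZero
      (((ShortComplex.isZero_homology_of_isZero_X₂ _ (hE i hi)).of_iso
        ((homologyFunctorFactors _ i).app E)).of_iso
        ((DerivedCategory.homologyFunctor (ModuleCat.{u} R) i).mapIso e).symm)⟩, fun i => ?_⟩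
    obtain ⟨n, hn⟩ := pc_bounded (pc_of_pc' hpc 0)
    haveI := (pc'_iff_coherent isCoh_of_noetherian ⟨n, hn⟩).1 hpc i
    infer_instance
  · rintro ⟨⟨a, b, hz⟩, hfin⟩
    refine isPerfect_of_homology K a b (fun i hi => ?_) fun i => ?_
    · haveI := hz i hi
      exact @ModuleCat.isZero_of_subsingleton _ _ ((DerivedCategory.homologyFunctor (ModuleCat.{u} R) i).obj K) this
    · haveI := hfin i
      exact isPerfectModule_of_finite hreg ((DerivedCategory.homologyFunctor (ModuleCat.{u} R) i).obj K)

end Groth.Agent.DRingKP
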