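import Groth.Agent.DRingKP.Amp
import Groth.Agent.DRingKP.Tor
import Mathlib.Algebra.Homology.Embedding.Restriction

/-!
Perfect modules and finite projective resolutions.
-/

set_option autoImplicit false
set_option linter.style.haveILetI false
universe u

namespace Groth.Agent.DRingKP

open CategoryTheory Limits DerivedCategory HomologicalComplex

attribute [local instance] HasDerivedCategory.standard

variable {A : Type u} [CommRing A]

theorem isPerfectModule_iff (M : Type u) [AddCommGroup M] [Module A M] :
    DRing.IsPerfectModule A M ↔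
      ∃ (P : ProjectiveResolution (ModuleCat.of A M)) (d : ℕ),
        (∀ i : ℕ, d < i → IsZero (P.complex.X i)) ∧ ∀ i : ℕ, Module.Finite A (P.complex.X i) := by
  constructor
  · intro h
    obtain ⟨a, b, hab⟩ := finiteTor_of_isPerfect h
    obtain ⟨d, hd⟩ : ∃ d : ℕ, -(d : ℤ) ≤ a := ⟨(-a).toNat, by lia⟩
    have hamp : DRing.HasTorAmplitudeIn A (-(d : ℤ)) 0 (Dual.inD A M) :=
      amp_shrink (amp_widen hd le_rfl hab) (isAbove_single (ModuleCat.of A M) 0)
    obtain ⟨E, hE, hEp, ⟨e⟩⟩ := exists_finiteProjective_rep (pc'_of_isPerfect h) hamp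
    have hHi : ∀ i : ℤ, i ≠ 0 → IsZero (E.homology i) := fun i hi =>
      (((DerivedCategory.homologyFunctor (ModuleCat.{u} A) i).mapIso e).isZero_iff.2 (by
        rcases lt_or_gt_of_ne hi with h' | h'
        · exact DerivedCategory.isZero_of_isGE _ 0 i h'
        · exact DerivedCategory.isZero_of_isLE _ 0 i h')).of_iso
        ((homologyFunctorFactors (ModuleCat.{u} A) i).app E).symm
    let R := E.restriction ComplexShape.embeddingDownNat
    have hd0 : E.d 0 1 = 0 := (hE 1 (Or.inr (by lia))).eq_of_tgt _ _
    let eM : E.opcycles 0 ≅ ModuleCat.of A M := (E.isoHomologyι 0 1 (by simp) hd0).symm ≪≫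
      ((homologyFunctorFactors (ModuleCat.{u} A) 0).app E).symm ≪≫
      (DerivedCategory.homologyFunctor (ModuleCat.{u} A) 0).mapIso e ≪≫ hdInD (ModuleCat.of A M)
    let g : R.X 0 ⟶ ModuleCat.of A M := E.pOpcycles 0 ≫ eM.hom
    have hw : R.d 1 0 ≫ g = 0 := by
      change E.d (-1) 0 ≫ E.pOpcycles 0 ≫ eM.hom = 0
      rw [E.d_pOpcycles_assoc, zero_comp]
    have hproj : ∀ n, Projective (R.X n) := fun n => projective_X hEp _
    let π := (ChainComplex.toSingle₀Equiv R (ModuleCat.of A M)).symm ⟨g, hw⟩
    have hq : ∀ n, QuasiIsoAt π n := by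
      intro n
      cases n with
      | zero =>
        rw [ChainComplex.quasiIsoAt₀_iff, ShortComplex.quasiIso_iff_of_zeros']
        · let S₀ := ShortComplex.mk (E.d (-1) 0) (E.pOpcycles 0) (E.d_pOpcycles (-1) 0)
          let S := ShortComplex.mk (E.d (-1) 0) (E.pOpcycles 0 ≫ eM.hom)
            (by rw [E.d_pOpcycles_assoc, zero_comp])
          let eS : S₀ ≅ S := ShortComplex.isoMk (Iso.refl _) (Iso.refl _) eM (by simp [S₀, S]) (by simp [S₀, S])
          have hex : S.Exact := (ShortComplex.exact_iff_of_iso eS).1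
              (ShortComplex.exact_of_g_is_cokernel
                (ShortComplex.mk (E.d (-1) 0) (E.pOpcycles 0) (E.d_pOpcycles _ _))
                (E.opcyclesIsCokernel (-1) 0 (by simp)))
          refine ⟨?_, ?_⟩
          · exact hex
          · exact inferInstanceAs (Epi (E.pOpcycles 0 ≫ eM.hom))
        · exact R.shape 0 0 (by simp)
        · exact HomologicalComplex.single_obj_d (ComplexShape.down ℕ) 0 (ModuleCat.of A M) _ _
        · exact HomologicalComplex.single_obj_d (ComplexShape.down ℕ) 0 (ModuleCat.of A M) _ _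
      | succ n =>
        rw [quasiIsoAt_iff_isIso_homologyMap]
        have h1 : IsZero (((ChainComplex.single₀ (ModuleCat.{u} A)).obj (ModuleCat.of A M)).homology (n + 1)) :=
          ShortComplex.isZero_homology_of_isZero_X₂ _
            (HomologicalComplex.isZero_single_obj_X (ComplexShape.down ℕ) 0 (ModuleCat.of A M) (n + 1) (Nat.succ_ne_zero n))
        have h2 : IsZero (R.homology (n + 1)) := by
          refine IsZero.of_iso ?_ (R.homologyIsoSc' (n + 2) (n + 1) n (by simp) (by simp))
          exact (hHi (-((n + 1 : ℕ) : ℤ)) (by lia)).of_iso (E.homologyIsoSc' _ _ _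
            (by simp [ComplexShape.embeddingDownNat]; lia) (by simp [ComplexShape.embeddingDownNat])).symm
        exact ⟨0, h2.eq_of_src _ _, h1.eq_of_src _ _⟩
    exact ⟨{ complex := R, projective := hproj, π := π, quasiIso := ⟨hq⟩ }, d,
      fun i hi => hE _ (Or.inl (by simp [ComplexShape.embeddingDownNat]; lia)),
      fun i => (hEp _).1⟩
  · rintro ⟨P, d, hz, hf⟩
    refine ⟨P.cochainComplex, -(d : ℤ), 0, fun i hi => ?_, fun i => ?_,
      ⟨asIso (DerivedCategory.Q.map (resToSingle P)) ≪≫
        ((DerivedCategory.singleFunctorIsoCompQ (ModuleCat.{u} A) 0).app (ModuleCat.of A M)).symm⟩⟩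
    · rcases hi with hi | hi
      · exact (hz (-i).toNat (by lia)).of_iso (P.cochainComplexXIso i (-i).toNat (by lia))
      · exact (CochainComplex.isStrictlyLE_iff P.cochainComplex 0).1 inferInstance i hi
    · have hp : Projective (P.cochainComplex.X i) := inferInstance
      refine ⟨?_, (IsProjective.iff_projective (P.cochainComplex.X i)).2 hp⟩
      by_cases hi : i ≤ 0
      · haveI := hf (-i).toNat
        exact Module.Finite.equiv (P.cochainComplexXIso i (-i).toNat (by lia)).toLinearEquiv.symm
      · exact (finiteFree_of_isZero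
          ((CochainComplex.isStrictlyLE_iff P.cochainComplex 0).1 inferInstance i (by lia))).1

end Groth.Agent.DRingKP
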