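import Groth.Agent.DRingKP.TorMore
import Groth.Agent.DRingKP.PerfMod
import Mathlib.CategoryTheory.Abelian.Projective.Dimension

/-!
# Perfect modules have finite projective dimension
-/

set_option autoImplicit false
set_option linter.style.haveILetI false
universe u

namespace Groth.Agent.DRingKP

open CategoryTheory Limits DerivedCategory HomologicalComplex

attribute [local instance] HasDerivedCategory.standard

variable {A : Type u} [CommRing A]

theorem exists_pd_of_isPerfectModule (M : Type u) [AddCommGroup M] [Module A M]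
    (h : DRing.IsPerfectModule A M) :
    ∃ d : ℕ, HasProjectiveDimensionLT (ModuleCat.of A M) (d + 1) := by
  obtain ⟨E, a, b, hE, hEp, ⟨e⟩⟩ := h
  obtain ⟨d, hd⟩ : ∃ d : ℕ, -(d : ℤ) ≤ a := ⟨(-a).toNat, by lia⟩
  refine ⟨d, HasProjectiveDimensionLT.mk (fun i hi Y x => ?_)⟩
  have hY : IsAbove a (((DerivedCategory.singleFunctor (ModuleCat.{u} A) 0).obj Y)⟦(i : ℤ)⟧) :=
    isAbove_mono (by lia) (isAbove_shift (isAbove_single Y 0) (i : ℤ))
  have := subsingleton_hom hE (fun j => (hEp j).2) e hY
  exact (Abelian.Ext.homEquiv (C := ModuleCat.{u} A)).injective (Subsingleton.elim _ _)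

end Groth.Agent.DRingKP
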