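import Groth.Agent.DRingKP.Pseudo
import Mathlib.Algebra.Module.FinitePresentation
import Mathlib.Algebra.Homology.ShortComplex.ModuleCat

/-!
Finiteness of the top cohomology of a pseudo-coherent object.
-/

set_option autoImplicit false
set_option linter.style.haveILetI false
universe u

namespace Groth.Agent.DRingKP

open CategoryTheory Limits DerivedCategory

attribute [local instance] HasDerivedCategory.standard

variable {A : Type u} [CommRing A]

local notation "HH" => DerivedCategory.homologyFunctor (ModuleCat _)

/-- cycles of a bounded above exact complex of finite projectives are finite projective -/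
lemma cycles_finiteProjective {E : DRing.Cx A} (m b : ℤ) (hb : DRing.VanishesAbove E b)
    (hE : DRing.TermwiseFiniteProjective E) (hex : ∀ i, m < i → IsZero (E.homology i))
    (i : ℤ) (hi : m ≤ i) :
    Module.Finite A (LinearMap.ker (E.d i (i + 1)).hom) ∧
      Module.Projective A (LinearMap.ker (E.d i (i + 1)).hom) := by
  suffices H : ∀ (k : ℕ) (i : ℤ), m ≤ i → b < i + k →
      Module.Finite A (LinearMap.ker (E.d i (i + 1)).hom) ∧
        Module.Projective A (LinearMap.ker (E.d i (i + 1)).hom) from
    H (b + 1 - i).toNat i hi (by lia)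
  intro k
  induction k with
  | zero =>
    intro i _ hi
    haveI : Subsingleton (E.X i) := ModuleCat.subsingleton_of_isZero (hb i (by simpa using hi))
    exact ⟨inferInstance, inferInstance⟩
  | succ k ih =>
    intro i hmi hi
    obtain ⟨hf, hp⟩ := ih (i + 1) (by lia) (by lia)
    have hx : (E.sc' i (i + 1) (i + 1 + 1)).Exact :=
      (E.exactAt_iff' i (i + 1) (i + 1 + 1) (by simp) (by simp)).1
        ((E.exactAt_iff_isZero_homology (i + 1)).2 (hex (i + 1) (by lia)))
    have hker := (ShortComplex.moduleCat_exact_iff_range_eq_ker _).1 hx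
    let Z := LinearMap.ker (E.d (i + 1) (i + 1 + 1)).hom
    let π : E.X i →ₗ[A] Z := (E.d i (i + 1)).hom.codRestrict Z fun x =>
      LinearMap.congr_fun (congrArg ModuleCat.Hom.hom (E.d_comp_d i (i + 1) (i + 1 + 1))) x
    have hπ : Function.Surjective π := by
      rintro ⟨z, hz⟩
      obtain ⟨x, hx⟩ := hker.ge hz
      exact ⟨x, Subtype.ext hx⟩
    haveI : Module.Projective A Z := hp
    obtain ⟨s, hs⟩ := Module.projective_lifting_property π LinearMap.id hπ
    have hπk : LinearMap.ker π = LinearMap.ker (E.d i (i + 1)).hom := LinearMap.ker_codRestrict _ _ _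
    let r : E.X i →ₗ[A] LinearMap.ker π := (LinearMap.id - s ∘ₗ π).codRestrict _ fun x => by
      simp [← LinearMap.comp_apply π s, hs]
    have hr : r ∘ₗ (LinearMap.ker π).subtype = LinearMap.id := by
      ext ⟨x, hx⟩
      simp [r, LinearMap.mem_ker.1 hx]
    haveI := (hE i).1
    haveI := (hE i).2
    rw [← hπk]
    exact ⟨Module.Finite.of_surjective r fun y => ⟨y, LinearMap.congr_fun hr y⟩,
      Module.Projective.of_split _ r hr⟩

/-- the top cohomology of such a complex is finite, resp. finitely presented -/
lemma finite_homology {E : DRing.Cx A} (m b : ℤ) (hb : DRing.VanishesAbove E b)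
    (hE : DRing.TermwiseFiniteProjective E) (hex : ∀ i, m < i → IsZero (E.homology i))
    (i : ℤ) (hi : m ≤ i) : Module.FinitePresentation A (E.homology i) := by
  obtain ⟨hf, hp⟩ := cycles_finiteProjective m b hb hE hex i hi
  let S := E.sc' (i - 1) i (i + 1)
  let e : E.homology i ≅ S.moduleCatLeftHomologyData.H :=
    E.homologyIsoSc' (i - 1) i (i + 1) (by simp) (by simp) ≪≫ S.moduleCatHomologyIso
  haveI : Module.Finite A (LinearMap.ker S.g.hom) := hf
  haveI : Module.Projective A (LinearMap.ker S.g.hom) := hp
  haveI : Module.Finite A S.X₁ := (hE (i - 1)).1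
  haveI := Module.finitePresentation_of_projective A (LinearMap.ker S.g.hom)
  haveI : Module.FinitePresentation A (LinearMap.ker S.g.hom ⧸ LinearMap.range S.moduleCatToCycles) :=
    Module.finitePresentation_of_surjective (Submodule.mkQ _) (Submodule.mkQ_surjective _)
      (by rw [Submodule.ker_mkQ]; exact Submodule.fg_range S.moduleCatToCycles)
  exact Module.FinitePresentation.of_equiv
    (show (LinearMap.ker S.g.hom ⧸ LinearMap.range S.moduleCatToCycles) ≃ₗ[A] E.homology i from
      e.toLinearEquiv.symm)

/-- the top cohomology of a pseudo-coherent object is finite -/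
theorem finite_top {m : ℤ} {K : Dual.D A} (hK : DRing.IsPseudoCoherent A m K)
    (h : IsAbove (m + 1) K) : Module.Finite A ((HH m).obj K) := by
  obtain ⟨E, a, b, α, h1, h2, h3, h4⟩ := pc_iff.1 hK
  have hex : ∀ i, m < i → IsZero (E.homology i) := fun i hi => by
    haveI := h3 i hi
    exact ((h i (by lia)).of_iso (asIso ((HH i).map α))).of_iso ((homologyFunctorFactors _ i).app E).symm
  haveI := finite_homology m b (fun i hi => h1 i (Or.inr hi))
    (termwiseFiniteProjective_of_free h2) hex m le_rfl
  haveI : Module.Finite A ((HomologicalComplex.homologyFunctor (ModuleCat.{u} A) (ComplexShape.up ℤ) m).obj E) :=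
    inferInstanceAs (Module.Finite A (E.homology m))
  let f := ((homologyFunctorFactors (ModuleCat.{u} A) m).app E).inv ≫ (HH m).map α
  haveI : Epi f := by haveI := h4; exact epi_comp _ _
  exact Module.Finite.of_surjective f.hom ((ModuleCat.epi_iff_surjective f).1 inferInstance)

/-- the cohomology just above is finitely presented -/
theorem finitePresentation_top {m : ℤ} {K : Dual.D A} (hK : DRing.IsPseudoCoherent A m K)
    (h : IsAbove (m + 2) K) : Module.FinitePresentation A ((HH (m + 1)).obj K) := by
  obtain ⟨E, a, b, α, h1, h2, h3, -⟩ := pc_iff.1 hK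
  have hex : ∀ i, m + 1 < i → IsZero (E.homology i) := fun i hi => by
    haveI := h3 i (by lia)
    exact ((h i (by lia)).of_iso (asIso ((HH i).map α))).of_iso ((homologyFunctorFactors _ i).app E).symm
  haveI := finite_homology (m + 1) b (fun i hi => h1 i (Or.inr hi))
    (termwiseFiniteProjective_of_free h2) hex (m + 1) le_rfl
  haveI := h3 (m + 1) (by lia)
  haveI : Module.FinitePresentation A
      ((HomologicalComplex.homologyFunctor (ModuleCat.{u} A) (ComplexShape.up ℤ) (m + 1)).obj E) :=
    inferInstanceAs (Module.FinitePresentation A (E.homology (m + 1)))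
  exact Module.FinitePresentation.of_equiv
    (((homologyFunctorFactors (ModuleCat.{u} A) (m + 1)).app E).symm ≪≫
      asIso ((HH (m + 1)).map α)).toLinearEquiv

end Groth.Agent.DRingKP
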