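import Groth.Agent.DRingKP.Derive
import Groth.Agent.PerfLocal.Perfect
import Mathlib.Algebra.Homology.DerivedCategory.ShortExact

/-!
Calculus of pseudo-coherent objects of `D(A)`.
-/

set_option autoImplicit false
set_option linter.style.haveILetI false
universe u

namespace Groth.Agent.DRingKP

open CategoryTheory Limits Pretriangulated DerivedCategory ZeroObject

attribute [local instance] HasDerivedCategory.standard

variable {A : Type u} [CommRing A]

local notation "HH" => DerivedCategory.homologyFunctor (ModuleCat _)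

/-- isomorphism on cohomology above `m`, epimorphism in degree `m` -/
def MIso (m : ℤ) {X Y : Dual.D A} (f : X ⟶ Y) : Prop :=
  (∀ i, m < i → IsIso ((HH i).map f)) ∧ Epi ((HH m).map f)

/-- no cohomology in degrees `≥ n` -/
def IsAbove (n : ℤ) (X : Dual.D A) : Prop := ∀ i, n ≤ i → IsZero ((HH i).obj X)

lemma isAbove_mono {m n : ℤ} (h : m ≤ n) {X : Dual.D A} (hX : IsAbove m X) : IsAbove n X :=
  fun i hi => hX i (h.trans hi)

lemma isAbove_of_iso {n : ℤ} {X Y : Dual.D A} (e : X ≅ Y) (hX : IsAbove n X) : IsAbove n Y :=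
  fun i hi => (hX i hi).of_iso ((HH i).mapIso e.symm)

lemma isAbove_shift {n : ℤ} {X : Dual.D A} (hX : IsAbove n X) (k : ℤ) : IsAbove (n - k) (X⟦k⟧) :=
  fun i hi => (hX (k + i) (by lia)).of_iso (((DerivedCategory.homologyFunctor (ModuleCat.{u} A) 0).shiftIso k i (k + i) rfl).app X)

lemma mIso_mono {m n : ℤ} (h : m ≤ n) {X Y : Dual.D A} {f : X ⟶ Y} (hf : MIso m f) : MIso n f := by
  refine ⟨fun i hi => hf.1 i (h.trans_lt hi), ?_⟩
  obtain rfl | h := h.eq_or_lt
  · exact hf.2
  · haveI := hf.1 n h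
    infer_instance

lemma mIso_comp {m : ℤ} {X Y Z : Dual.D A} {f : X ⟶ Y} {g : Y ⟶ Z} (hf : MIso m f) (hg : MIso m g) :
    MIso m (f ≫ g) := by
  refine ⟨fun i hi => ?_, ?_⟩
  · haveI := hf.1 i hi; haveI := hg.1 i hi
    rw [Functor.map_comp]; infer_instance
  · haveI := hf.2; haveI := hg.2
    rw [Functor.map_comp]; infer_instance

lemma mIso_of_isIso (m : ℤ) {X Y : Dual.D A} (f : X ⟶ Y) [IsIso f] : MIso m f :=
  ⟨fun _ _ => inferInstance, inferInstance⟩

/-- the cone criterion -/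
lemma mIso_iff (m : ℤ) (T : Triangle (Dual.D A)) (hT : T ∈ distTriang (Dual.D A)) :
    MIso m T.mor₁ ↔ IsAbove m T.obj₃ := by
  constructor
  · rintro ⟨h, h'⟩ i hi
    have he : Epi ((HH i).map T.mor₁) := by
      obtain rfl | hi := hi.eq_or_lt
      · exact h'
      · haveI := h i hi; infer_instance
    haveI := h (i + 1) (by lia)
    exact (HomologySequence.exact₃ T hT i (i + 1) rfl).isZero_of_both_zeros
      ((HomologySequence.epi_homologyMap_mor₁_iff T hT i).1 he)
      ((HomologySequence.mono_homologyMap_mor₁_iff T hT i (i + 1) rfl).1 inferInstance)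
  · intro h
    have he : ∀ i, m ≤ i → Epi ((HH i).map T.mor₁) := fun i hi =>
      (HomologySequence.epi_homologyMap_mor₁_iff T hT i).2 ((h i hi).eq_of_tgt _ _)
    refine ⟨fun i hi => ?_, he m le_rfl⟩
    haveI := he i hi.le
    haveI : Mono ((HH i).map T.mor₁) :=
      (HomologySequence.mono_homologyMap_mor₁_iff T hT (i - 1) i (by lia)).2
        ((h (i - 1) (by lia)).eq_of_src _ _)
    exact isIso_of_mono_of_epi _

lemma isZero_of_isZero (i : ℤ) {X : Dual.D A} (h : IsZero X) : IsZero ((HH i).obj X) :=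
  (HH i).map_isZero h

/-- no morphisms from projectives in degrees `≥ c` to objects with no cohomology in degrees `≥ c` -/
lemma hom_eq_zero {E : DRing.Cx A} [E.IsKProjective] (c : ℤ) [E.IsStrictlyGE c] {X : Dual.D A}
    (hX : IsAbove c X) (f : DRing.toD E ⟶ X) : f = 0 := by
  haveI : X.IsLE (c - 1) := (DerivedCategory.isLE_iff X (c - 1)).2 fun i hi => hX i (by lia)
  obtain ⟨K, hK, ⟨e⟩⟩ := DerivedCategory.exists_iso_Q_obj_of_isLE X (c - 1)
  obtain ⟨g, hg⟩ := PerfLocal.exists_lift (f ≫ e.hom)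
  have : g = 0 := by
    ext i : 1
    by_cases hi : i < c
    · exact (E.isZero_of_isStrictlyGE c i hi).eq_of_src _ _
    · exact (K.isZero_of_isStrictlyLE (c - 1) i (by lia)).eq_of_tgt _ _
  rw [← cancel_mono e.hom, ← hg, this, Functor.map_zero, zero_comp]

lemma termwiseFiniteProjective_of_free {E : DRing.Cx A} (h : DRing.TermwiseFiniteFree E) :
    DRing.TermwiseFiniteProjective E := fun i =>
  haveI := (h i).2
  ⟨(h i).1, inferInstance⟩

lemma projective_X {E : DRing.Cx A} (h : DRing.TermwiseFiniteProjective E) (i : ℤ) :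
    CategoryTheory.Projective (E.X i) :=
  haveI := (h i).2
  (IsProjective.iff_projective (E.X i)).1 inferInstance

lemma isKProjective_of_finiteProjective {E : DRing.Cx A} (b : ℤ) (hb : DRing.VanishesAbove E b)
    (h : DRing.TermwiseFiniteProjective E) : E.IsKProjective := by
  haveI := projective_X h
  haveI : E.IsStrictlyLE b := (CochainComplex.isStrictlyLE_iff E b).2 hb
  exact CochainComplex.isKProjective_of_projective E b

/-! ### brutal truncation -/

section Trunc

variable (E : DRing.Cx A) (n : ℤ)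

/-- degrees `≥ n` -/
def geSub (i : ℤ) : Submodule A (E.X i) := if n ≤ i then ⊤ else ⊥

lemma d_mem_geSub (i j : ℤ) (h : i + 1 = j) {x : E.X i} (hx : x ∈ geSub E n i) :
    (E.d i j).hom x ∈ geSub E n j := by
  unfold geSub at hx ⊢
  by_cases hn : n ≤ i
  · rw [if_pos (show n ≤ j by lia)]; trivial
  · rw [if_neg hn, Submodule.mem_bot] at hx
    rw [hx, map_zero]; exact zero_mem _

/-- the brutal truncation -/
noncomputable def σGE : DRing.Cx A :=
  CochainComplex.of (fun i => ModuleCat.of A (geSub E n i))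
    (fun i => ModuleCat.ofHom ((E.d i (i + 1)).hom.restrict fun _ hx => d_mem_geSub E n i (i + 1) rfl hx))
    fun i => by
      ext x
      exact LinearMap.congr_fun (congrArg ModuleCat.Hom.hom (E.d_comp_d i (i + 1) (i + 1 + 1))) x.1

/-- its inclusion -/
noncomputable def σι : σGE E n ⟶ E where
  f i := ModuleCat.ofHom (geSub E n i).subtype
  comm' i j h := by
    obtain rfl : i + 1 = j := h
    simp only [σGE, CochainComplex.of_d]
    rfl

instance mono_σι_f (i : ℤ) : Mono ((σι E n).f i) :=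
  (ModuleCat.mono_iff_injective _).2 (geSub E n i).injective_subtype

instance mono_σι : Mono (σι E n) := HomologicalComplex.mono_of_mono_f _ fun _ => inferInstance

lemma isIso_σι_f (i : ℤ) (h : n ≤ i) : IsIso ((σι E n).f i) := by
  haveI : Epi ((σι E n).f i) := by
    rw [ModuleCat.epi_iff_surjective]
    exact fun x => ⟨⟨x, by rw [geSub, if_pos h]; trivial⟩, rfl⟩
  exact isIso_of_mono_of_epi _

lemma isZero_σGE_X (i : ℤ) (h : i < n) : IsZero ((σGE E n).X i) := by
  haveI : Subsingleton (geSub E n i) := by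
    rw [geSub, if_neg (not_le.2 h)]; infer_instance
  exact ModuleCat.isZero_of_subsingleton (ModuleCat.of A (geSub E n i))

instance isStrictlyGE_σGE : (σGE E n).IsStrictlyGE n :=
  (CochainComplex.isStrictlyGE_iff _ n).2 fun i hi => isZero_σGE_X E n i hi

lemma finiteFree_of_isZero {M : ModuleCat.{u} A} (h : IsZero M) : Module.Finite A M ∧ Module.Free A M :=
  haveI := ModuleCat.subsingleton_of_isZero h
  ⟨inferInstance, inferInstance⟩

lemma σGE_finiteFree (h : DRing.TermwiseFiniteFree E) : DRing.TermwiseFiniteFree (σGE E n) := fun i => by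
  by_cases hi : n ≤ i
  · haveI := isIso_σι_f E n i hi
    have := (h i).1; have := (h i).2
    exact ⟨Module.Finite.equiv (asIso ((σι E n).f i)).toLinearEquiv.symm,
      Module.Free.of_equiv (asIso ((σι E n).f i)).toLinearEquiv.symm⟩
  · exact finiteFree_of_isZero (isZero_σGE_X E n i (not_le.1 hi))

lemma σGE_finiteProjective (h : DRing.TermwiseFiniteProjective E) :
    DRing.TermwiseFiniteProjective (σGE E n) := fun i => by
  by_cases hi : n ≤ i
  · haveI := isIso_σι_f E n i hi
    exact PerfLocal.finiteProjective_of_iso (asIso ((σι E n).f i)).symm (h i)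
  · exact PerfLocal.finiteProjective_of_isZero (isZero_σGE_X E n i (not_le.1 hi))

lemma σGE_vanishesOutside (b : ℤ) (h : DRing.VanishesAbove E b) :
    DRing.VanishesOutside (σGE E n) n b := fun i hi => by
  rcases hi with hi | hi
  · exact isZero_σGE_X E n i hi
  · exact IsZero.of_mono ((σι E n).f i) (h i hi)

/-- the truncation sequence -/
noncomputable def σSeq : ShortComplex (DRing.Cx A) :=
  ShortComplex.mk (σι E n) (cokernel.π (σι E n)) (cokernel.condition _)

lemma σSeq_shortExact : (σSeq E n).ShortExact :=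
  { exact := ShortComplex.exact_cokernel (σι E n)
    mono_f := mono_σι E n
    epi_g := inferInstanceAs (Epi (cokernel.π (σι E n))) }

lemma isZero_σQuot (i : ℤ) (h : n ≤ i) : IsZero ((σSeq E n).X₃.X i) := by
  haveI : Epi ((σι E n).f i) := by
    haveI := isIso_σι_f E n i h; infer_instance
  haveI : Epi ((σSeq E n).g.f i) :=
    ((σSeq_shortExact E n).map_of_exact (HomologicalComplex.eval _ _ i)).epi_g
  refine IsZero.of_epi_eq_zero ((σSeq E n).g.f i) ((cancel_epi ((σι E n).f i)).1 ?_)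
  exact ((congrArg (fun t => HomologicalComplex.Hom.f t i) (σSeq E n).zero).trans rfl).trans comp_zero.symm

lemma isIso_σπ_f (i : ℤ) (h : i < n) : IsIso ((σSeq E n).g.f i) :=
  ((σSeq_shortExact E n).map_of_exact (HomologicalComplex.eval _ _ i)).isIso_g_iff.2
    (isZero_σGE_X E n i h)

lemma mIso_σι : MIso n (DerivedCategory.Q.map (σι E n)) := by
  refine (mIso_iff n (triangleOfSES (σSeq_shortExact E n)) (triangleOfSES_distinguished _)).2 fun i hi => ?_
  exact (ShortComplex.isZero_homology_of_isZero_X₂ _ (isZero_σQuot E n i hi)).of_iso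
    ((homologyFunctorFactors _ i).app (σSeq E n).X₃)

end Trunc

/-! ### pseudo-coherent objects -/

lemma pc_iff {m : ℤ} {K : Dual.D A} :
    DRing.IsPseudoCoherent A m K ↔ ∃ (E : DRing.Cx A) (a b : ℤ) (α : DRing.toD E ⟶ K),
      DRing.VanishesOutside E a b ∧ DRing.TermwiseFiniteFree E ∧ MIso m α := Iff.rfl

lemma pc_of_iso {m : ℤ} {K L : Dual.D A} (e : K ≅ L) (h : DRing.IsPseudoCoherent A m K) :
    DRing.IsPseudoCoherent A m L := by
  obtain ⟨E, a, b, α, h1, h2, h3⟩ := pc_iff.1 h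
  exact pc_iff.2 ⟨E, a, b, α ≫ e.hom, h1, h2, mIso_comp h3 (mIso_of_isIso m e.hom)⟩

lemma pc_mono {m n : ℤ} (hmn : m ≤ n) {K : Dual.D A} (h : DRing.IsPseudoCoherent A m K) :
    DRing.IsPseudoCoherent A n K := by
  obtain ⟨E, a, b, α, h1, h2, h3⟩ := pc_iff.1 h
  exact pc_iff.2 ⟨E, a, b, α, h1, h2, mIso_mono hmn h3⟩

lemma pc_shift {m : ℤ} {K : Dual.D A} (h : DRing.IsPseudoCoherent A m K) (n : ℤ) :
    DRing.IsPseudoCoherent A (m - n) (K⟦n⟧) := by
  obtain ⟨E, a, b, α, h1, h2, h3, h4⟩ := pc_iff.1 h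
  refine pc_iff.2 ⟨E⟦n⟧, a - n, b - n, (DerivedCategory.Q.commShiftIso n).hom.app E ≫ α⟦n⟧',
    fun i hi => h1 (i + n) (by lia), fun i => h2 (i + n),
    mIso_comp (mIso_of_isIso _ _) ⟨fun i hi => ?_, ?_⟩⟩
  · haveI := h3 (n + i) (by lia)
    exact (NatIso.isIso_map_iff ((DerivedCategory.homologyFunctor (ModuleCat.{u} A) 0).shiftIso n i (n + i) rfl) α).2 this
  · let e := (DerivedCategory.homologyFunctor (ModuleCat.{u} A) 0).shiftIso n (m - n) m (by lia)
    exact ((MorphismProperty.epimorphisms (ModuleCat.{u} A)).arrow_mk_iso_iff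
      (Arrow.isoMk (e.app _) (e.app _) (e.hom.naturality α).symm)).2 h4

lemma pc_shift_iff {m : ℤ} {K : Dual.D A} (n : ℤ) :
    DRing.IsPseudoCoherent A (m - n) (K⟦n⟧) ↔ DRing.IsPseudoCoherent A m K := by
  refine ⟨fun h => ?_, fun h => pc_shift h n⟩
  have h' := pc_of_iso ((shiftEquiv (Dual.D A) n).unitIso.app K).symm (pc_shift h (-n))
  rwa [show m - n - -n = m by lia] at h'

/-- a representative concentrated above `m` -/
lemma pc_exists_ge {m : ℤ} {K : Dual.D A} (h : DRing.IsPseudoCoherent A m K) :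
    ∃ (E : DRing.Cx A) (b : ℤ) (α : DRing.toD E ⟶ K),
      DRing.VanishesOutside E m b ∧ DRing.TermwiseFiniteFree E ∧ MIso m α := by
  obtain ⟨E, a, b, α, h1, h2, h3⟩ := pc_iff.1 h
  exact ⟨σGE E m, b, DerivedCategory.Q.map (σι E m) ≫ α,
    σGE_vanishesOutside E m b fun i hi => h1 i (Or.inr hi), σGE_finiteFree E m h2,
    mIso_comp (mIso_σι E m) h3⟩

lemma finiteFree_biprod {M N : ModuleCat.{u} A} (h : Module.Finite A M ∧ Module.Free A M)
    (h' : Module.Finite A N ∧ Module.Free A N) :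
    Module.Finite A (M ⊞ N : ModuleCat.{u} A) ∧ Module.Free A (M ⊞ N : ModuleCat.{u} A) := by
  haveI := h.1; haveI := h.2; haveI := h'.1; haveI := h'.2
  exact ⟨Module.Finite.equiv (ModuleCat.biprodIsoProd M N).toLinearEquiv.symm,
    Module.Free.of_equiv (ModuleCat.biprodIsoProd M N).toLinearEquiv.symm⟩

/-- `K` is `(m+1)`- and `L` is `m`-pseudo-coherent, then so is the cone `m` -/
theorem pc_obj₃ (T : Triangle (Dual.D A)) (hT : T ∈ distTriang (Dual.D A)) (m : ℤ)
    (h₁ : DRing.IsPseudoCoherent A (m + 1) T.obj₁) (h₂ : DRing.IsPseudoCoherent A m T.obj₂) :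
    DRing.IsPseudoCoherent A m T.obj₃ := by
  obtain ⟨E, b, α, hE, hEf, hα⟩ := pc_exists_ge h₁
  obtain ⟨F, a', b', β, hF, hFf, hβ⟩ := pc_iff.1 h₂
  obtain ⟨Cα, u, v, hTα⟩ := Pretriangulated.distinguished_cocone_triangle α
  obtain ⟨Cβ, u', v', hTβ⟩ := Pretriangulated.distinguished_cocone_triangle β
  have hCα : IsAbove (m + 1) Cα := (mIso_iff (m + 1) _ hTα).1 hα
  have hCβ : IsAbove m Cβ := (mIso_iff m _ hTβ).1 hβ
  haveI : E.IsKProjective := isKProjective_of_finiteProjective b (fun i hi => hE i (Or.inr hi))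
    (termwiseFiniteProjective_of_free hEf)
  haveI : E.IsStrictlyGE (m + 1) := (CochainComplex.isStrictlyGE_iff _ _).2 fun i hi => hE i (Or.inl hi)
  obtain ⟨e, he⟩ := Triangle.coyoneda_exact₂ _ hTβ (α ≫ T.mor₁)
    (hom_eq_zero (m + 1) (isAbove_mono (by lia) hCβ) _)
  obtain ⟨g, hg⟩ := PerfLocal.exists_lift e
  let G := CochainComplex.mappingCone g
  have hTg := DerivedCategory.mappingCone_triangle_distinguished g
  obtain ⟨X, p, r, hTX⟩ := Pretriangulated.distinguished_cocone_triangle (α ≫ T.mor₁)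
  obtain ⟨T₁, T₂⟩ := T
  have o₁ := Triangulated.someOctahedron (show DerivedCategory.Q.map g ≫ β = _ from hg ▸ he.symm)
    hTg hTβ hTX
  have o₂ := Triangulated.someOctahedron rfl hTα hT hTX
  have hG : MIso m o₁.m₁ := (mIso_iff m _ o₁.mem).2 hCβ
  have hX : MIso m o₂.m₃ := (mIso_iff m _ (rot_of_distTriang _ o₂.mem)).2
    (by simpa using isAbove_shift hCα 1)
  refine pc_iff.2 ⟨G, min (m + 1 - 1) a', max b b', o₁.m₁ ≫ o₂.m₃, fun i hi => ?_, fun i => ?_,
    mIso_comp hG hX⟩
  · refine IsZero.of_iso ?_ (HomologicalComplex.homotopyCofiber.XIsoBiprod g i (i + 1) rfl)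
    exact biprod_isZero_iff _ _ |>.2 ⟨hE (i + 1) (by lia), hF i (by lia)⟩
  · have h := finiteFree_biprod (hEf (i + 1)) (hFf i)
    haveI := h.1; haveI := h.2
    let e := (HomologicalComplex.homotopyCofiber.XIsoBiprod g i (i + 1) rfl).symm.toLinearEquiv
    exact ⟨Module.Finite.equiv e, Module.Free.of_equiv e⟩

theorem pc_obj₂ (T : Triangle (Dual.D A)) (hT : T ∈ distTriang (Dual.D A)) (m : ℤ)
    (h₁ : DRing.IsPseudoCoherent A m T.obj₁) (h₃ : DRing.IsPseudoCoherent A m T.obj₃) :
    DRing.IsPseudoCoherent A m T.obj₂ := by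
  have h := pc_shift h₃ (-1)
  rw [sub_neg_eq_add] at h
  exact pc_obj₃ T.invRotate (inv_rot_of_distTriang _ hT) m h h₁

theorem pc_obj₁ (T : Triangle (Dual.D A)) (hT : T ∈ distTriang (Dual.D A)) (m : ℤ)
    (h₂ : DRing.IsPseudoCoherent A (m + 1) T.obj₂) (h₃ : DRing.IsPseudoCoherent A m T.obj₃) :
    DRing.IsPseudoCoherent A (m + 1) T.obj₁ := by
  have h := pc_obj₃ T.rotate (rot_of_distTriang _ hT) m h₂ h₃
  rw [← pc_shift_iff (m := m + 1) 1, add_sub_cancel_right]
  exact h

lemma pc_of_isAbove {m : ℤ} {K : Dual.D A} (h : IsAbove m K) : DRing.IsPseudoCoherent A m K := by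
  have hz : IsZero (DRing.toD (0 : DRing.Cx A)) := DerivedCategory.Q.map_isZero (isZero_zero _)
  refine pc_iff.2 ⟨0, 0, 0, 0, fun i _ => (HomologicalComplex.eval _ _ i).map_isZero (isZero_zero _),
    fun i => finiteFree_of_isZero ((HomologicalComplex.eval _ _ i).map_isZero (isZero_zero _)),
    fun i hi => ?_, ?_⟩
  · exact ⟨0, (isZero_of_isZero i hz).eq_of_src _ _, (h i hi.le).eq_of_src _ _⟩
  · exact ⟨fun _ _ _ => (h m le_rfl).eq_of_src _ _⟩

lemma pc_bounded {m : ℤ} {K : Dual.D A} (h : DRing.IsPseudoCoherent A m K) : ∃ n, IsAbove n K := by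
  obtain ⟨E, b, α, hE, -, hα, -⟩ := pc_exists_ge h
  refine ⟨max m b + 1, fun i hi => ?_⟩
  haveI := hα i (by lia)
  exact ((ShortComplex.isZero_homology_of_isZero_X₂ _ (hE i (Or.inr (by lia)))).of_iso
    ((homologyFunctorFactors _ i).app E)).of_iso (asIso ((HH i).map α)).symm

/-- direct summands -/
theorem pc_biprod (m : ℤ) (K L : Dual.D A) [HasBinaryBiproduct K L]
    (h : DRing.IsPseudoCoherent A m (K ⊞ L)) :
    DRing.IsPseudoCoherent A m K ∧ DRing.IsPseudoCoherent A m L := by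
  obtain ⟨n, hn⟩ := pc_bounded h
  suffices H : ∀ d : ℕ, ∀ m', n ≤ m' + d → DRing.IsPseudoCoherent A m' (K ⊞ L) →
      DRing.IsPseudoCoherent A m' K ∧ DRing.IsPseudoCoherent A m' L from
    H (n - m).toNat m (by lia) h
  intro d
  induction d with
  | zero =>
    intro m' hm' _
    have hr : ∀ {Z : Dual.D A} (i : Z ⟶ K ⊞ L) (r : K ⊞ L ⟶ Z), i ≫ r = 𝟙 Z → IsAbove m' Z :=
      fun i r hir j hj => by
        have hz := isAbove_mono (by lia : n ≤ m') hn j hj
        rw [IsZero.iff_id_eq_zero, ← CategoryTheory.Functor.map_id, ← hir, Functor.map_comp, hz.eq_of_tgt ((HH j).map i) 0,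
          zero_comp]
    exact ⟨pc_of_isAbove (hr biprod.inl biprod.fst (by simp)),
      pc_of_isAbove (hr biprod.inr biprod.snd (by simp))⟩
  | succ d ih =>
    intro m' hm' h'
    obtain ⟨hK, hL⟩ := ih (m' + 1) (by lia) (pc_mono (by lia) h')
    haveI := Abelian.hasFiniteBiproducts (C := ModuleCat.{u} A)
    exact ⟨pc_obj₃ (binaryBiproductTriangle L K) (binaryBiproductTriangle_distinguished L K) m' hL
        (pc_of_iso (biprod.braiding K L) h'),
      pc_obj₃ (binaryBiproductTriangle K L) (binaryBiproductTriangle_distinguished K L) m' hK h'⟩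

end Groth.Agent.DRingKP
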