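import Groth.Agent.DRingKP.TorAmp
import Groth.Agent.DRingKP.LTensorCx

/-!
Tor amplitude bounded below: K-flat representatives vanishing below.
-/

set_option autoImplicit false
set_option backward.isDefEq.respectTransparency false
set_option linter.style.haveILetI false
universe u

namespace Groth.Agent.DRingKP

open CategoryTheory Limits DerivedCategory MonoidalCategory HomologicalComplex

attribute [local instance] HasDerivedCategory.standard

variable {A : Type u} [CommRing A]

/-- `M ⊗^L K` through any K-flat representative of `K` -/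
theorem exists_HD_iso {K E : DRing.Cx A} [DRing.HasLTensorCx A K] (hE : IsKFlat E) (e : DRing.toD E ≅ DRing.toD K)
    (M : ModuleCat.{u} A) (i : ℤ) :
    Nonempty ((homologyFunctor (ModuleCat.{u} A) i).obj ((DRing.LTensorCx A K).obj
      (DRing.toD ((CochainComplex.singleFunctor (ModuleCat.{u} A) 0).obj M))) ≅ ((tR M).obj E).homology i) := by
  obtain ⟨G, s, hs, g, hfac⟩ := DerivedCategory.right_fac e.hom
  haveI := hs
  haveI : IsIso (DerivedCategory.Q.map g) := by
    rw [show DerivedCategory.Q.map g = DerivedCategory.Q.map s ≫ e.hom by rw [hfac, IsIso.hom_inv_id_assoc]]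
    infer_instance
  haveI : QuasiIso s := (DerivedCategory.isIso_Q_map_iff_quasiIso _ s).1 hs
  haveI : QuasiIso g := (DerivedCategory.isIso_Q_map_iff_quasiIso _ g).1 inferInstance
  let S : DRing.Cx A := (HomologicalComplex.single (ModuleCat.{u} A) (ComplexShape.up ℤ) 0).obj M
  obtain ⟨P, f, hP, -, hf, -⟩ := exists_kFlat_resolution S
  haveI := hf
  haveI : QuasiIso (s ▷ P) := quasiIso_whiskerRight hP s
  haveI : QuasiIso (g ▷ P) := quasiIso_whiskerRight hP g
  haveI : QuasiIso (f ▷ E) := quasiIso_whiskerRight hE f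
  let e₁ : DRing.toD (G ⊗ P) ≅ DRing.toD (E ⊗ P) := asIso (DerivedCategory.Q.map (s ▷ P))
  let e₂ : DRing.toD (G ⊗ P) ≅ DRing.toD (K ⊗ P) := asIso (DerivedCategory.Q.map (g ▷ P))
  let e₃ : DRing.toD (P ⊗ E) ≅ DRing.toD (S ⊗ E) := asIso (DerivedCategory.Q.map (f ▷ E))
  let eT : DRing.toD P ≅ DRing.toD ((CochainComplex.singleFunctor (ModuleCat.{u} A) 0).obj M) :=
    asIso (DerivedCategory.Q.map f)
  let etot : (DRing.LTensorCx A K).obj (DRing.toD ((CochainComplex.singleFunctor (ModuleCat.{u} A) 0).obj M)) ≅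
      DRing.toD ((tR M).obj E) :=
    (DRing.LTensorCx A K).mapIso eT.symm ≪≫ lTensorCxIso K hP ≪≫
      DerivedCategory.Q.mapIso (KFlat.swapIso (tBraid A) P K) ≪≫ e₂.symm ≪≫ e₁ ≪≫
      DerivedCategory.Q.mapIso (KFlat.swapIso (tBraid A) E P) ≪≫ e₃ ≪≫
      DerivedCategory.Q.mapIso (KFlat.swapIso (tBraid A) S E) ≪≫
      DerivedCategory.Q.mapIso (tensSingleIso E M)
  exact ⟨(homologyFunctor (ModuleCat.{u} A) i).mapIso etot ≪≫ (homologyFunctorFactors _ i).app _⟩

theorem exists_truncGE (a : ℤ) {F : DRing.Cx A} (hK : IsKFlat F) (hF : DRing.TermwiseFlat F)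
    (h : ∀ (M : ModuleCat.{u} A) (i : ℤ), i < a → IsZero (((tR M).obj F).homology i)) :
    ∃ E : DRing.Cx A, IsKFlat E ∧ DRing.TermwiseFlat E ∧ (∀ i : ℤ, i < a → IsZero (E.X i)) ∧
      Nonempty (DRing.toD E ≅ DRing.toD F) := by
  haveI : F.IsGE a := (CochainComplex.isGE_iff F a).2 fun i hi =>
    (HomologicalComplex.exactAt_iff_isZero_homology _ _).2 ((h (𝟙_ (ModuleCat.{u} A)) i hi).of_iso
      ((HomologicalComplex.homologyFunctor _ _ i).mapIso (HomologicalComplex.Hom.isoOfComponents
        (fun n => ρ_ (F.X n)) (fun n m _ => (rightUnitor_naturality (F.d n m)).symm))).symm)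
  haveI : QuasiIso (F.πTruncGE a) := (CochainComplex.quasiIso_πTruncGE_iff F a).2 inferInstance
  let E := F.truncGE a
  let T := F.sc' (a - 1) a (a + 1)
  let eop : E.X a ≅ ModuleCat.of A (F.X a ⧸ LinearMap.range (F.d (a - 1) a).hom) :=
    F.truncGEXIsoOpcycles a ≪≫ F.opcyclesIsoSc' (a - 1) a (a + 1) (by simp) (by simp) ≪≫
      T.moduleCatOpcyclesIso
  have hEf : DRing.TermwiseFlat E := fun i => by
    rcases lt_trichotomy i a with hi | rfl | hi
    · haveI := ModuleCat.subsingleton_of_isZero (E.isZero_of_isStrictlyGE a i hi)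
      infer_instance
    · haveI := flat_coker hF i fun M => h M (i - 1) (by lia)
      exact Module.Flat.of_linearEquiv eop.toLinearEquiv
    · haveI := hF i
      exact Module.Flat.of_linearEquiv (F.truncGEXIso a i hi).toLinearEquiv
  have hπi : ∀ i, a < i → IsIso ((F.πTruncGE a).f i) := fun i hi => by
    obtain ⟨k, rfl⟩ := Int.le.dest hi.le
    have hk : ¬ (ComplexShape.embeddingUpIntGE a).BoundaryGE k := by
      rw [ComplexShape.boundaryGE_embeddingUpIntGE_iff]
      lia
    change IsIso ((HomologicalComplex.πTruncGE F (ComplexShape.embeddingUpIntGE a)).f (a + k))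
    dsimp [HomologicalComplex.πTruncGE]
    rw [(ComplexShape.embeddingUpIntGE a).isIso_liftExtend_f_iff _ _ (show (ComplexShape.embeddingUpIntGE a).f k = a + k by simp)]
    exact F.isIso_restrictionToTruncGE' _ k hk
  haveI : Epi (F.πTruncGE a) :=
    inferInstanceAs (Epi (HomologicalComplex.πTruncGE F (ComplexShape.embeddingUpIntGE a)))
  let Sc : ShortComplex (DRing.Cx A) :=
    ShortComplex.mk (kernel.ι (F.πTruncGE a)) (F.πTruncGE a) (kernel.condition _)
  have hSc : Sc.ShortExact :=
    { exact := ShortComplex.exact_of_f_is_kernel _ (kernelIsKernel _)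
      mono_f := inferInstanceAs (Mono (kernel.ι (F.πTruncGE a)))
      epi_g := inferInstanceAs (Epi (F.πTruncGE a)) }
  have hN : IsKFlat Sc.X₁ := by
    refine isKFlat_of_bounded (b := a) (fun i hi => ?_) (fun i => ?_)
    · have hs := hSc.map_of_exact (HomologicalComplex.eval (ModuleCat.{u} A) (ComplexShape.up ℤ) i)
      have := hs.mono_f
      haveI := hπi i hi
      have hz : (Sc.map (HomologicalComplex.eval (ModuleCat.{u} A) (ComplexShape.up ℤ) i)).f = 0 := by
        rw [← cancel_mono ((F.πTruncGE a).f i), zero_comp]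
        exact (Sc.map (HomologicalComplex.eval (ModuleCat.{u} A) (ComplexShape.up ℤ) i)).zero
      exact IsZero.of_mono_eq_zero _ hz
    · exact (flatObj_iff A _).1 ((KFlat.flatObj_two_out_of_three (tBraid A) (preservesFinite_tB A)
        (fun M => ⟨cov A M, covπ A M, inferInstance, flat_cov A M⟩)
        (hSc.map_of_exact (HomologicalComplex.eval (ModuleCat.{u} A) (ComplexShape.up ℤ) i))
        ((flatObj_iff A _).2 (hEf i))).2 ((flatObj_iff A _).2 (hF i)))
  refine ⟨E, (kFlat_two_out_of_three hSc hEf).1 hN hK, hEf, fun i hi => E.isZero_of_isStrictlyGE a i hi,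
    ⟨(asIso (DerivedCategory.Q.map (F.πTruncGE a))).symm⟩⟩

end Groth.Agent.DRingKP
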