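import Groth.Agent.DRingKP.DCTele
import Groth.Agent.DRingKP.Restrict

/-!
Completeness of complexes: free terms and restriction of scalars.
-/

set_option autoImplicit false
set_option linter.style.haveILetI false
universe u

namespace Groth.Agent.DRingKP

open CategoryTheory Limits DerivedCategory

attribute [local instance] HasDerivedCategory.standard

variable {A : Type u} [CommRing A]

lemma TBij.pi {ι : Type*} {f : A} {M : ι → Type*} [∀ i, AddCommGroup (M i)] [∀ i, Module A (M i)]
    (h : ∀ i, TBij (M i) f) : TBij (∀ i, M i) f := by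
  refine ⟨fun x y hxy => funext fun n => funext fun i => ?_, fun d => ?_⟩
  · exact congrFun ((h i).1 (a₁ := fun n => x n i) (a₂ := fun n => y n i) (funext fun m => congrFun (congrFun hxy m) i)) n
  · choose x hx using fun i => (h i).2 fun n => d n i
    exact ⟨fun n i => x i n, funext fun n => funext fun i => congrFun (hx i) n⟩

lemma TBij.of_finite_free {f : A} (h : TBij A f) (M : Type u) [AddCommGroup M] [Module A M] [Module.Finite A M]
    [Module.Free A M] : TBij M f :=
  (TBij.pi (M := fun _ : Module.Free.ChooseBasisIndex A M => A) fun _ => h).of_equiv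
    (Module.Free.chooseBasis A M).equivFun.symm

/-- completeness of pseudo-coherent objects -/
theorem tBij_HD {f : A} (h : TBij A f) {K : Dual.D A} (hK : DRing.IsPseudoCoherent' A K) (n : ℤ) :
    TBij (Dual.HD A K n) f := by
  obtain ⟨P, b, -, hP, ⟨e⟩⟩ := hK
  have hX : ∀ i, TBij (P.X i) f := fun i => by
    haveI := (hP i).1
    haveI := (hP i).2
    exact h.of_finite_free _
  let S := P.sc' (n - 1) n (n + 1)
  have hS : TBij S.moduleCatLeftHomologyData.H f := by
    have hker : TBij (LinearMap.ker S.g.hom) f := TBij.ker (hX n) (hX (n + 1)) _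
    exact TBij.coker (hX (n - 1)) hker S.moduleCatToCycles
  let i₁ : S.moduleCatLeftHomologyData.H ≅ P.homology n :=
    S.moduleCatHomologyIso.symm ≪≫ (P.homologyIsoSc' (n - 1) n (n + 1) (by simp) (by simp)).symm
  let i₂ : P.homology n ≅ (DerivedCategory.homologyFunctor (ModuleCat.{u} A) n).obj K :=
    ((DerivedCategory.homologyFunctorFactors (ModuleCat.{u} A) n).app P).symm ≪≫
      (DerivedCategory.homologyFunctor (ModuleCat.{u} A) n).mapIso e
  exact hS.of_equiv (i₁ ≪≫ i₂).toLinearEquiv

variable {B : Type u} [CommRing B] (φ : A →+* B)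

lemma tBij_restrictScalars (M : ModuleCat.{u} B) (f : A) :
    TBij ((ModuleCat.restrictScalars.{u} φ).obj M) f ↔ TBij M (φ f) :=
  Iff.rfl

/-- completeness and restriction of scalars -/
theorem tBij_restrict_iff (L : Dual.D B) (n : ℤ) (f : A) :
    TBij (Dual.HD A ((DRing.restrictD φ).obj L) n) f ↔ TBij (Dual.HD B L n) (φ f) := by
  rw [← tBij_restrictScalars φ]
  exact ⟨fun h => h.of_equiv (resHHIso φ L n).toLinearEquiv, fun h => h.of_equiv (resHHIso φ L n).toLinearEquiv.symm⟩

end Groth.Agent.DRingKP
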