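import Groth.Agent.DRingKP.DCMore
import Mathlib.RingTheory.AdicCompletion.Noetherian

/-!
Complete modules with finite reduction over a Noetherian ring.
-/

set_option autoImplicit false
set_option linter.style.haveILetI false

namespace Groth.Agent.DRingKP

universe u v

variable {R : Type u} [CommRing R] {M : Type v} [AddCommGroup M] [Module R M]

/-- evaluation of power series at `f` -/
noncomputable def psEv {f : R} (h : TBij M f) (b : PowerSeries R) : M →ₗ[R] M where
  toFun m := tev h fun n => PowerSeries.coeff n b • m
  map_add' m m' := by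
    rw [← map_add]
    congr 1
    funext n
    exact smul_add _ _ _
  map_smul' r m := by
    rw [RingHom.id_apply, ← map_smul]
    congr 1
    funext n
    exact smul_comm _ _ _

lemma psEv_add {f : R} (h : TBij M f) (b c : PowerSeries R) (m : M) : psEv h (b + c) m = psEv h b m + psEv h c m := by
  simp only [psEv, LinearMap.coe_mk, AddHom.coe_mk, ← map_add]
  congr 1
  funext n
  simp [add_smul]

lemma psEv_C {f : R} (h : TBij M f) (r : R) (m : M) : psEv h (PowerSeries.C r) m = r • m := by
  simp only [psEv, LinearMap.coe_mk, AddHom.coe_mk]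
  rw [tev_rec, show (fun n => PowerSeries.coeff (n + 1) (PowerSeries.C r) • m) = 0 from funext fun n => by simp,
    map_zero]
  simp

lemma psEv_smul {f : R} (h : TBij M f) (r : R) (b : PowerSeries R) (m : M) :
    psEv h (PowerSeries.C r * b) m = r • psEv h b m := by
  simp only [psEv, LinearMap.coe_mk, AddHom.coe_mk, ← map_smul]
  congr 1
  funext n
  simp [PowerSeries.coeff_C_mul, mul_smul]

lemma psEv_X {f : R} (h : TBij M f) (b : PowerSeries R) (m : M) :
    psEv h (PowerSeries.X * b) m = f • psEv h b m := by
  simp only [psEv, LinearMap.coe_mk, AddHom.coe_mk]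
  rw [tev_rec]
  simp [PowerSeries.coeff_succ_X_mul]

lemma eq_psEv {f : R} (h : TBij M f) (g : PowerSeries R → M) (hadd : ∀ b c, g (b + c) = g b + g c)
    (hC : ∀ r b, g (PowerSeries.C r * b) = r • g b) (hX : ∀ b, g (PowerSeries.X * b) = f • g b) (b : PowerSeries R) :
    g b = psEv h b (g 1) := by
  let x : ℕ → M := fun n => g (PowerSeries.mk fun k => PowerSeries.coeff (n + k) b)
  have hx : tele M f x = fun n => PowerSeries.coeff n b • g 1 := funext fun n => by
    have e : (PowerSeries.mk fun k => PowerSeries.coeff (n + k) b) = PowerSeries.C (PowerSeries.coeff n b) * 1 +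
        PowerSeries.X * PowerSeries.mk fun k => PowerSeries.coeff (n + 1 + k) b := by
      refine PowerSeries.ext fun k => ?_
      rcases k with _ | k
      · simp
      · simp [PowerSeries.coeff_succ_X_mul, PowerSeries.coeff_C, add_assoc, add_comm 1 k]
    simp only [tele_apply, x]
    rw [e, hadd, hC, hX, add_sub_cancel_right]
  simp only [psEv, LinearMap.coe_mk, AddHom.coe_mk]
  rw [← hx, tev_tele]
  simp only [x]
  congr 1
  exact PowerSeries.ext fun k => by simp

lemma psEv_mul {f : R} (h : TBij M f) (b c : PowerSeries R) (m : M) :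
    psEv h (b * c) m = psEv h b (psEv h c m) := by
  have := eq_psEv h (fun b => psEv h (b * c) m) (fun b b' => by rw [add_mul, psEv_add])
    (fun r b => by rw [mul_assoc, psEv_smul]) (fun b => by rw [mul_assoc, psEv_X]) b
  rwa [one_mul] at this

/-- the action of power series -/
noncomputable def psModule {f : R} (h : TBij M f) : Module (PowerSeries R) M where
  smul b m := psEv h b m
  one_smul m := by
    change psEv h 1 m = m
    rw [← map_one (PowerSeries.C (R := R)), psEv_C, one_smul]
  mul_smul b c m := psEv_mul h b c m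
  smul_zero b := map_zero (psEv h b)
  smul_add b m m' := map_add (psEv h b) m m'
  add_smul b c m := psEv_add h b c m
  zero_smul m := by
    change psEv h 0 m = 0
    rw [← map_zero (PowerSeries.C (R := R)), psEv_C, zero_smul]

lemma TBij.powerSeries {x : R} (h : TBij R x) : TBij (PowerSeries R) x := by
  refine ⟨fun b c hbc => funext fun n => PowerSeries.ext fun k => ?_, fun d => ?_⟩
  · exact congrFun (h.1 (a₁ := fun n => PowerSeries.coeff k (b n)) (a₂ := fun n => PowerSeries.coeff k (c n))
      (funext fun m => by simpa using congrArg (PowerSeries.coeff k) (congrFun hbc m))) n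
  · choose y hy using fun k => h.2 fun n => PowerSeries.coeff k (d n)
    exact ⟨fun n => PowerSeries.mk fun k => y k n, funext fun n => PowerSeries.ext fun k => by
      simpa using congrFun (hy k) n⟩

lemma isUnit_one_sub {x : R} (h : TBij R x) : IsUnit (1 - x) := by
  obtain ⟨y, hy⟩ := h.2 fun _ => 1
  have hs : (fun n => y (n + 1)) = y := h.1 (funext fun n => by
    rw [show tele R x (fun n => y (n + 1)) n = tele R x y (n + 1) from rfl, congrFun hy n, congrFun hy (n + 1)])
  have h0 := congrFun hy 0
  have h1 : y (0 + 1) = y 0 := congrFun hs 0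
  simp only [tele_apply, h1, smul_eq_mul] at h0
  exact IsUnit.of_mul_eq_one (y 0) (by linear_combination h0)

lemma mem_jacobson {x : R} (h : TBij R x) : x ∈ Ideal.jacobson (⊥ : Ideal R) :=
  Ideal.mem_jacobson_bot.2 fun y => by
    have := isUnit_one_sub (h.mul_left (-y))
    rwa [neg_mul, sub_neg_eq_add, add_comm, mul_comm] at this

/-- a Noetherian complete algebra through which a complete module factors -/
theorem exists_power_series_algebra {A : Type u} [CommRing A] [IsNoetherianRing A] {M : Type v} [AddCommGroup M]
    [Module A M] : ∀ (s : List A), (∀ f ∈ s, TBij M f) →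
    ∃ (R : Type u) (_ : CommRing R) (_ : IsNoetherianRing R) (_ : Algebra A R) (_ : Module R M)
      (_ : IsScalarTower A R M) (t : Finset R),
      (∀ x ∈ t, TBij R x) ∧ (∀ x ∈ t, ∃ f ∈ s, ∀ m : M, x • m = f • m) ∧ ∀ f ∈ s, ∃ x ∈ t, ∀ m : M, x • m = f • m := by
  classical
  intro s
  induction s with
  | nil => intro _; exact ⟨A, inferInstance, inferInstance, inferInstance, inferInstance, inferInstance, ∅, by simp, by simp, by simp⟩
  | cons f s ih =>
    intro hs
    obtain ⟨R, _, _, _, _, _, t, ht, ht', hs'⟩ := ih fun g hg => hs g (List.mem_cons_of_mem _ hg)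
    have hf : TBij M (algebraMap A R f) := by
      have : ⇑(tele (A := R) M (algebraMap A R f)) = ⇑(tele (A := A) M f) := by funext x n; simp
      have h1 := hs f List.mem_cons_self
      simp only [TBij] at h1 ⊢
      rw [this]
      exact h1
    letI : Module (PowerSeries R) M := psModule hf
    have hC : ∀ (r : R) (m : M), (PowerSeries.C r : PowerSeries R) • m = r • m := psEv_C hf
    have hXm : ∀ m : M, (PowerSeries.X : PowerSeries R) • m = f • m := fun m => by
      have := psEv_X hf 1 m
      rw [mul_one] at this
      rw [show (PowerSeries.X : PowerSeries R) • m = psEv hf PowerSeries.X m from rfl, this,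
        show psEv hf 1 m = m from one_smul (PowerSeries R) m, algebraMap_smul]
    refine ⟨PowerSeries R, inferInstance, inferInstance, inferInstance, inferInstance,
      IsScalarTower.of_algebraMap_smul fun a m => ?_, insert PowerSeries.X (t.image PowerSeries.C), ?_, ?_, ?_⟩
    · rw [PowerSeries.algebraMap_apply, hC, algebraMap_smul]
    · intro x hx
      rcases Finset.mem_insert.1 hx with rfl | hx
      · exact TBij.of_isAdicComplete (Ideal.span {PowerSeries.X}) (Ideal.mem_span_singleton_self _)
      · obtain ⟨r, hr, rfl⟩ := Finset.mem_image.1 hx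
        have h1 := (ht r hr).powerSeries
        have : ⇑(tele (A := PowerSeries R) (PowerSeries R) (PowerSeries.C r)) = ⇑(tele (A := R) (PowerSeries R) r) := by
          funext x n; simp [PowerSeries.smul_eq_C_mul]
        simp only [TBij, this]
        exact h1
    · intro x hx
      rcases Finset.mem_insert.1 hx with rfl | hx
      · exact ⟨f, List.mem_cons_self, hXm⟩
      · obtain ⟨r, hr, rfl⟩ := Finset.mem_image.1 hx
        obtain ⟨g, hg, hgm⟩ := ht' r hr
        exact ⟨g, List.mem_cons_of_mem _ hg, fun m => by rw [hC, hgm]⟩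
    · intro g hg
      rcases List.mem_cons.1 hg with rfl | hg
      · exact ⟨_, Finset.mem_insert_self _ _, hXm⟩
      · obtain ⟨r, hr, hrm⟩ := hs' g hg
        exact ⟨_, Finset.mem_insert_of_mem (Finset.mem_image_of_mem _ hr), fun m => by rw [hC, hrm]⟩

lemma TBij.pi_fin {n : ℕ} {x : R} (h : TBij R x) : TBij (Fin n → R) x := by
  refine ⟨fun a b hab => funext fun k => funext fun i => ?_, fun d => ?_⟩
  · exact congrFun (h.1 (a₁ := fun k => a k i) (a₂ := fun k => b k i) (funext fun m => congrFun (congrFun hab m) i)) k
  · choose y hy using fun i => h.2 fun k => d k i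
    exact ⟨fun k i => y i k, funext fun k => funext fun i => congrFun (hy i) k⟩

/-- Hausdorff -/
theorem isHausdorff_of_finite {A : Type u} [CommRing A] [IsNoetherianRing A] (M : Type v) [AddCommGroup M] [Module A M]
    (I : Ideal A) (hc : ∀ f ∈ I, TBij M f) (hf : Module.Finite A (M ⧸ I • (⊤ : Submodule A M))) :
    IsHausdorff I M := by
  classical
  obtain ⟨s, hs⟩ := (IsNoetherian.noetherian I : I.FG)
  have hsI : ∀ f ∈ s.toList, f ∈ I := fun f hf => hs ▸ Submodule.subset_span (Finset.mem_toList.1 hf)
  obtain ⟨R, _, _, _, _, _, t, ht, ht', hs'⟩ := exists_power_series_algebra s.toList fun f hf => hc f (hsI f hf)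
  let J := Ideal.span (t : Set R)
  have hJ : J ≤ Ideal.jacobson ⊥ := Ideal.span_le.2 fun x hx => mem_jacobson (ht x hx)
  have hIJ : ∀ (N : Submodule R M) (m : M), m ∈ I • N.restrictScalars A → m ∈ J • N := by
    intro N m hm
    rw [← hs] at hm
    refine Submodule.smul_induction_on hm (fun a ha y hy => ?_) (fun _ _ => add_mem)
    induction ha using Submodule.span_induction with
    | mem a ha =>
      obtain ⟨x, hx, hxm⟩ := hs' a (Finset.mem_toList.2 ha)
      rw [← hxm y]
      exact Submodule.smul_mem_smul (Ideal.subset_span hx) hy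
    | zero => simp
    | add a b _ _ iha ihb => rw [add_smul]; exact add_mem iha ihb
    | smul r a _ iha => rw [smul_assoc]; exact Submodule.smul_of_tower_mem _ r iha
  obtain ⟨n, g, hg⟩ := Module.Finite.exists_fin' A (M ⧸ I • (⊤ : Submodule A M))
  choose e he using fun i => Submodule.Quotient.mk_surjective _ (g (Pi.single i 1))
  let Φ : (Fin n → R) →ₗ[R] M := Fintype.linearCombination R e
  have hT : ∀ x ∈ t, TBij (M ⧸ LinearMap.range Φ) x := fun x hx => by
    refine TBij.coker (ht x hx).pi_fin ?_ Φ
    obtain ⟨f, hf', hxf⟩ := ht' x hx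
    have : ⇑(tele (A := R) M x) = ⇑(tele (A := A) M f) := by funext y k; simp [hxf]
    simp only [TBij, this]
    exact hc f (hsI f hf')
  have hsur : Subsingleton (M ⧸ LinearMap.range Φ) := by
    refine subsingleton_of_smul_top t _ hT (eq_top_iff.2 fun q _ => ?_)
    obtain ⟨m, rfl⟩ := Submodule.mkQ_surjective _ q
    obtain ⟨a, ha⟩ := hg (Submodule.Quotient.mk m)
    have hm' : Φ (fun i => algebraMap A R (a i)) = ∑ i, a i • e i := by
      simp [Φ, Fintype.linearCombination_apply]
    have hm : m - Φ (fun i => algebraMap A R (a i)) ∈ J • (⊤ : Submodule R M) := by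
      refine hIJ ⊤ _ ?_
      rw [Submodule.restrictScalars_top, ← Submodule.Quotient.eq, hm', ← ha, ← Submodule.mkQ_apply, map_sum]
      simp only [map_smul, Submodule.mkQ_apply, he]
      conv_lhs => rw [pi_eq_sum_univ' a, map_sum]
      simp only [map_smul]
    have h2 := Submodule.mem_map_of_mem (f := (LinearMap.range Φ).mkQ) hm
    rw [map_sub, show (LinearMap.range Φ).mkQ (Φ _) = 0 from (Submodule.Quotient.mk_eq_zero _).2 ⟨_, rfl⟩, sub_zero,
      Submodule.map_smul''] at h2
    exact Submodule.smul_mono le_rfl le_top h2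
  haveI : Module.Finite R M := Module.Finite.of_surjective Φ fun m =>
    (Submodule.Quotient.mk_eq_zero _).1 (Subsingleton.elim (Submodule.Quotient.mk (p := LinearMap.range Φ) m) 0)
  haveI : IsHausdorff J M := IsHausdorff.of_le_jacobson J M hJ
  refine ⟨fun m hm => IsHausdorff.haus ‹IsHausdorff J M› m fun k => ?_⟩
  rw [SModEq.zero]
  have hk : m ∈ I ^ k • (⊤ : Submodule A M) := SModEq.zero.1 (hm k)
  have : ∀ k, I ^ k • (⊤ : Submodule A M) ≤ (J ^ k • (⊤ : Submodule R M)).restrictScalars A := by
    intro k
    induction k with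
    | zero => simp
    | succ k ih =>
      rw [pow_succ', mul_smul]
      intro y hy
      rw [Submodule.restrictScalars_mem, pow_succ', mul_smul]
      exact hIJ _ _ (Submodule.smul_mono le_rfl ih hy)
  exact this k hk

end Groth.Agent.DRingKP
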