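import Groth.Agent.DRingKP.DCAlg

/-!
Consequences of completeness along elements.
-/

set_option autoImplicit false
set_option linter.style.haveILetI false

namespace Groth.Agent.DRingKP

universe u v

variable {A : Type u} [CommRing A] {M : Type v} [AddCommGroup M] [Module A M]

lemma exists_pow_mul {f : A} {M : Type v} [AddCommGroup M] [Module A M] {N : ℕ} {m : M}
    (h : m ∈ Ideal.span {f ^ N} • (⊤ : Submodule A M)) : ∃ y, m = f ^ N • y := by
  rw [Submodule.ideal_span_singleton_smul] at h
  obtain ⟨y, -, rfl⟩ := Submodule.mem_smul_pointwise_iff_exists _ _ _ |>.1 h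
  exact ⟨y, rfl⟩

lemma pow_smul_mem_span {f : A} (N : ℕ) (y : M) : f ^ N • y ∈ Ideal.span {f ^ N} • (⊤ : Submodule A M) :=
  Submodule.smul_mem_smul (Ideal.mem_span_singleton_self _) trivial

/-- `⋂ f^n A` kills `⋂ f^n M` -/
theorem smul_eq_zero_of_iInf {f : A} (h : TBij M f) {a : A} (ha : a ∈ ⨅ n : ℕ, Ideal.span {f ^ n})
    {m : M} (hm : m ∈ ⨅ n : ℕ, Ideal.span {f ^ n} • (⊤ : Submodule A M)) : a • m = 0 := by
  rw [Submodule.mem_iInf] at ha hm
  choose y hy using fun n => exists_pow_mul (hm n)
  choose b hb using fun n => Ideal.mem_span_singleton'.1 (ha n)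
  have hd : ∀ n, a • tele M f y n = 0 := fun n => by
    have : f ^ n • tele M f y n = 0 := by
      rw [tele_apply, smul_sub, smul_smul, ← pow_succ, ← hy, ← hy, sub_self]
    rw [← hb n, mul_smul, this, smul_zero]
  have h0 : a • y = 0 := h.1 (by rw [map_smul, map_zero]; funext n; exact hd n)
  rw [hy 0, pow_zero, one_smul]
  exact congrFun h0 0

/-- a module of `f`-power torsion which is complete along `f` has bounded exponent -/
theorem exists_pow_smul_eq_zero {f : A} (h : TBij M f) (ht : ∀ m : M, ∃ k : ℕ, f ^ k • m = 0) :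
    ∃ L : ℕ, ∀ m : M, f ^ L • m = 0 := by
  classical
  let P : Submodule A M := ⨅ n : ℕ, Ideal.span {f ^ n} • (⊤ : Submodule A M)
  by_cases hL : ∃ L : ℕ, ∀ m, f ^ L • m ∈ P
  · obtain ⟨L, hL⟩ := hL
    refine ⟨L, fun m => ?_⟩
    -- the image of `f ^ L` is complete and divisible
    let u : M →ₗ[A] M := f ^ L • LinearMap.id
    have hk : TBij (LinearMap.ker u) f := TBij.ker h h u
    have hc : TBij (M ⧸ LinearMap.range (LinearMap.ker u).subtype) f := TBij.coker hk h _
    have hc' : TBij (LinearMap.range u) f :=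
      hc.of_equiv ((Submodule.quotEquivOfEq _ _ (Submodule.range_subtype _)).trans u.quotKerEquivRange)
    have hdiv : ∀ r : LinearMap.range u, ∃ r', r = f • r' := by
      rintro ⟨_, z, rfl⟩
      obtain ⟨y, hy⟩ := exists_pow_mul ((Submodule.mem_iInf _).1 (hL z) (L + 1))
      refine ⟨⟨_, y, rfl⟩, Subtype.ext ?_⟩
      simpa [u, smul_smul, pow_succ'] using hy
    choose D hD using hdiv
    have := eq_zero_of_div hc' (fun k => D^[k] ⟨_, m, rfl⟩) (fun k => by
      rw [Function.iterate_succ_apply', ← hD]) 0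
    simpa [u] using congrArg Subtype.val this
  · push Not at hL
    exfalso
    have step : ∀ (j K : ℕ) (s : M), ∃ (K' : ℕ) (c : M), K < K' ∧
        f ^ j • (s + f ^ K • c) ∉ Ideal.span {f ^ K'} • (⊤ : Submodule A M) := by
      intro j K s
      obtain ⟨m, hm⟩ := hL (j + K)
      obtain ⟨c, hc⟩ : ∃ c, f ^ j • (s + f ^ K • c) ∉ P := by
        by_cases hs : f ^ j • s ∈ P
        · refine ⟨m, fun h' => hm ?_⟩
          have := sub_mem h' hs
          rwa [← smul_sub, add_sub_cancel_left, smul_smul, ← pow_add] at this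
        · exact ⟨0, by simpa using hs⟩
      simp only [P, Submodule.mem_iInf, not_forall] at hc
      obtain ⟨K', hK'⟩ := hc
      refine ⟨max K' (K + 1), c, by omega, fun h' => hK' (Submodule.smul_mono ?_ le_rfl h')⟩
      rw [Ideal.span_singleton_le_span_singleton]
      exact pow_dvd_pow f (le_max_left _ _)
    choose K' c hKlt hnot using step
    let st : ℕ → ℕ × M := fun j => j.rec (0, 0) fun j p => (K' j p.1 p.2, p.2 + f ^ p.1 • c j p.1 p.2)
    have hmono : StrictMono fun j => (st j).1 := strictMono_nat_of_lt_succ fun j => hKlt _ _ _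
    let d : ℕ → M := fun k => if hk : ∃ j, (st j).1 = k then
      c hk.choose (st hk.choose).1 (st hk.choose).2 else 0
    have hd : ∀ j, d (st j).1 = c j (st j).1 (st j).2 := fun j => by
      have hk : ∃ i, (st i).1 = (st j).1 := ⟨j, rfl⟩
      have he : hk.choose = j := hmono.injective hk.choose_spec
      simp only [d, dif_pos hk]
      rw [he]
    have hsum : ∀ j, ∑ k ∈ Finset.range (st j).1, f ^ k • d k = (st j).2 := by
      intro j
      induction j with
      | zero => simp [st]
      | succ j ih =>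
        rw [← Finset.sum_range_add_sum_Ico _ (hmono.monotone (Nat.le_succ j)), ih,
          Finset.sum_eq_single (st j).1, hd]
        · intro k hk hne
          simp only [Finset.mem_Ico] at hk
          have : ¬∃ i, (st i).1 = k := by
            rintro ⟨i, rfl⟩
            have h1 : j ≤ i := hmono.le_iff_le.1 hk.1
            have h2 : i < j + 1 := hmono.lt_iff_lt.1 hk.2
            exact hne (by rw [show i = j by omega])
          simp [d, dif_neg this]
        · simp only [Finset.mem_Ico, le_refl, true_and]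
          exact fun h' => absurd (hmono (Nat.lt_succ_self j)) h'
    obtain ⟨j, hj⟩ := ht (tev h d)
    refine hnot j (st j).1 (st j).2 ?_
    have e := tev_sum h d (st (j + 1)).1
    rw [hsum (j + 1)] at e
    have e' : f ^ j • (st (j + 1)).2 = -(f ^ j • f ^ (st (j + 1)).1 • tev h fun n => d (n + (st (j + 1)).1)) := by
      rw [eq_neg_iff_add_eq_zero, ← smul_add, ← e, hj]
    change f ^ j • (st (j + 1)).2 ∈ _
    rw [e', smul_comm]
    exact neg_mem (pow_smul_mem_span _ _)

/-- surjectivity onto the adic completion -/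
theorem surjective_adicCompletion (s : Finset A) (hs : ∀ f ∈ s, TBij M f) :
    Function.Surjective (AdicCompletion.of (Ideal.span (s : Set A)) M) := by
  classical
  set I := Ideal.span (s : Set A) with hI
  intro x
  choose m hm using fun n => Submodule.Quotient.mk_surjective (I ^ n • (⊤ : Submodule A M)) (x.val n)
  have hcomp : ∀ {a b : ℕ}, a ≤ b → m b - m a ∈ I ^ a • (⊤ : Submodule A M) := fun {a b} hab => by
    rw [← Submodule.Quotient.eq, hm a]
    exact (congrArg (AdicCompletion.transitionMap I M hab) (hm b)).trans (x.property hab)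
  have hle : ∀ k : ℕ, ∃ e : ℕ, I ^ e ≤ Ideal.span ((fun f => f ^ k) '' (s : Set A)) := fun k =>
    Ideal.exists_pow_le_of_le_radical_of_fg
      (Ideal.span_le.2 fun f hf => ⟨k, Ideal.subset_span ⟨f, hf, rfl⟩⟩)
      ⟨s, rfl⟩
  choose e he using hle
  let N : ℕ → ℕ := fun k => k + ∑ i ∈ Finset.range (k + 1), e i
  have hNk : ∀ k, k ≤ N k := fun k => Nat.le_add_right _ _
  have hNe : ∀ k, e k ≤ N k := fun k =>
    (Finset.single_le_sum (fun i _ => Nat.zero_le (e i)) (Finset.self_mem_range_succ k)).trans (Nat.le_add_left _ _)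
  have hNs : ∀ k, N k ≤ N (k + 1) := fun k => by
    have : N (k + 1) = k + 1 + ((∑ i ∈ Finset.range (k + 1), e i) + e (k + 1)) := by
      simp [N, Finset.sum_range_succ _ (k + 1)]
    simp only [N] at this ⊢
    omega
  let Φ : ℕ → ((s → M) →ₗ[A] M) := fun k => ∑ f : s, (f.1 ^ k) • LinearMap.proj f
  have hΦ : ∀ k (y : s → M), Φ k y = ∑ f : s, f.1 ^ k • y f := fun k y => by simp [Φ]
  have hrange : ∀ k, Ideal.span ((fun f => f ^ k) '' (s : Set A)) • (⊤ : Submodule A M) ≤ LinearMap.range (Φ k) := by
    intro k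
    refine Submodule.smul_le.2 fun a ha y _ => ?_
    induction ha using Submodule.span_induction with
    | mem a ha =>
      obtain ⟨f, hf, rfl⟩ := ha
      refine ⟨Pi.single (⟨f, hf⟩ : s) y, ?_⟩
      rw [hΦ, Finset.sum_eq_single (⟨f, hf⟩ : s)]
      · simp
      · intro b _ hb; simp [Pi.single_eq_of_ne hb]
      · simp
    | zero => simp
    | add a b _ _ iha ihb => rw [add_smul]; exact add_mem iha ihb
    | smul c a _ ih => rw [smul_assoc]; exact Submodule.smul_mem _ _ ih
  choose E hE using fun k => LinearMap.mem_range.1 (hrange k (Submodule.smul_mono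
    ((Ideal.pow_le_pow_right (hNe k)).trans (he k)) le_rfl (hcomp (hNs k))))
  let z : M := m (N 0) + ∑ f : s, tev (hs f.1 f.2) fun k => E k f
  refine ⟨z, AdicCompletion.ext fun K => ?_⟩
  rw [AdicCompletion.of_apply, Submodule.mkQ_apply, ← hm K, Submodule.Quotient.eq]
  have h1 : ∀ K, m (N K) = m (N 0) + ∑ f : s, ∑ k ∈ Finset.range K, f.1 ^ k • E k f := by
    intro K
    induction K with
    | zero => simp
    | succ K ih =>
      simp only [Finset.sum_range_succ, Finset.sum_add_distrib, ← add_assoc, ← ih, ← hΦ, hE]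
      abel
  have h2 : z - m (N K) ∈ I ^ K • (⊤ : Submodule A M) := by
    rw [h1 K, add_sub_add_left_eq_sub, ← Finset.sum_sub_distrib]
    refine Submodule.sum_mem _ fun f _ => ?_
    rw [tev_sum _ _ K, add_sub_cancel_left]
    exact Submodule.smul_mem_smul (Ideal.pow_mem_pow (Ideal.subset_span f.2) K) trivial
  have := add_mem h2 (hcomp (hNk K))
  rwa [sub_add_sub_cancel] at this

end Groth.Agent.DRingKP
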