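import Groth.Agent.DRingKP.DCTele
import Groth.Agent.DRingKP.Nilp
import Groth.Agent.DRingKP.TorMore
import Mathlib.Algebra.Homology.DerivedCategory.Linear

/-!
Derived Nakayama.
-/

set_option autoImplicit false
set_option linter.style.haveILetI false
universe u

namespace Groth.Agent.DRingKP

open CategoryTheory Limits DerivedCategory MonoidalCategory HomologicalComplex Pretriangulated

attribute [local instance] HasDerivedCategory.standard

variable {A : Type u} [CommRing A]

lemma subsingleton_hom_obj₃ {X : Dual.D A} {T : Triangle (Dual.D A)} (hT : T ∈ distTriang (Dual.D A))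
    (h₁ : ∀ n : ℤ, Subsingleton (X ⟶ T.obj₁⟦n⟧)) (h₂ : ∀ n : ℤ, Subsingleton (X ⟶ T.obj₂⟦n⟧)) (n : ℤ) :
    Subsingleton (X ⟶ T.obj₃⟦n⟧) := by
  refine subsingleton_of_forall_eq 0 fun g => ?_
  have hS := Triangle.shift_distinguished T hT n
  obtain ⟨g', hg'⟩ := Triangle.coyoneda_exact₃ _ hS g (by
    have : Subsingleton (X ⟶ (T.obj₁⟦n⟧)⟦(1 : ℤ)⟧) :=
      @Equiv.subsingleton _ _ (Iso.homCongr (Iso.refl X) ((shiftFunctorAdd (Dual.D A) n 1).app T.obj₁).symm) (h₁ (n + 1))
    exact @Subsingleton.elim _ this _ _)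
  rw [hg', show g' = 0 from @Subsingleton.elim _ (h₂ n) _ _]
  exact zero_comp

lemma tBij_cone {g : A} {P Q : DRing.Cx A} (φ : P ⟶ Q) (hP : ∀ n, TBij (Dual.HD A (DRing.toD P) n) g)
    (hQ : ∀ n, TBij (Dual.HD A (DRing.toD Q) n) g) (n : ℤ) :
    TBij (Dual.HD A (DRing.toD (CochainComplex.mappingCone φ)) n) g :=
  (tele_iff_HD g _).1 (fun m => subsingleton_hom_obj₃ (DerivedCategory.mappingCone_triangle_distinguished φ)
    ((tele_iff_HD g _).2 hP) ((tele_iff_HD g _).2 hQ) m) n

lemma tR_map_smul (f : A) (P : DRing.Cx A) (M : ModuleCat.{u} A) :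
    (tR M).map (f • 𝟙 P) = (NatTrans.mapHomologicalComplex ((tensoringRight (ModuleCat.{u} A)).map (f • 𝟙 M))
      (ComplexShape.up ℤ)).app P := by
  ext n : 1
  change (f • 𝟙 (P.X n)) ▷ M = P.X n ◁ (f • 𝟙 M)
  rw [MonoidalLinear.smul_whiskerRight, MonoidalLinear.whiskerLeft_smul]
  simp

/-- multiplication by `f` on `P ⊗ M` when `M[f]` and `M / f` contribute nothing -/
lemma mIso_smul {P : DRing.Cx A} (hP : DRing.TermwiseFlat P) (f : A) (M : ModuleCat.{u} A) (c : ℤ)
    (hK : ∀ i, c < i → IsZero (((tR (kernel (f • 𝟙 M))).obj P).homology i))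
    (hQ : ∀ i, c < i → IsZero (((tR (cokernel (f • 𝟙 M))).obj P).homology i)) :
    MIso (c + 1) (DerivedCategory.Q.map ((tR M).map (f • 𝟙 P))) := by
  let g : M ⟶ M := f • 𝟙 M
  let S₁ := ShortComplex.mk (kernel.ι g) (Abelian.factorThruImage g) (by
    rw [← cancel_mono (Abelian.image.ι g)]; simp)
  let S₂ := ShortComplex.mk (Abelian.image.ι g) (cokernel.π g) (kernel.condition _)
  have hS₁ : S₁.ShortExact := by
    refine { exact := ShortComplex.exact_of_f_is_kernel _ ?_, mono_f := inferInstance, epi_g := inferInstance }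
    exact isKernelOfComp (Abelian.image.ι g) g (kernelIsKernel g) (by rw [← cancel_mono (Abelian.image.ι g)]; simp [S₁]) (Abelian.image.fac g)
  have hS₂ : S₂.ShortExact :=
    { exact := ShortComplex.exact_of_f_is_kernel _ (kernelIsKernel _), mono_f := inferInstance, epi_g := inferInstance }
  let F : ModuleCat.{u} A ⥤ DRing.Cx A :=
    { obj := fun N => (tR N).obj P
      map := fun h => (NatTrans.mapHomologicalComplex ((tensoringRight (ModuleCat.{u} A)).map h) _).app P
      map_id := fun N => by ext n : 1; exact MonoidalCategory.whiskerLeft_id _ _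
      map_comp := fun h k => by ext n : 1; exact MonoidalCategory.whiskerLeft_comp _ _ _ }
  haveI : F.PreservesZeroMorphisms :=
    ⟨fun N N' => by ext n : 1; exact MonoidalPreadditive.whiskerLeft_zero⟩
  have hF : ∀ S : ShortComplex (ModuleCat.{u} A), S.ShortExact → (S.map F).ShortExact := fun S hS => by
    refine HomologicalComplex.shortExact_of_degreewise_shortExact (S.map F) fun n => ?_
    haveI : Module.Flat A (P.X n) := hP n
    haveI : PreservesFiniteLimits (tensorLeft (P.X n)) := inferInstance
    haveI : PreservesFiniteColimits (tensorLeft (P.X n)) := inferInstance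
    exact hS.map_of_exact (tensorLeft (P.X n))
  let H := fun i => HomologicalComplex.homologyFunctor (ModuleCat.{u} A) (ComplexShape.up ℤ) i
  have e1 : ∀ i, c < i → IsIso ((H i).map (F.map (Abelian.factorThruImage g))) := fun i hi => by
    haveI : Mono ((H i).map (F.map (Abelian.factorThruImage g))) :=
      ((hF _ hS₁).homology_exact₂ i).mono_g ((hK i hi).eq_of_src _ _)
    haveI : Epi ((H i).map (F.map (Abelian.factorThruImage g))) :=
      ((hF _ hS₁).homology_exact₃ i (i + 1) rfl).epi_f ((hK (i + 1) (by lia)).eq_of_tgt _ _)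
    exact isIso_of_mono_of_epi _
  have e2 : ∀ i, c < i → Epi ((H i).map (F.map (Abelian.image.ι g))) := fun i hi =>
    ((hF _ hS₂).homology_exact₂ i).epi_f ((hQ i hi).eq_of_tgt _ _)
  have e3 : ∀ i, c + 1 < i → IsIso ((H i).map (F.map (Abelian.image.ι g))) := fun i hi => by
    haveI := e2 i (by lia)
    haveI : Mono ((H i).map (F.map (Abelian.image.ι g))) :=
      ((hF _ hS₂).homology_exact₁ (i - 1) i (by simp)).mono_g ((hQ (i - 1) (by lia)).eq_of_src _ _)
    exact isIso_of_mono_of_epi _
  have hfac : ∀ i, (H i).map ((tR M).map (f • 𝟙 P)) =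
      (H i).map (F.map (Abelian.factorThruImage g)) ≫ (H i).map (F.map (Abelian.image.ι g)) := fun i => by
    rw [← Functor.map_comp, ← Functor.map_comp, Abelian.image.fac, tR_map_smul]
  have key : ∀ i, (DerivedCategory.homologyFunctor (ModuleCat.{u} A) i).map
      (DerivedCategory.Q.map ((tR M).map (f • 𝟙 P))) =
      ((DerivedCategory.homologyFunctorFactors (ModuleCat.{u} A) i).app _).hom ≫ (H i).map ((tR M).map (f • 𝟙 P)) ≫
        ((DerivedCategory.homologyFunctorFactors (ModuleCat.{u} A) i).app _).inv := fun i =>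
    (NatIso.naturality_2 (DerivedCategory.homologyFunctorFactors (ModuleCat.{u} A) i) _).symm
  refine ⟨fun i hi => ?_, ?_⟩
  · haveI := e1 i (by lia)
    haveI := e3 i hi
    rw [key, hfac]
    infer_instance
  · haveI := e1 (c + 1) (by lia)
    haveI := e2 (c + 1) (by lia)
    rw [key, hfac]
    infer_instance

/-- derived Nakayama along finitely many elements -/
theorem isZero_homology_of_tR (c : ℤ) : ∀ (s : List A) (P : DRing.Cx A), DRing.TermwiseFlat P →
    (∀ f ∈ s, ∀ n, TBij (Dual.HD A (DRing.toD P) n) f) →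
    (∀ M : ModuleCat.{u} A, (∀ f ∈ s, ∀ m : M, f • m = 0) → ∀ i, c < i → IsZero (((tR M).obj P).homology i)) →
    ∀ i, c < i → IsZero (P.homology i) := by
  intro s
  induction s with
  | nil =>
    intro P _ _ h i hi
    exact (isZero_tR_unit P i).1 (h _ (by simp) i hi)
  | cons f s ih =>
    intro P hP hc h
    let C := CochainComplex.mappingCone (f • 𝟙 P)
    have hCM : ∀ M : ModuleCat.{u} A, (∀ g ∈ s, ∀ m : M, g • m = 0) → ∀ i, c < i → IsZero (((tR M).obj C).homology i) := by
      intro M hM i hi
      have hmi := mIso_smul hP f M c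
        (h _ fun g hg x => by
          have hinj : Function.Injective (kernel.ι (f • 𝟙 M)).hom := (ModuleCat.mono_iff_injective _).1 inferInstance
          apply hinj
          rw [map_smul, map_zero]
          rcases List.mem_cons.1 hg with rfl | hg
          · exact LinearMap.congr_fun (congrArg ModuleCat.Hom.hom (kernel.condition (g • 𝟙 M))) x
          · exact hM g hg _)
        (h _ fun g hg x => by
          obtain ⟨m, rfl⟩ := (ModuleCat.epi_iff_surjective (cokernel.π (f • 𝟙 M))).1 inferInstance x
          rw [← map_smul]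
          rcases List.mem_cons.1 hg with rfl | hg
          · exact LinearMap.congr_fun (congrArg ModuleCat.Hom.hom (cokernel.condition (g • 𝟙 M))) m
          · rw [hM g hg m, map_zero])
      exact ((isAbove_cone _).1 hmi i (by lia)).of_iso
        ((HomologicalComplex.homologyFunctor (ModuleCat.{u} A) (ComplexShape.up ℤ) i).mapIso
          (CochainComplex.mappingCone.mapHomologicalComplexIso (f • 𝟙 P) (tensorRight M)))
    have hC := ih C (cone_flat _ hP hP) (fun g hg n => tBij_cone _ (hc g (List.mem_cons_of_mem _ hg))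
      (hc g (List.mem_cons_of_mem _ hg)) n) hCM
    have hm : MIso (c + 1) (DerivedCategory.Q.map (f • 𝟙 P)) := (isAbove_cone _).2 fun i hi => hC i (by lia)
    intro i hi
    have hepi : Epi (HomologicalComplex.homologyMap (f • 𝟙 P) i) := by
      haveI : Epi ((DerivedCategory.homologyFunctor (ModuleCat.{u} A) i).map (DerivedCategory.Q.map (f • 𝟙 P))) := by
        rcases eq_or_lt_of_le (show c + 1 ≤ i by lia) with rfl | h'
        · exact hm.2
        · haveI := hm.1 i h'
          infer_instance
      have hn := NatIso.naturality_1 (DerivedCategory.homologyFunctorFactors (ModuleCat.{u} A) i) (f • 𝟙 P)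
      change Epi ((HomologicalComplex.homologyFunctor (ModuleCat.{u} A) (ComplexShape.up ℤ) i).map (f • 𝟙 P))
      rw [← hn]
      exact @epi_comp _ _ _ _ _ _ _ _ (@epi_comp _ _ _ _ _ _ (by assumption) _ _)
    have hdiv : ∀ x : P.homology i, ∃ y, f • y = x := by
      intro x
      obtain ⟨y, hy⟩ := (ModuleCat.epi_iff_surjective _).1 hepi x
      refine ⟨y, ?_⟩
      rw [← hy]
      have he : (HomologicalComplex.shortComplexFunctor _ (ComplexShape.up ℤ) i).map (f • 𝟙 P) =
          f • 𝟙 ((HomologicalComplex.shortComplexFunctor _ (ComplexShape.up ℤ) i).obj P) := by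
        ext <;> rfl
      change _ = (ShortComplex.homologyMap ((HomologicalComplex.shortComplexFunctor _ (ComplexShape.up ℤ) i).map
        (f • 𝟙 P))).hom y
      rw [he, ShortComplex.homologyMap_smul, ShortComplex.homologyMap_id]
      rfl
    have hT : TBij (P.homology i) f := (hc f List.mem_cons_self i).of_equiv
      ((DerivedCategory.homologyFunctorFactors (ModuleCat.{u} A) i).app P).toLinearEquiv
    choose D hD using hdiv
    haveI : Subsingleton (P.homology i) := subsingleton_of_forall_eq 0 fun x =>
      eq_zero_of_div hT (fun k => D^[k] x) (fun k => by rw [Function.iterate_succ_apply', hD]) 0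
    exact ModuleCat.isZero_of_subsingleton _

/-- derived Nakayama -/
theorem nakayama (I : Ideal A) (hI : I.FG) [DRing.HasLTensor A (ModuleCat.of A (A ⧸ I))] (K : Dual.D A)
    (hc : DRing.IsDerivedComplete I K) (c : ℤ) :
    (∀ i, c < i → Subsingleton (Dual.HD A K i)) ↔
      ∀ i, c < i → Subsingleton (Dual.HD A ((DRing.LTensor A (ModuleCat.of A (A ⧸ I))).obj K) i) := by
  let M₀ : ModuleCat.{u} A := ModuleCat.of A (A ⧸ I)
  let Hd := fun i => DerivedCategory.homologyFunctor (ModuleCat.{u} A) i
  constructor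
  · intro h i hi
    obtain ⟨P, hPb, hP, ⟨eP⟩⟩ := exists_proj_rep_top K c (fun j hj => by
      haveI : Subsingleton (Dual.HD A K j) := h j (by lia)
      exact IsZero.of_iso (ModuleCat.isZero_of_subsingleton _) (Iso.refl _))
    haveI := isKProjective_of_vanishesAbove hPb hP
    refine ModuleCat.subsingleton_of_isZero (IsZero.of_iso ?_ ((Hd i).mapIso ((DRing.LTensor A M₀).mapIso eP.symm ≪≫
      lTensorIso M₀ P) ≪≫ (DerivedCategory.homologyFunctorFactors (ModuleCat.{u} A) i).app _))
    exact ShortComplex.isZero_homology_of_isZero_X₂ _ ((tensorRight M₀).map_isZero (hPb i hi))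
  · intro h
    obtain ⟨P, q, hP, hPf, hPt, hq⟩ := exists_kProj_kFlat_resolution (DerivedCategory.Q.objPreimage K)
    let eP : DRing.toD P ≅ K := asIso (DerivedCategory.Q.map q) ≪≫ DerivedCategory.Q.objObjPreimageIso K
    have h0 : ∀ i, c < i → IsZero (((tR M₀).obj P).homology i) := fun i hi => by
      haveI : Subsingleton ((Hd i).obj ((DRing.LTensor A M₀).obj K)) := h i hi
      exact IsZero.of_iso (ModuleCat.isZero_of_subsingleton ((Hd i).obj ((DRing.LTensor A M₀).obj K)))
        (((DerivedCategory.homologyFunctorFactors (ModuleCat.{u} A) i).app _).symm ≪≫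
          (Hd i).mapIso ((lTensorIso M₀ P).symm ≪≫ (DRing.LTensor A M₀).mapIso eP))
    let B := A ⧸ I
    let ψ := algebraMap A B
    let leq : (ModuleCat.restrictScalars.{u} ψ).obj (ModuleCat.of B B) ≅ M₀ :=
      (show ((ModuleCat.restrictScalars.{u} ψ).obj (ModuleCat.of B B)) ≃ₗ[A] (A ⧸ I) from
        { toFun := fun (x : A ⧸ I) => x, invFun := fun (x : A ⧸ I) => x,
          left_inv := fun _ => rfl, right_inv := fun _ => rfl,
          map_add' := fun _ _ => rfl, map_smul' := fun a (x : A ⧸ I) => (Algebra.smul_def a x).symm }).toModuleIso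
    have hb : IsAbove (c + 1) (DRing.toD ((bc ψ).obj P)) := fun i hi => by
      have hi' : c < i := by lia
      have hz : IsZero ((((ModuleCat.restrictScalars.{u} ψ).mapHomologicalComplex (ComplexShape.up ℤ)).obj
          ((bc ψ).obj P)).homology i) :=
        (h0 i hi').of_iso ((HomologicalComplex.homologyFunctor _ _ i).mapIso (bcRestrictIso ψ P ≪≫
          HomologicalComplex.Hom.isoOfComponents (fun n => (tensorLeft (P.X n)).mapIso leq)
            (fun a b _ => whisker_exchange _ _)))
      have hz2 := hz.of_iso ((((bc ψ).obj P).sc i).mapHomologyIso (ModuleCat.restrictScalars.{u} ψ)).symm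
      haveI := ModuleCat.subsingleton_of_isZero hz2
      exact (@ModuleCat.isZero_of_subsingleton _ _ (((bc ψ).obj P).homology i) ‹_›).of_iso
        ((DerivedCategory.homologyFunctorFactors (ModuleCat.{u} B) i).app _)
    obtain ⟨Q, hQb, hQ, ⟨eQ⟩⟩ := exists_proj_rep_top _ c hb
    haveI := isKProjective_of_vanishesAbove hQb hQ
    have hsurj : Function.Surjective ψ := Ideal.Quotient.mk_surjective
    have hker : RingHom.ker ψ = I := Ideal.mk_ker
    obtain ⟨s, hs⟩ := hI
    intro i hi
    have hmem : ∀ f ∈ s.toList, f ∈ I := fun f hf => hs ▸ Ideal.subset_span (Finset.mem_toList.1 hf)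
    refine ModuleCat.subsingleton_of_isZero (IsZero.of_iso (isZero_homology_of_tR c s.toList P hPt
      (fun f hf n => ((isDerivedComplete_iff I K).1 hc f (hmem f hf) n).of_equiv ((Hd n).mapIso eP.symm).toLinearEquiv)
      (fun M hM j hj => ?_) i hi)
      (((Hd i).mapIso eP.symm) ≪≫ (DerivedCategory.homologyFunctorFactors (ModuleCat.{u} A) i).app P))
    have hbot : RingHom.ker ψ • (⊤ : Submodule A M) = ⊥ := by
      rw [hker, ← hs, eq_bot_iff]
      refine Submodule.smul_le.2 fun a ha m _ => ?_
      induction ha using Submodule.span_induction with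
      | mem a ha => exact (Submodule.mem_bot A).2 (hM a (Finset.mem_toList.2 ha) m)
      | zero => simp
      | add a b _ _ iha ihb => rw [add_smul]; exact add_mem iha ihb
      | smul r a _ iha => rw [smul_assoc]; exact Submodule.smul_mem _ _ iha
    obtain ⟨N, ⟨eN⟩⟩ := exists_top_quotient hsurj M
    let eM : (ModuleCat.restrictScalars.{u} ψ).obj N ≅ M :=
      eN ≪≫ (Submodule.quotEquivOfEqBot _ hbot).toModuleIso
    have hz := isZero_tR_res hPf (isKFlat_of_bounded hQb (flat_of_projective hQ)) eQ N j
      (ShortComplex.isZero_homology_of_isZero_X₂ _ ((tensorRight N).map_isZero (hQb j hj)))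
    refine hz.of_iso ((HomologicalComplex.homologyFunctor _ _ j).mapIso ?_)
    exact HomologicalComplex.Hom.isoOfComponents (fun n => (tensorLeft (P.X n)).mapIso eM.symm)
      (fun a b _ => whisker_exchange _ _)

end Groth.Agent.DRingKP
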