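import Groth.Agent.DRingKP.DCTele
import Groth.Agent.DRingKP.Restrict
import Groth.Agent.DRingKP.KProj
import Mathlib.Algebra.Homology.DerivedCategory.Linear
import Mathlib.Algebra.Homology.ShortComplex.Linear
import Mathlib.CategoryTheory.Abelian.Exact

/-!
No maps into complete objects from objects on which `f` is invertible.
-/

set_option autoImplicit false
set_option linter.style.haveILetI false
universe u

namespace Groth.Agent.DRingKP

open CategoryTheory Limits DerivedCategory

attribute [local instance] HasDerivedCategory.standard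

variable {A : Type u} [CommRing A]

/-- sequences -/
def piN (A : Type u) [CommRing A] : ModuleCat.{u} A ⥤ ModuleCat.{u} A where
  obj M := ModuleCat.of A (ℕ → M)
  map g := ModuleCat.ofHom (LinearMap.pi fun n => g.hom ∘ₗ LinearMap.proj n)

instance : (piN A).Additive where

instance : (piN A).PreservesHomology := by
  refine Functor.preservesHomology_of_map_exact _ fun S hS => ?_
  rw [ShortComplex.moduleCat_exact_iff] at hS ⊢
  intro (x : ℕ → S.X₂) hx
  choose y hy using fun n => hS (x n) (congrFun hx n)
  exact ⟨(y : ℕ → S.X₁), funext hy⟩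

/-- the telescope as a natural transformation -/
def teleNat (f : A) : piN A ⟶ piN A where
  app M := ModuleCat.ofHom (tele M f)
  naturality M N g := by
    refine ModuleCat.hom_ext (LinearMap.ext fun (x : ℕ → M) => funext fun n => ?_)
    change (g.hom (x n)) - f • g.hom (x (n + 1)) = g.hom (x n - f • x (n + 1))
    rw [map_sub, map_smul]

/-- projection -/
def projNat (n : ℕ) : piN A ⟶ 𝟭 _ where
  app M := ModuleCat.ofHom (LinearMap.proj n)

/-- the product of countably many copies -/
noncomputable abbrev piCx (C : DRing.Cx A) : DRing.Cx A := ((piN A).mapHomologicalComplex (ComplexShape.up ℤ)).obj C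

lemma quasiIso_tele {f : A} (C : DRing.Cx A) (h : ∀ n, TBij (C.homology n) f) :
    QuasiIso ((NatTrans.mapHomologicalComplex (teleNat f) (ComplexShape.up ℤ)).app C) := by
  rw [quasiIso_iff]
  intro n
  rw [quasiIsoAt_iff_isIso_homologyMap]
  change IsIso (ShortComplex.homologyMap ((C.sc n).mapNatTrans (teleNat f)))
  rw [ShortComplex.homologyMap_mapNatTrans]
  haveI : IsIso ((teleNat f).app (C.sc n).homology) := (ConcreteCategory.isIso_iff_bijective _).2 (h n)
  infer_instance

lemma exists_homotopy {P C : DRing.Cx A} [P.IsKProjective] (φ : P ⟶ C) (h : DerivedCategory.Q.map φ = 0) :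
    Nonempty (Homotopy φ 0) := by
  refine ⟨HomotopyCategory.homotopyOfEq _ _ ((CochainComplex.IsKProjective.Qh_map_bijective P _).1 ?_)⟩
  let eq := DerivedCategory.quotientCompQhIso (ModuleCat.{u} A)
  have h1 := DerivedCategory.quotientCompQhIso_hom_naturality φ
  rw [h, comp_zero] at h1
  rw [Functor.map_zero, Functor.map_zero]
  exact (cancel_mono (eq.hom.app C)).1 (h1.trans zero_comp.symm)

lemma smul_bijective_of_equiv {f : A} {M N : Type u} [AddCommGroup M] [Module A M] [AddCommGroup N] [Module A N]
    (e : M ≃ₗ[A] N) (h : Function.Bijective fun x : N => f • x) : Function.Bijective fun x : M => f • x := by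
  have he : (fun x : M => f • x) = e.symm ∘ (fun x : N => f • x) ∘ e := funext fun x => by simp
  rw [he]
  exact e.symm.bijective.comp (h.comp e.bijective)

lemma isIso_smul_id {f : A} {K : Dual.D A}
    (h : ∀ n : ℤ, Function.Bijective fun x : Dual.HD A K n => f • x) : IsIso (f • 𝟙 K) := by
  let C := DerivedCategory.Q.objPreimage K
  let e : DerivedCategory.Q.obj C ≅ K := DerivedCategory.Q.objObjPreimageIso K
  have : IsIso (DerivedCategory.Q.map (f • 𝟙 C)) := by
    haveI : QuasiIso (f • 𝟙 C) := by
      rw [quasiIso_iff]
      intro n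
      rw [quasiIsoAt_iff_isIso_homologyMap]
      change IsIso (ShortComplex.homologyMap ((HomologicalComplex.shortComplexFunctor _ (ComplexShape.up ℤ) n).map (f • 𝟙 C)))
      have he : (HomologicalComplex.shortComplexFunctor _ (ComplexShape.up ℤ) n).map (f • 𝟙 C) =
          f • 𝟙 ((HomologicalComplex.shortComplexFunctor _ (ComplexShape.up ℤ) n).obj C) := by
        ext <;> rfl
      rw [he, ShortComplex.homologyMap_smul, ShortComplex.homologyMap_id, ConcreteCategory.isIso_iff_bijective]
      let g := ((DerivedCategory.homologyFunctorFactors (ModuleCat.{u} A) n).app C).symm ≪≫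
        (DerivedCategory.homologyFunctor (ModuleCat.{u} A) n).mapIso e
      let gl := g.toLinearEquiv
      exact smul_bijective_of_equiv gl (h n)
    infer_instance
  have he : f • 𝟙 K = e.inv ≫ DerivedCategory.Q.map (f • 𝟙 C) ≫ e.hom := by
    rw [CategoryTheory.Functor.map_smul, CategoryTheory.Functor.map_id, Linear.smul_comp, Category.id_comp, Linear.comp_smul, e.inv_hom_id]
  rw [he]
  infer_instance

/-- no maps from an object with invertible `f` to an object complete along `f` -/
theorem subsingleton_hom_of_invertible {f : A} {K L : Dual.D A} [IsIso (f • 𝟙 K)] (hL : ∀ n, TBij (Dual.HD A L n) f) :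
    Subsingleton (K ⟶ L) := by
  refine subsingleton_of_forall_eq 0 fun g => ?_
  let C := DerivedCategory.Q.objPreimage L
  let eC : DerivedCategory.Q.obj C ≅ L := DerivedCategory.Q.objObjPreimageIso L
  obtain ⟨P, c, hP, hc⟩ := exists_kProj_resolution (DerivedCategory.Q.objPreimage K)
  let eP : DerivedCategory.Q.obj P ≅ K := asIso (DerivedCategory.Q.map c) ≪≫ DerivedCategory.Q.objObjPreimageIso K
  let u : K ≅ K := asIso (f • 𝟙 K)
  let x : ℕ → (K ⟶ L) := fun n => n.rec g fun _ y => u.inv ≫ y
  have hx : ∀ n, x n = f • x (n + 1) := fun n => by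
    have h1 : u.hom ≫ x (n + 1) = x n := u.hom_inv_id_assoc _
    rw [← h1, show u.hom = f • 𝟙 K from rfl, Linear.smul_comp, Category.id_comp]
  choose φ hφ using fun n => PerfLocal.exists_lift (eP.hom ≫ x n ≫ eC.inv)
  let T := (NatTrans.mapHomologicalComplex (teleNat f) (ComplexShape.up ℤ)).app C
  let Φ : P ⟶ piCx C :=
    { f := fun i => ModuleCat.ofHom (LinearMap.pi fun n => ((φ n).f i).hom)
      comm' := fun i j _ => ModuleCat.hom_ext (LinearMap.ext fun y => funext fun n =>
        LinearMap.congr_fun (congrArg ModuleCat.Hom.hom ((φ n).comm i j)) y) }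
  have hzero : ∀ n, DerivedCategory.Q.map (φ n - f • φ (n + 1)) = 0 := fun n => by
    rw [Functor.map_sub, Functor.map_smul, hφ, hφ, hx n, Linear.smul_comp, Linear.comp_smul, sub_self]
  let hh := fun n => (exists_homotopy _ (hzero n)).some
  have hT : DerivedCategory.Q.map (Φ ≫ T) = 0 := by
    let ho : Homotopy (Φ ≫ T) 0 :=
      { hom := fun i j => ModuleCat.ofHom (LinearMap.pi fun n => ((hh n).hom i j).hom)
        zero := fun i j hij => ModuleCat.hom_ext (LinearMap.ext fun y => funext fun n =>
          LinearMap.congr_fun (congrArg ModuleCat.Hom.hom ((hh n).zero i j hij)) y)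
        comm := fun i => ModuleCat.hom_ext (LinearMap.ext fun y => funext fun n => by
          have := LinearMap.congr_fun (congrArg ModuleCat.Hom.hom ((hh n).comm i)) y
          rw [dNext_eq _ (show (ComplexShape.up ℤ).Rel i (i + 1) from rfl),
            prevD_eq _ (show (ComplexShape.up ℤ).Rel (i - 1) i by simp)] at this ⊢
          exact this) }
    rw [DerivedCategory.Q_map_eq_of_homotopy _ ho, Functor.map_zero]
  haveI : QuasiIso T := quasiIso_tele C fun n => by
    let gI := ((DerivedCategory.homologyFunctorFactors (ModuleCat.{u} A) n).app C).symm ≪≫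
      (DerivedCategory.homologyFunctor (ModuleCat.{u} A) n).mapIso eC
    exact (hL n).of_equiv gI.toLinearEquiv.symm
  rw [Functor.map_comp] at hT
  have hΦ : DerivedCategory.Q.map Φ = 0 := (cancel_mono (DerivedCategory.Q.map T)).1 (hT.trans zero_comp.symm)
  have h0 : Φ ≫ ((NatTrans.mapHomologicalComplex (projNat 0) (ComplexShape.up ℤ)).app C ≫
      (Functor.mapHomologicalComplexIdIso _ (ComplexShape.up ℤ)).hom.app C) = φ 0 := by
    refine HomologicalComplex.hom_ext _ _ fun i => ModuleCat.hom_ext (LinearMap.ext fun y => ?_)
    simp [Φ, projNat, NatTrans.mapHomologicalComplex]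
    rfl
  have hg : DerivedCategory.Q.map (φ 0) = 0 := by rw [← h0, Functor.map_comp, hΦ, zero_comp]
  rw [hφ] at hg
  have := (cancel_epi eP.hom).1 (hg.trans comp_zero.symm)
  exact (cancel_mono eC.inv).1 (this.trans zero_comp.symm)

/-- localized complexes have invertible `f` -/
lemma isIso_smul_restrict (f : A) (E : Dual.D (Localization.Away f)) :
    IsIso (f • 𝟙 ((DRing.restrictD (algebraMap A (Localization.Away f))).obj E)) := by
  refine isIso_smul_id fun n => ?_
  let e := (resHHIso (algebraMap A (Localization.Away f)) E n).toLinearEquiv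
  obtain ⟨c, hc⟩ : ∃ c : (Localization.Away f)ˣ, (c : Localization.Away f) = algebraMap A _ f :=
    IsLocalization.Away.algebraMap_isUnit f
  have hb : Function.Bijective fun y : (ModuleCat.restrictScalars (algebraMap A (Localization.Away f))).obj
      ((DerivedCategory.homologyFunctor (ModuleCat.{u} (Localization.Away f)) n).obj E) => f • y := by
    have h1 := (MulAction.bijective c :
      Function.Bijective fun y : (DerivedCategory.homologyFunctor (ModuleCat.{u} (Localization.Away f)) n).obj E => c • y)
    simp only [Units.smul_def, hc] at h1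
    exact h1
  exact smul_bijective_of_equiv e hb

end Groth.Agent.DRingKP
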