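import Groth.Agent.DRingKP.DCMore

/-!
Rings which are complete along elements.
-/

set_option autoImplicit false
set_option linter.style.haveILetI false

namespace Groth.Agent.DRingKP

universe u v

variable {A : Type u} [CommRing A]

lemma TBij.quotient {f g : A} (h : TBij A f) (n : ℕ) : TBij (A ⧸ Ideal.span {g ^ n}) f := by
  have h' := TBij.coker h h ((g ^ n) • (LinearMap.id : A →ₗ[A] A))
  refine h'.of_equiv (Submodule.quotEquivOfEq _ _ ?_)
  ext a
  simp [Ideal.mem_span_singleton', mul_comm]

lemma TBij.restrict {B : Type v} [CommRing B] [Algebra A B] {M : Type v} [AddCommGroup M] [Module A M] [Module B M]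
    [IsScalarTower A B M] {f : A} : TBij M (algebraMap A B f) ↔ TBij M f := by
  have : ⇑(tele (A := B) M (algebraMap A B f)) = ⇑(tele (A := A) M f) := by
    funext x n; simp
  simp only [TBij, this]

/-- `(⋂ I^n)^(2^r) = 0` -/
theorem iInf_pow_eq_bot : ∀ (r : ℕ) (A : Type u) [CommRing A] (s : Finset A), s.card ≤ r → (∀ f ∈ s, TBij A f) →
    (⨅ n : ℕ, Ideal.span (s : Set A) ^ n) ^ (2 ^ r) = ⊥ := by
  classical
  intro r
  induction r with
  | zero =>
    intro A _ s hs _
    rw [Finset.card_eq_zero.1 (by omega : s.card = 0), Finset.coe_empty, Ideal.span_empty, pow_zero, pow_one, eq_bot_iff]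
    exact (iInf_le _ 1).trans (by rw [pow_one])
  | succ r ih =>
    intro A _ s hs hT
    by_cases hsr : s.card ≤ r
    · exact eq_bot_iff.2 ((Ideal.pow_le_pow_right (Nat.pow_le_pow_right (by omega) (by omega))).trans (ih A s hsr hT).le)
    obtain ⟨f, hf⟩ : s.Nonempty := Finset.card_pos.1 (by omega)
    set J := ⨅ n : ℕ, Ideal.span (s : Set A) ^ n
    have key : J ^ (2 ^ r) ≤ ⨅ n : ℕ, Ideal.span {f ^ n} := by
      refine le_iInf fun n => ?_
      let π := Ideal.Quotient.mk (Ideal.span {f ^ n})
      let t : Finset (A ⧸ Ideal.span {f ^ n}) := (s.erase f).image π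
      have ht : t.card ≤ r := Finset.card_image_le.trans (by rw [Finset.card_erase_of_mem hf]; omega)
      have hTt : ∀ g ∈ t, TBij (A ⧸ Ideal.span {f ^ n}) g := by
        intro g hg
        obtain ⟨g₀, hg₀, rfl⟩ := Finset.mem_image.1 hg
        exact TBij.restrict.2 (TBij.quotient (hT g₀ (Finset.mem_of_mem_erase hg₀)) n)
      have h0 := ih _ t ht hTt
      -- powers of `span s` map into powers of `span t`
      have hle : ∀ m, Ideal.map π (Ideal.span (s : Set A) ^ (m + n)) ≤ Ideal.span (t : Set _) ^ m := by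
        intro m
        rw [Ideal.map_pow]
        have e : Ideal.map π (Ideal.span (s : Set A)) = Ideal.span {π f} ⊔ Ideal.span (t : Set _) := by
          conv_lhs => rw [← Finset.insert_erase hf]
          rw [Ideal.map_span, Finset.coe_insert, Set.image_insert_eq, Ideal.span_insert, Finset.coe_image]
        rw [e, add_comm m n]
        refine Ideal.sup_pow_add_le_pow_sup_pow.trans (sup_le ?_ le_rfl)
        rw [Ideal.span_singleton_pow, ← map_pow, Ideal.Quotient.eq_zero_iff_mem.2 (Ideal.mem_span_singleton_self _),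
          Ideal.span_singleton_eq_bot.2 rfl]
        exact bot_le
      have hJ : Ideal.map π J ≤ ⨅ m : ℕ, Ideal.span (t : Set _) ^ m :=
        le_iInf fun m => (Ideal.map_mono (iInf_le _ (m + n))).trans (hle m)
      have h1 : Ideal.map π (J ^ (2 ^ r)) = ⊥ := by
        rw [Ideal.map_pow, eq_bot_iff]
        exact (Ideal.pow_right_mono hJ _).trans h0.le
      rw [Ideal.map_eq_bot_iff_le_ker, Ideal.mk_ker] at h1
      exact h1
    rw [pow_succ, mul_two, pow_add, eq_bot_iff]
    refine Ideal.mul_le.2 fun a ha b hb => ?_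
    refine (Submodule.mem_bot A).2 (smul_eq_zero_of_iInf (hT f hf) (key ha) ?_)
    have := key hb
    simp only [Submodule.mem_iInf, smul_eq_mul, Ideal.mul_top] at this ⊢
    exact this

end Groth.Agent.DRingKP
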