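import Groth.Agent.DRingKP.DCEv
import Groth.Agent.DRingKP.DCAlg
import Groth.Prelude.Def_DRing3

/-!
Derived completeness through the telescope.
-/

set_option autoImplicit false
set_option linter.style.haveILetI false
universe u

namespace Groth.Agent.DRingKP

open CategoryTheory Limits DerivedCategory Pretriangulated

attribute [local instance] HasDerivedCategory.standard

variable {A : Type u} [CommRing A] (f : A)

/-- `ℕ →₀ A` -/
noncomputable abbrev TF (A : Type u) [CommRing A] : ModuleCat.{u} A := ModuleCat.of A (ℕ →₀ A)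

instance : Projective (TF A) := by
  haveI : Module.Projective A (ℕ →₀ A) := Module.Projective.of_free
  exact (IsProjective.iff_projective _).1 this

/-- `e_n ↦ e_n - f e_{n+1}` as a linear map -/
noncomputable def telTl : (ℕ →₀ A) →ₗ[A] (ℕ →₀ A) :=
  Finsupp.linearCombination A fun n => Finsupp.single n (1 : A) - f • Finsupp.single (n + 1) (1 : A)

/-- `e_n ↦ f^{-n}` as a linear map -/
noncomputable def telQl : (ℕ →₀ A) →ₗ[A] Localization.Away f :=
  Finsupp.linearCombination A fun n =>
    IsLocalization.mk' (Localization.Away f) (1 : A) (⟨f ^ n, n, rfl⟩ : Submonoid.powers f)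

/-- `e_n ↦ e_n - f e_{n+1}` -/
noncomputable def telT : TF A ⟶ TF A := ModuleCat.ofHom (telTl f)

/-- `e_n ↦ f^{-n}` -/
noncomputable def telQ : TF A ⟶ ModuleCat.of A (Localization.Away f) := ModuleCat.ofHom (telQl f)

lemma telTl_single (m : ℕ) (a : A) :
    telTl f (Finsupp.single m a) = Finsupp.single m a - Finsupp.single (m + 1) (f * a) := by
  simp [telTl, smul_sub, Finsupp.smul_single, mul_comm a f]

lemma telTl_apply (x : ℕ →₀ A) (n : ℕ) :
    telTl f x n = x n - if n = 0 then 0 else f * x (n - 1) := by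
  induction x using Finsupp.induction_linear with
  | zero => simp
  | add x y hx hy => simp only [map_add, Finsupp.coe_add, Pi.add_apply, hx, hy]; split_ifs <;> ring
  | single m a =>
    rw [telTl_single, Finsupp.sub_apply, Finsupp.single_apply, Finsupp.single_apply, Finsupp.single_apply]
    rcases n with _ | n
    · simp
    · simp only [Nat.add_right_cancel_iff, Nat.succ_ne_zero, if_false, Nat.add_sub_cancel]
      split_ifs <;> ring

lemma telQl_single (n : ℕ) (a : A) : telQl f (Finsupp.single n a) =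
    IsLocalization.mk' (Localization.Away f) a (⟨f ^ n, n, rfl⟩ : Submonoid.powers f) := by
  rw [telQl, Finsupp.linearCombination_single, IsLocalization.smul_mk'_one]

lemma telQl_telTl (x : ℕ →₀ A) : telQl f (telTl f x) = 0 := by
  induction x using Finsupp.induction_linear with
  | zero => simp
  | add x y hx hy => rw [map_add, map_add, hx, hy, add_zero]
  | single m a =>
    rw [telTl_single, map_sub, telQl_single, telQl_single, sub_eq_zero, IsLocalization.mk'_eq_iff_eq]
    congr 1
    simp [pow_succ]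
    ring

lemma telT_telQ : telT f ≫ telQ f = 0 := ModuleCat.hom_ext (LinearMap.ext fun x => telQl_telTl f x)

/-- the short complex of the telescope -/
noncomputable def telS : ShortComplex (ModuleCat.{u} A) := ShortComplex.mk (telT f) (telQ f) (telT_telQ f)

lemma telS_shortExact : (telS f).ShortExact := by
  have hT : ∀ m a, Finsupp.single m a - Finsupp.single (m + 1) (f * a) ∈ LinearMap.range (telTl f) :=
    fun m a => ⟨Finsupp.single m a, telTl_single f m a⟩
  refine { exact := (ShortComplex.moduleCat_exact_iff _).2 fun (x : ℕ →₀ A) (hx : telQl f x = 0) => ?_, mono_f := ?_, epi_g := ?_ }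
  · have push : ∀ (k m : ℕ) (a : A),
        Finsupp.single m a - Finsupp.single (m + k) (f ^ k * a) ∈ LinearMap.range (telTl f) := by
      intro k
      induction k with
      | zero => intro m a; simp
      | succ k ih =>
        intro m a
        have := add_mem (ih m a) (hT (m + k) (f ^ k * a))
        rwa [sub_add_sub_cancel, ← mul_assoc, ← pow_succ', add_assoc] at this
    have norm : ∀ y : ℕ →₀ A, ∃ (N : ℕ), ∀ N', N ≤ N' → ∃ c,
        y - Finsupp.single N' c ∈ LinearMap.range (telTl f) := by
      intro y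
      induction y using Finsupp.induction_linear with
      | zero => exact ⟨0, fun N' _ => ⟨0, by simp⟩⟩
      | add y z hy hz =>
        obtain ⟨N, hN⟩ := hy
        obtain ⟨M, hM⟩ := hz
        refine ⟨max N M, fun N' h => ?_⟩
        obtain ⟨c, hc⟩ := hN N' (le_of_max_le_left h)
        obtain ⟨d, hd⟩ := hM N' (le_of_max_le_right h)
        exact ⟨c + d, by rw [Finsupp.single_add, ← sub_add_sub_comm]; exact add_mem hc hd⟩
      | single m a =>
        refine ⟨m, fun N' h => ⟨f ^ (N' - m) * a, ?_⟩⟩
        have := push (N' - m) m a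
        rwa [Nat.add_sub_cancel' h] at this
    obtain ⟨N, hN⟩ := norm x
    obtain ⟨c, ⟨z, hz⟩⟩ := hN N le_rfl
    have h0 := telQl_telTl f z
    rw [hz, map_sub, hx, zero_sub, neg_eq_zero, telQl_single, IsLocalization.mk'_eq_zero_iff] at h0
    obtain ⟨⟨_, k, rfl⟩, hk⟩ := h0
    have h1 := push k N c
    rw [show f ^ k * c = 0 from hk, Finsupp.single_zero, sub_zero] at h1
    obtain ⟨w, hw⟩ := h1
    exact ⟨(z + w : ℕ →₀ A), show telTl f (z + w) = x by rw [map_add, hz, hw, sub_add_cancel]⟩
  · rw [ModuleCat.mono_iff_injective]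
    change Function.Injective (telTl f)
    rw [injective_iff_map_eq_zero]
    intro x hx
    refine Finsupp.ext fun n => ?_
    induction n with
    | zero => simpa [telTl_apply] using DFunLike.congr_fun hx 0
    | succ n ih =>
      have := DFunLike.congr_fun hx (n + 1)
      simpa [telTl_apply, ih] using this
  · rw [ModuleCat.epi_iff_surjective]
    change Function.Surjective (telQl f)
    intro y
    obtain ⟨a, ⟨_, n, rfl⟩, rfl⟩ := IsLocalization.exists_mk'_eq (Submonoid.powers f) y
    exact ⟨Finsupp.single n a, telQl_single f n a⟩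

lemma tele_iff_hom (K : Dual.D A) :
    (∀ n : ℤ, Subsingleton (Dual.inD A (Localization.Away f) ⟶ K⟦n⟧)) ↔
      ∀ n : ℤ, Function.Bijective (fun g : (DerivedCategory.singleFunctor (ModuleCat.{u} A) 0).obj (TF A) ⟶ K⟦n⟧ =>
        (DerivedCategory.singleFunctor (ModuleCat.{u} A) 0).map (telT f) ≫ g) := by
  let t : (DerivedCategory.singleFunctor (ModuleCat.{u} A) 0).obj (TF A) ⟶
      (DerivedCategory.singleFunctor (ModuleCat.{u} A) 0).obj (TF A) :=
    (DerivedCategory.singleFunctor (ModuleCat.{u} A) 0).map (telT f)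
  let q : (DerivedCategory.singleFunctor (ModuleCat.{u} A) 0).obj (TF A) ⟶ Dual.inD A (Localization.Away f) :=
    (DerivedCategory.singleFunctor (ModuleCat.{u} A) 0).map (telQ f)
  let δ : Dual.inD A (Localization.Away f) ⟶ ((DerivedCategory.singleFunctor (ModuleCat.{u} A) 0).obj (TF A))⟦(1 : ℤ)⟧ :=
    (telS_shortExact f).singleδ
  let T : Triangle (Dual.D A) := Triangle.mk t q δ
  have hT : T ∈ distTriang (Dual.D A) := (telS_shortExact f).singleTriangle_distinguished
  have htq : t ≫ q = 0 := comp_distTriang_mor_zero₁₂ T hT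
  have hδt : δ ≫ t⟦(1 : ℤ)⟧' = 0 := comp_distTriang_mor_zero₃₁ T hT
  constructor
  · intro h n
    refine ⟨fun g g' (hg : t ≫ g = t ≫ g') => ?_, fun g => ?_⟩
    · obtain ⟨g₃, hg₃⟩ := Triangle.yoneda_exact₂ T hT (g - g')
        (show t ≫ (g - g') = 0 by rw [Preadditive.comp_sub, hg, sub_self])
      have h₀ : g₃ = 0 := @Subsingleton.elim _ (h n) _ _
      exact sub_eq_zero.1 (hg₃.trans (by rw [h₀, comp_zero]; rfl))
    · obtain ⟨g₂, hg₂⟩ := Triangle.yoneda_exact₂ T.invRotate (inv_rot_of_distTriang T hT) g (by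
        have h1 : Subsingleton (Dual.inD A (Localization.Away f) ⟶ (K⟦n⟧)⟦(1 : ℤ)⟧) :=
          @Equiv.subsingleton _ _
            (Iso.homCongr (Iso.refl _) ((shiftFunctorAdd (Dual.D A) n 1).app K).symm) (h (n + 1))
        refine (shiftFunctor (Dual.D A) (1 : ℤ)).map_injective ?_
        refine (cancel_epi ((shiftFunctorCompIsoId (Dual.D A) (-1 : ℤ) 1 (by lia)).inv.app
          (Dual.inD A (Localization.Away f)))).1 ?_
        exact @Subsingleton.elim _ h1 _ _)
      exact ⟨g₂, hg₂.symm⟩
  · intro h n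
    refine ⟨fun a b => ?_⟩
    rw [← sub_eq_zero]
    have h2 : q ≫ (a - b) = 0 := by
      refine (h n).1 ?_
      change t ≫ q ≫ (a - b) = t ≫ 0
      rw [comp_zero, ← Category.assoc, htq, zero_comp]
    obtain ⟨g, hg⟩ := Triangle.yoneda_exact₃ T hT (a - b) h2
    let e := (shiftFunctorAdd' (Dual.D A) (n - 1) 1 n (by lia)).app K
    obtain ⟨g₀, hg₀⟩ := (shiftFunctor (Dual.D A) (1 : ℤ)).map_surjective
      (X := (DerivedCategory.singleFunctor (ModuleCat.{u} A) 0).obj (TF A)) (g ≫ e.hom)
    obtain ⟨g₁, rfl⟩ := (h (n - 1)).2 g₀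
    refine (cancel_mono e.hom).1 ?_
    rw [show a - b = δ ≫ g from hg, Category.assoc]
    change δ ≫ (g ≫ e.hom) = 0 ≫ e.hom
    rw [← hg₀, Functor.map_comp, ← Category.assoc]
    exact (congrArg (· ≫ g₁⟦(1 : ℤ)⟧') hδt).trans (zero_comp.trans zero_comp.symm)

lemma bij_precomp_iff_tBij (M : ModuleCat.{u} A) :
    Function.Bijective (fun h : TF A ⟶ M => telT f ≫ h) ↔ TBij M f := by
  let Φ : (TF A ⟶ M) ≃ (ℕ → M) :=
    { toFun := fun h n => h.hom (Finsupp.single n 1)
      invFun := fun x => ModuleCat.ofHom (Finsupp.linearCombination A x)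
      left_inv := fun h => by
        ext n
        simp
      right_inv := fun x => funext fun n => by simp }
  have : (fun h : TF A ⟶ M => telT f ≫ h) = Φ.symm ∘ tele M f ∘ Φ := by
    funext h
    refine Φ.injective ?_
    simp only [Function.comp_apply, Equiv.apply_symm_apply]
    funext n
    let hh : (ℕ →₀ A) →ₗ[A] M := h.hom
    change hh (telTl f (Finsupp.single n 1)) = hh (Finsupp.single n 1) - f • hh (Finsupp.single (n + 1) 1)
    rw [telTl_single, ← map_smul, ← map_sub, Finsupp.smul_single, smul_eq_mul]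
  rw [this]
  exact ⟨fun h => by simpa [Function.comp_def, TBij] using Φ.bijective.comp (h.comp Φ.symm.bijective),
    fun h => Φ.symm.bijective.comp (h.comp Φ.bijective)⟩

theorem tele_iff_HD (K : Dual.D A) :
    (∀ n : ℤ, Subsingleton (Dual.inD A (Localization.Away f) ⟶ K⟦n⟧)) ↔ ∀ n : ℤ, TBij (Dual.HD A K n) f := by
  rw [tele_iff_hom]
  refine forall_congr' fun n => ?_
  let H := DerivedCategory.homologyFunctor (ModuleCat.{u} A) 0
  have hev := ev0_bijective (P := TF A) (K⟦n⟧)
  have h1 : Function.Bijective (fun g : (DerivedCategory.singleFunctor (ModuleCat.{u} A) 0).obj (TF A) ⟶ K⟦n⟧ =>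
        (DerivedCategory.singleFunctor (ModuleCat.{u} A) 0).map (telT f) ≫ g) ↔
      Function.Bijective (fun h : TF A ⟶ H.obj (K⟦n⟧) => telT f ≫ h) := by
    have e : (fun h : TF A ⟶ H.obj (K⟦n⟧) => telT f ≫ h) ∘ (fun g => ev0 g) =
        (fun g => ev0 g) ∘ (fun g : (DerivedCategory.singleFunctor (ModuleCat.{u} A) 0).obj (TF A) ⟶ K⟦n⟧ =>
          (DerivedCategory.singleFunctor (ModuleCat.{u} A) 0).map (telT f) ≫ g) := by
      funext g
      exact (ev0_precomp _ _).symm
    rw [← Function.Bijective.of_comp_iff _ hev, e, Function.Bijective.of_comp_iff' hev]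
  rw [h1, bij_precomp_iff_tBij]
  let e : H.obj (K⟦n⟧) ≅ (DerivedCategory.homologyFunctor (ModuleCat.{u} A) n).obj K :=
    ((DerivedCategory.homologyFunctor (ModuleCat.{u} A) 0).shiftIso n 0 n (by lia)).app K
  exact ⟨fun h => h.of_equiv e.toLinearEquiv, fun h => h.of_equiv e.toLinearEquiv.symm⟩

theorem isDerivedComplete_iff (I : Ideal A) (K : Dual.D A) :
    DRing.IsDerivedComplete I K ↔ ∀ g ∈ I, ∀ n : ℤ, TBij (Dual.HD A K n) g :=
  forall₂_congr fun g _ => tele_iff_HD g K

/-- the module criterion -/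
theorem isDerivedComplete_inD_iff (I : Ideal A) (M : Type u) [AddCommGroup M] [Module A M] :
    DRing.IsDerivedComplete I (Dual.inD A M) ↔ ∀ g ∈ I, TBij M g := by
  rw [isDerivedComplete_iff]
  let e := ((DerivedCategory.singleFunctorCompHomologyFunctorIso (ModuleCat.{u} A) 0).app (ModuleCat.of A M)).toLinearEquiv
  refine forall₂_congr fun g _ => ⟨fun h => (h 0).of_equiv e, fun h n => ?_⟩
  by_cases hn : n = 0
  · subst hn
    exact h.of_equiv e.symm
  · haveI : Subsingleton (Dual.HD A (Dual.inD A M) n) := ModuleCat.subsingleton_of_isZero (by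
      rcases lt_or_gt_of_ne hn with h' | h'
      · exact DerivedCategory.isZero_of_isGE _ 0 n h'
      · exact DerivedCategory.isZero_of_isLE _ 0 n h')
    exact TBij.subsingleton g

end Groth.Agent.DRingKP
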