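import Mathlib.RingTheory.AdicCompletion.AsTensorProduct
import Mathlib.RingTheory.AdicCompletion.Completeness
import Mathlib.RingTheory.Flat.Tensor
import Mathlib.RingTheory.Filtration

/-!
`N̂ ⊗ M ≅ (N ⊗ M)^` for `N` flat and `M` finite over a Noetherian ring; flatness of `N̂`.
-/

set_option autoImplicit false
universe u

namespace Groth.Agent.DRingKP.TensCompl

open TensorProduct AdicCompletion LinearMap

variable {A : Type u} [CommRing A] (I : Ideal A)

section Exact

variable {U V W : Type u} [AddCommGroup U] [Module A U] [AddCommGroup V] [Module A V] [AddCommGroup W] [Module A W]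
  {f : U →ₗ[A] V} {g : V →ₗ[A] W}

/-- Artin–Rees for a linear map -/
def AR (f : U →ₗ[A] V) : Prop :=
  ∃ c : ℕ, ∀ (n : ℕ) (u : U), f u ∈ (I ^ (n + c) • ⊤ : Submodule A V) → u ∈ (I ^ n • ⊤ : Submodule A U)

lemma map_injective_of_AR (h : AR I f) : Function.Injective (AdicCompletion.map I f) := by
  obtain ⟨c, hc⟩ := h
  rw [← LinearMap.ker_eq_bot, LinearMap.ker_eq_bot']
  intro x
  apply AdicCompletion.induction_on I U x (fun a ↦ ?_)
  intro hx
  refine AdicCompletion.mk_zero_of _ _ _ ⟨0, fun n _ ↦ ⟨n + c, by lia, n, le_rfl, hc n _ ?_⟩⟩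
  simpa using congrArg (fun x ↦ x.val (n + c)) hx

lemma exists_map_eq_of_AR (h : AR I f) (hfg : Function.Exact f g) (hg : Function.Surjective g)
    (y : AdicCompletion I V) (hy : AdicCompletion.map I g y = 0) : ∃ x, AdicCompletion.map I f x = y := by
  obtain ⟨c, hc⟩ := h
  revert hy
  apply AdicCompletion.induction_on I V y (fun b ↦ ?_)
  intro hy
  have hb : ∀ n, g (b n) ∈ (I ^ n • ⊤ : Submodule A W) := fun n => by
    simpa using congrArg (fun x ↦ x.val n) hy
  have hk : ∀ n, ∃ k : U, f k - b n ∈ (I ^ n • ⊤ : Submodule A V) := fun n => by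
    have h1 : g (b n) ∈ Submodule.map g (I ^ n • ⊤ : Submodule A V) := by
      rw [Submodule.map_smul'', Submodule.map_top, LinearMap.range_eq_top.mpr hg]
      exact hb n
    obtain ⟨d, hd, hgd⟩ := h1
    obtain ⟨k, hk⟩ := (hfg (b n - d)).1 (by rw [map_sub, hgd, sub_self])
    exact ⟨k, by rw [hk, sub_sub_cancel_left]; exact Submodule.neg_mem _ hd⟩
  choose k hk using hk
  have hle : ∀ {m n : ℕ}, m ≤ n → (I ^ n • ⊤ : Submodule A V) ≤ I ^ m • ⊤ := fun h =>
    Submodule.smul_mono_left (Ideal.pow_le_pow_right h)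
  have hbc : ∀ {m n : ℕ}, m ≤ n → b n - b m ∈ (I ^ m • ⊤ : Submodule A V) := fun h =>
    (Submodule.Quotient.eq _).1 (AdicCauchySequence.mk_eq_mk h b)
  refine ⟨AdicCompletion.mk I U (AdicCauchySequence.mk I U (fun n => k (n + c)) fun n => ?_), ?_⟩
  · rw [SModEq.sub_mem]
    refine hc n _ ?_
    have : f (k (n + c) - k (n + 1 + c)) =
        (f (k (n + c)) - b (n + c)) - (b (n + 1 + c) - b (n + c)) - (f (k (n + 1 + c)) - b (n + 1 + c)) := by
      rw [map_sub]; abel
    rw [this]
    exact Submodule.sub_mem _ (Submodule.sub_mem _ (hk _) (hbc (by lia))) (hle (by lia) (hk _))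
  · ext n
    change Submodule.Quotient.mk (f (k (n + c))) = Submodule.Quotient.mk (b n)
    rw [Submodule.Quotient.eq]
    have : f (k (n + c)) - b n = (f (k (n + c)) - b (n + c)) + (b (n + c) - b n) := by abel
    rw [this]
    exact Submodule.add_mem _ (hle (by lia) (hk _)) (hbc (by lia))

end Exact

section Killed

variable {Q : Type u} [AddCommGroup Q] [Module A Q] (N : Type u) [AddCommGroup N] [Module A N]

lemma smul_top_tensor_eq_bot {J : Ideal A} (hJ : ∀ r ∈ J, ∀ x : Q, r • x = 0) :
    (J • ⊤ : Submodule A (N ⊗[A] Q)) = ⊥ := by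
  rw [eq_bot_iff, Submodule.smul_le]
  rintro r hr x -
  rw [Submodule.mem_bot]
  induction x using TensorProduct.induction_on with
  | zero => exact smul_zero r
  | tmul n q => rw [← tmul_smul, hJ r hr q, tmul_zero]
  | add a b ha hb => rw [smul_add, ha, hb, add_zero]

lemma of_bijective_of_killed {n : ℕ} (h : (I ^ n • ⊤ : Submodule A Q) = ⊥) :
    Function.Bijective (AdicCompletion.of I Q) := by
  haveI : IsHausdorff I Q := ⟨fun x hx => by
    have := hx n
    rw [h, SModEq.bot] at this
    exact this⟩
  haveI : IsPrecomplete I Q := ⟨fun f hf => ⟨f n, fun m => by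
    rcases le_total m n with hm | hm
    · exact hf hm
    · have := hf hm
      rw [h, SModEq.bot] at this
      rw [this]⟩⟩
  haveI : IsAdicComplete I Q := {}
  exact AdicCompletion.of_bijective I Q

end Killed

variable (N : Type u) [AddCommGroup N] [Module A N]

section AR

variable [IsNoetherianRing A] [Module.Flat A N] {P : Type u} [AddCommGroup P] [Module A P] [Module.Finite A P]

/-- Artin–Rees after tensoring with a flat module -/
lemma ar_lTensor_subtype (K : Submodule A P) : AR I (K.subtype.lTensor N) := by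
  obtain ⟨c, hc⟩ := Ideal.exists_pow_inf_eq_pow_smul I K
  refine ⟨c, fun n u hu => ?_⟩
  let φ : K →ₗ[A] P ⧸ (I ^ (n + c) • ⊤ : Submodule A P) := Submodule.mkQ _ ∘ₗ K.subtype
  have hkill : ∀ r ∈ I ^ (n + c), ∀ x : P ⧸ (I ^ (n + c) • ⊤ : Submodule A P), r • x = 0 := by
    intro r hr x
    induction x using Submodule.Quotient.induction_on with
    | _ p =>
      rw [← Submodule.Quotient.mk_smul, Submodule.Quotient.mk_eq_zero]
      exact Submodule.smul_mem_smul hr trivial
  have h0 : φ.lTensor N u = 0 := by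
    have h1 := Submodule.mem_map_of_mem (f := (Submodule.mkQ (I ^ (n + c) • ⊤ : Submodule A P)).lTensor N) hu
    have h2 : Submodule.map ((Submodule.mkQ (I ^ (n + c) • ⊤ : Submodule A P)).lTensor N) (I ^ (n + c) • ⊤) ≤ ⊥ := by
      rw [Submodule.map_smul'']
      exact (Submodule.smul_mono le_rfl le_top).trans (smul_top_tensor_eq_bot N hkill).le
    change ((Submodule.mkQ (I ^ (n + c) • ⊤ : Submodule A P)).comp K.subtype).lTensor N u = 0
    rw [LinearMap.lTensor_comp_apply]
    exact (Submodule.mem_bot A).1 (h2 h1)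
  obtain ⟨w, rfl⟩ := (Module.Flat.lTensor_exact N (LinearMap.exact_subtype_ker_map φ) u).1 h0
  have hker : LinearMap.ker φ ≤ (I ^ n • ⊤ : Submodule A K) := by
    intro x hx
    have hx' : (x : P) ∈ I ^ (n + c) • ⊤ ⊓ K := by
      refine ⟨?_, x.2⟩
      simpa [φ, Submodule.Quotient.mk_eq_zero] using hx
    rw [hc (n + c) (Nat.le_add_left c n), Nat.add_sub_cancel] at hx'
    have hx'' := Submodule.smul_mono le_rfl inf_le_right hx'
    have : I ^ n • K = Submodule.map K.subtype (I ^ n • ⊤ : Submodule A K) := by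
      rw [Submodule.map_smul'', Submodule.map_subtype_top]
    rw [this] at hx''
    obtain ⟨y, hy, hyx⟩ := hx''
    rw [show x = y from Subtype.ext hyx.symm]
    exact hy
  clear hu h0
  induction w using TensorProduct.induction_on with
  | zero => rw [_root_.map_zero]; exact Submodule.zero_mem _
  | add a b ha hb => rw [map_add]; exact Submodule.add_mem _ ha hb
  | tmul m k =>
    rw [lTensor_tmul]
    exact Submodule.smul_top_le_comap_smul_top (I ^ n) (TensorProduct.mk A N K m) (hker k.2)

end AR

section Theta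

variable {M M' : Type u} [AddCommGroup M] [Module A M] [AddCommGroup M'] [Module A M']

/-- `AdicCompletion.map` as a linear map in the map -/
noncomputable def mapL (U V : Type u) [AddCommGroup U] [Module A U] [AddCommGroup V] [Module A V] :
    (U →ₗ[A] V) →ₗ[A] (AdicCompletion I U →ₗ[A] AdicCompletion I V) where
  toFun f := (AdicCompletion.map I f).restrictScalars A
  map_add' f g := by
    refine LinearMap.ext fun x => AdicCompletion.ext fun n => ?_
    change (f + g).reduceModIdeal (I ^ n) (x.val n) = f.reduceModIdeal (I ^ n) (x.val n) + g.reduceModIdeal (I ^ n) (x.val n)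
    induction x.val n using Submodule.Quotient.induction_on with
    | _ p => rfl
  map_smul' r f := by
    refine LinearMap.ext fun x => AdicCompletion.ext fun n => ?_
    change (r • f).reduceModIdeal (I ^ n) (x.val n) = r • f.reduceModIdeal (I ^ n) (x.val n)
    induction x.val n using Submodule.Quotient.induction_on with
    | _ p => rfl

variable (M) in
/-- `N̂ ⊗ M → (N ⊗ M)^` -/
noncomputable def θ : AdicCompletion I N ⊗[A] M →ₗ[A] AdicCompletion I (N ⊗[A] M) :=
  TensorProduct.lift (mapL I N (N ⊗[A] M) ∘ₗ (TensorProduct.mk A N M).flip).flip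

lemma θ_tmul (x : AdicCompletion I N) (m : M) :
    θ I N M (x ⊗ₜ m) = AdicCompletion.map I ((TensorProduct.mk A N M).flip m) x := rfl

lemma θ_of_tmul (x : N) (m : M) : θ I N M (AdicCompletion.of I N x ⊗ₜ m) = AdicCompletion.of I _ (x ⊗ₜ m) := rfl

lemma θ_rTensor_of (z : N ⊗[A] M) : θ I N M ((AdicCompletion.of I N).rTensor M z) = AdicCompletion.of I _ z := by
  induction z using TensorProduct.induction_on with
  | zero => simp
  | tmul x m => exact θ_of_tmul I N x m
  | add a b ha hb => rw [map_add, map_add, map_add, ha, hb]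

lemma θ_naturality (g : M →ₗ[A] M') (z : AdicCompletion I N ⊗[A] M) :
    θ I N M' (g.lTensor _ z) = AdicCompletion.map I (g.lTensor N) (θ I N M z) := by
  induction z using TensorProduct.induction_on with
  | zero => simp
  | add a b ha hb => rw [map_add, map_add, map_add, map_add, ha, hb]
  | tmul x m =>
    rw [lTensor_tmul, θ_tmul, θ_tmul, AdicCompletion.map_comp_apply]
    rfl

open scoped Classical in
lemma θ_bijective_pi (ι : Type) [Fintype ι] : Function.Bijective (θ I N (ι → A)) := by
  let π : ι → (N ⊗[A] (ι → A) →ₗ[A] N) := fun i => (TensorProduct.rid A N).toLinearMap ∘ₗ (LinearMap.proj i).lTensor N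
  let e : ι → (ι → A) := fun i => Pi.single i 1
  have hπ : ∀ i v, π i ∘ₗ (TensorProduct.mk A N (ι → A)).flip v = v i • LinearMap.id := fun i v =>
    LinearMap.ext fun n => by simp [π]
  have hv : ∀ v : ι → A, ∑ i, v i • e i = v := fun v => (pi_eq_sum_univ' v).symm
  have hsum : ∑ i, (TensorProduct.mk A N (ι → A)).flip (e i) ∘ₗ π i = LinearMap.id := by
    refine TensorProduct.ext' fun n v => ?_
    simp only [LinearMap.sum_apply, LinearMap.comp_apply, LinearMap.id_apply]
    have : ∀ i, ((TensorProduct.mk A N (ι → A)).flip (e i)) (π i (n ⊗ₜ[A] v)) = n ⊗ₜ[A] (v i • e i) := fun i => by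
      simp [π]
    simp only [this, ← TensorProduct.tmul_sum, e]
    exact congrArg _ (hv v)
  let ψ : AdicCompletion I (N ⊗[A] (ι → A)) →ₗ[A] AdicCompletion I N ⊗[A] (ι → A) :=
    ∑ i, (TensorProduct.mk A (AdicCompletion I N) (ι → A)).flip (e i) ∘ₗ mapL I _ _ (π i)
  refine Function.bijective_iff_has_inverse.2 ⟨ψ, fun z => ?_, fun y => ?_⟩
  · change (ψ ∘ₗ θ I N (ι → A)) z = LinearMap.id (R := A) z
    congr 1
    refine TensorProduct.ext' fun x v => ?_
    have : ∀ i, mapL I _ _ (π i) (θ I N (ι → A) (x ⊗ₜ[A] v)) = v i • x := fun i => by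
      rw [θ_tmul]
      change AdicCompletion.map I (π i) _ = _
      rw [AdicCompletion.map_comp_apply, hπ]
      change mapL I N N (v i • LinearMap.id) x = _
      rw [map_smul, LinearMap.smul_apply]
      change v i • AdicCompletion.map I LinearMap.id x = _
      rw [AdicCompletion.map_id, LinearMap.id_apply]
    simp only [ψ, LinearMap.comp_apply, LinearMap.sum_apply, this, LinearMap.flip_apply, TensorProduct.mk_apply,
      TensorProduct.smul_tmul, ← TensorProduct.tmul_sum, LinearMap.id_apply, e]
    exact congrArg _ (hv v)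
  · simp only [ψ, LinearMap.sum_apply, LinearMap.comp_apply, map_sum, LinearMap.flip_apply, TensorProduct.mk_apply, θ_tmul]
    have : ∀ i, AdicCompletion.map I ((TensorProduct.mk A N (ι → A)).flip (e i)) (mapL I _ _ (π i) y) =
        mapL I _ _ ((TensorProduct.mk A N (ι → A)).flip (e i) ∘ₗ π i) y := fun i =>
      AdicCompletion.map_comp_apply I (π i) _ y
    simp only [this, ← LinearMap.sum_apply, ← map_sum, hsum]
    change AdicCompletion.map I LinearMap.id y = y
    rw [AdicCompletion.map_id, LinearMap.id_apply]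

variable (M) in
lemma θ_surjective [Module.Finite A M] : Function.Surjective (θ I N M) := by
  obtain ⟨n, g, hg⟩ := Module.Finite.exists_fin' A M
  intro y
  obtain ⟨x, rfl⟩ := AdicCompletion.map_surjective I (LinearMap.lTensor_surjective N hg) y
  obtain ⟨w, rfl⟩ := (θ_bijective_pi I N (Fin n)).2 x
  exact ⟨g.lTensor _ w, θ_naturality I N g w⟩

variable (M) in
lemma θ_bijective [IsNoetherianRing A] [Module.Flat A N] [Module.Finite A M] : Function.Bijective (θ I N M) := by
  refine ⟨?_, θ_surjective I N M⟩
  obtain ⟨n, g, hg⟩ := Module.Finite.exists_fin' A M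
  rw [← LinearMap.ker_eq_bot, LinearMap.ker_eq_bot']
  intro z hz
  obtain ⟨w, rfl⟩ := LinearMap.lTensor_surjective (AdicCompletion I N) hg z
  rw [θ_naturality] at hz
  have hfg : Function.Exact (LinearMap.ker g).subtype g := LinearMap.exact_subtype_ker_map g
  obtain ⟨x, hx⟩ := exists_map_eq_of_AR I (ar_lTensor_subtype I N (LinearMap.ker g))
    (lTensor_exact N hfg hg) (LinearMap.lTensor_surjective N hg) _ hz
  obtain ⟨v, rfl⟩ := θ_surjective I N (LinearMap.ker g) x
  rw [← θ_naturality] at hx
  rw [← (θ_bijective_pi I N (Fin n)).1 hx]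
  exact (lTensor_exact (AdicCompletion I N) hfg hg).apply_apply_eq_zero v

theorem flat_adicCompletion [IsNoetherianRing A] [Module.Flat A N] : Module.Flat A (AdicCompletion I N) := by
  rw [Module.Flat.iff_lTensor_injective']
  intro J a b hab
  apply (θ_bijective I N J).1
  apply map_injective_of_AR I (ar_lTensor_subtype I N (J : Submodule A A))
  exact ((θ_naturality I N (J : Submodule A A).subtype a).symm.trans (congrArg _ hab)).trans
    (θ_naturality I N (J : Submodule A A).subtype b)

/-- the comparison as an equivalence -/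
noncomputable def θEquiv (M : Type u) [AddCommGroup M] [Module A M] [IsNoetherianRing A] [Module.Flat A N]
    [Module.Finite A M] : AdicCompletion I N ⊗[A] M ≃ₗ[A] AdicCompletion I (N ⊗[A] M) :=
  LinearEquiv.ofBijective (θ I N M) (θ_bijective I N M)

lemma rTensor_of_bijective [IsNoetherianRing A] [Module.Flat A N] [Module.Finite A M] {J : Ideal A} {n : ℕ}
    (hIJ : I ^ n ≤ J) (hJ : ∀ r ∈ J, ∀ x : M, r • x = 0) :
    Function.Bijective ((AdicCompletion.of I N).rTensor M) := by
  refine (Function.Bijective.of_comp_iff' (θ_bijective I N M) _).1 ?_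
  have e : θ I N M ∘ (AdicCompletion.of I N).rTensor M = AdicCompletion.of I _ := funext fun z => θ_rTensor_of I N z
  rw [e]
  exact of_bijective_of_killed I (n := n) (smul_top_tensor_eq_bot N fun r hr x => hJ r (hIJ hr) x)

end Theta

end Groth.Agent.DRingKP.TensCompl
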