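import Groth.Agent.DRingKP.DCFinite
import Groth.Agent.DRingKP.TensCompl

/-!
The derived completion of `N ⊗ M`, `N` flat and `M` finite over a Noetherian ring.
-/

set_option autoImplicit false
set_option linter.style.haveILetI false
universe u

namespace Groth.Agent.DRingKP

open CategoryTheory Limits DerivedCategory Pretriangulated MonoidalCategory
open CochainComplex (mappingCone)
open scoped TensorProduct

attribute [local instance] HasDerivedCategory.standard

lemma Univ.iso_comp {A : Type u} [CommRing A] {s : List A} {W X Y : Dual.D A} (v : W ≅ X) {u : X ⟶ Y}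
    (h : Univ s u) : Univ s (v.hom ≫ u) := fun E hE => by
  simp only [Category.assoc]
  exact (show Function.Bijective (fun g : X ⟶ E => v.hom ≫ g) from
    ⟨fun a b hab => (cancel_epi v.hom).1 hab, fun g => ⟨v.inv ≫ g, v.hom_inv_id_assoc g⟩⟩).comp (h E hE)

set_option backward.defeqAttrib.useBackward true in
set_option backward.isDefEq.respectTransparency false in
open CochainComplex in
lemma cone_natTrans {V W : Type*} [Category V] [Category W] [Preadditive V] [Preadditive W] [HasBinaryBiproducts V]
    [HasBinaryBiproducts W] {G F : V ⥤ W} [G.Additive] [F.Additive] (α : G ⟶ F) {K L : CochainComplex V ℤ} (φ : K ⟶ L) :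
    (mappingCone.mapHomologicalComplexIso φ G).hom ≫
      mappingCone.map _ _ ((NatTrans.mapHomologicalComplex α _).app K) ((NatTrans.mapHomologicalComplex α _).app L)
        ((NatTrans.mapHomologicalComplex α _).naturality φ) =
      (NatTrans.mapHomologicalComplex α _).app (mappingCone φ) ≫ (mappingCone.mapHomologicalComplexIso φ F).hom := by
  ext n : 1
  simp only [HomologicalComplex.comp_f, CochainComplex.mappingCone.mapHomologicalComplexIso,
    HomologicalComplex.Hom.isoOfComponents_hom_f, mappingCone.mapHomologicalComplexXIso_eq _ _ n (n + 1) rfl]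
  rw [mappingCone.ext_to_iff _ n (n + 1) rfl]
  constructor
  · simp [mappingCone.map, Preadditive.add_comp, Preadditive.comp_add]
  · simp [mappingCone.map, Preadditive.add_comp, Preadditive.comp_add]

set_option backward.defeqAttrib.useBackward true in
set_option backward.isDefEq.respectTransparency false in
lemma single_natTrans {V W : Type*} [Category V] [Category W] [Preadditive V] [Preadditive W] [HasZeroObject V]
    [HasZeroObject W] {G F : V ⥤ W} [G.Additive] [F.Additive] (α : G ⟶ F) (X : V) :
    (HomologicalComplex.singleMapHomologicalComplex G (ComplexShape.up ℤ) 0).inv.app X ≫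
      (NatTrans.mapHomologicalComplex α _).app ((HomologicalComplex.single V (ComplexShape.up ℤ) 0).obj X) ≫
      (HomologicalComplex.singleMapHomologicalComplex F (ComplexShape.up ℤ) 0).hom.app X =
      (HomologicalComplex.single W (ComplexShape.up ℤ) 0).map (α.app X) := by
  refine HomologicalComplex.to_single_hom_ext ?_
  rw [HomologicalComplex.single_map_f_self]
  simp only [HomologicalComplex.comp_f, HomologicalComplex.singleMapHomologicalComplex_inv_app_self,
    HomologicalComplex.singleMapHomologicalComplex_hom_app_self, NatTrans.mapHomologicalComplex_app_f, Category.assoc]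
  simp [← Functor.map_comp_assoc]

namespace TensCompl

variable {A : Type u} [CommRing A] (I : Ideal A) (N : Type u) [AddCommGroup N] [Module A N]

/-- `M ↦ N ⊗ M` -/
noncomputable abbrev tG : ModuleCat.{u} A ⥤ ModuleCat.{u} A := tensorLeft (ModuleCat.of A N)

/-- `M ↦ N̂ ⊗ M` -/
noncomputable abbrev tF : ModuleCat.{u} A ⥤ ModuleCat.{u} A := tensorLeft (ModuleCat.of A (AdicCompletion I N))

/-- `N ⊗ M → N̂ ⊗ M` -/
noncomputable def tη : tG N ⟶ tF I N :=
  (tensoringLeft (ModuleCat.{u} A)).map (ModuleCat.ofHom (AdicCompletion.of I N))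

lemma tη_app (M : ModuleCat.{u} A) :
    ((tη I N).app M).hom = (AdicCompletion.of I N).rTensor M := rfl

/-- on complexes -/
noncomputable def tι : (tG N).mapHomologicalComplex (ComplexShape.up ℤ) ⟶ (tF I N).mapHomologicalComplex (ComplexShape.up ℤ) :=
  NatTrans.mapHomologicalComplex (tη I N) _

section Flat

variable [Module.Flat A N]

instance : (tG (A := A) N).PreservesHomology := by
  haveI : Module.Flat A (ModuleCat.of A N) := inferInstanceAs (Module.Flat A N)
  exact Functor.preservesHomology_of_map_exact _ fun S hS => Module.Flat.lTensor_shortComplex_exact _ S hS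

variable [IsNoetherianRing A]

instance : (tF I N).PreservesHomology := by
  haveI : Module.Flat A (ModuleCat.of A (AdicCompletion I N)) := flat_adicCompletion I N
  exact Functor.preservesHomology_of_map_exact _ fun S hS => Module.Flat.lTensor_shortComplex_exact _ S hS

lemma isIso_tη {J : Ideal A} {n : ℕ} (hIJ : I ^ n ≤ J) (M : ModuleCat.{u} A) [Module.Finite A M]
    (hJ : ∀ r ∈ J, ∀ x : M, r • x = 0) : IsIso ((tη I N).app M) :=
  (ConcreteCategory.isIso_iff_bijective _).2 (rTensor_of_bijective I N hIJ hJ)

/-- a natural transformation of homology preserving functors on a complex -/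
lemma quasiIso_tι (C : DRing.Cx A) (h : ∀ n, IsIso ((tη I N).app (C.homology n))) :
    QuasiIso ((tι I N).app C) := by
  rw [quasiIso_iff]
  intro n
  rw [quasiIsoAt_iff_isIso_homologyMap]
  change IsIso (ShortComplex.homologyMap ((C.sc n).mapNatTrans (tη I N)))
  rw [ShortComplex.homologyMap_mapNatTrans]
  haveI : IsIso ((tη I N).app (C.sc n).homology) := h n
  infer_instance

/-- `N ⊗ C → N̂ ⊗ C` is universal among maps to complexes complete along `s` -/
theorem univ_tι : ∀ (s : List A) (C : DRing.Cx A) (J : Ideal A), (∀ i, Module.Finite A (C.homology i)) →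
    (∀ r ∈ J, ∀ (i : ℤ) (x : C.homology i), r • x = 0) → I ≤ (J ⊔ Ideal.span {x | x ∈ s}).radical →
    Univ s (DerivedCategory.Q.map ((tι I N).app C)) := by
  intro s
  induction s with
  | nil =>
    intro C J hfin hJ hI
    simp only [List.not_mem_nil, Set.setOf_false, Ideal.span_empty, sup_bot_eq] at hI
    obtain ⟨k, hk⟩ := Ideal.exists_pow_le_of_le_radical_of_fg hI (IsNoetherian.noetherian I)
    haveI := quasiIso_tι I N C fun n => haveI := hfin n; isIso_tη I N hk _ fun r hr x => hJ r hr n x
    exact Univ.of_isIso _ _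
  | cons f s ih =>
    intro C J hfin hJ hI
    let C' := mappingCone (f • 𝟙 C)
    have hC' := fun n => cone_smul_homology f C n hfin
    let G' := (tG (A := A) N).mapHomologicalComplex (ComplexShape.up ℤ)
    let F' := (tF I N).mapHomologicalComplex (ComplexShape.up ℤ)
    have hG : G'.map (f • 𝟙 C) = f • 𝟙 (G'.obj C) := by
      refine HomologicalComplex.hom_ext _ _ fun i => ?_
      change (tG N).map (f • 𝟙 (C.X i)) = f • 𝟙 ((tG N).obj (C.X i))
      rw [Functor.map_smul, CategoryTheory.Functor.map_id]
    have hF : F'.map (f • 𝟙 C) = f • 𝟙 (F'.obj C) := by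
      refine HomologicalComplex.hom_ext _ _ fun i => ?_
      change (tF I N).map (f • 𝟙 (C.X i)) = f • 𝟙 ((tF I N).obj (C.X i))
      rw [Functor.map_smul, CategoryTheory.Functor.map_id]
    have h' := ih C' (J * J ⊔ Ideal.span {f * f}) (fun n => (hC' n).1) (fun r hr n z => ?_) (hI.trans ?_)
    · refine univ_step f ((tι I N).app C) (G'.map (f • 𝟙 C)) (F'.map (f • 𝟙 C)) hG hF ((tι I N).naturality _) ?_
      let eG := CochainComplex.mappingCone.mapHomologicalComplexIso (f • 𝟙 C) (tG (A := A) N)
      let eF := CochainComplex.mappingCone.mapHomologicalComplexIso (f • 𝟙 C) (tF I N)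
      have e : CochainComplex.mappingCone.map (G'.map (f • 𝟙 C)) (F'.map (f • 𝟙 C)) ((tι I N).app C) ((tι I N).app C)
          ((tι I N).naturality _) = eG.inv ≫ (tι I N).app C' ≫ eF.hom := by
        rw [Iso.eq_inv_comp]
        exact cone_natTrans (tη I N) (f • 𝟙 C)
      rw [e, Functor.map_comp, Functor.map_comp]
      exact Univ.iso_comp (DerivedCategory.Q.mapIso eG.symm) (Univ.of_comp_iso (DerivedCategory.Q.mapIso eF) h')
    · obtain ⟨a, ha, b, hb, rfl⟩ := Submodule.mem_sup.1 hr
      obtain ⟨c, rfl⟩ := Ideal.mem_span_singleton.1 hb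
      clear hr
      have hz := (hC' n).2.1 z
      rw [add_smul]
      have h1 : a • z = 0 := by
        induction ha using Submodule.mul_induction_on' with
        | mem_mul_mem r hr r' hr' => rw [mul_smul]; exact (hC' n).2.2 r r' (hJ r hr n) (hJ r' hr' (n + 1)) z
        | add x _ y _ hx hy => rw [add_smul, hx, hy, add_zero]
      rw [h1, zero_add, mul_comm (f * f) c, mul_smul, mul_smul, hz, smul_zero]
    · refine Ideal.radical_le_radical_iff.2 (sup_le ?_ (Ideal.span_le.2 fun x hx => ?_))
      · exact fun r hr => ⟨2, Ideal.mem_sup_left (Ideal.mem_sup_left (by rw [sq]; exact Ideal.mul_mem_mul hr hr))⟩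
      · rcases List.mem_cons.1 hx with rfl | hx
        · exact ⟨2, Ideal.mem_sup_left (Ideal.mem_sup_right (by rw [sq]; exact Ideal.mem_span_singleton_self _))⟩
        · exact Ideal.le_radical (Ideal.mem_sup_right (Ideal.subset_span hx))

variable (M : Type u) [AddCommGroup M] [Module A M] [Module.Finite A M]

lemma single_tι : ((HomologicalComplex.singleMapHomologicalComplex (tG (A := A) N) (ComplexShape.up ℤ) 0).inv.app (ModuleCat.of A M)) ≫
      (tι I N).app ((HomologicalComplex.single _ (ComplexShape.up ℤ) 0).obj (ModuleCat.of A M)) ≫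
      ((HomologicalComplex.singleMapHomologicalComplex (tF I N) (ComplexShape.up ℤ) 0).hom.app (ModuleCat.of A M)) =
      (HomologicalComplex.single _ (ComplexShape.up ℤ) 0).map ((tη I N).app (ModuleCat.of A M)) :=
  single_natTrans (tη I N) _

theorem univ_of {s : List A} (hs : Ideal.span {x | x ∈ s} = I) :
    Univ s ((DerivedCategory.singleFunctor (ModuleCat.{u} A) 0).map
      (ModuleCat.ofHom (AdicCompletion.of I (M ⊗[A] N)))) := by
  let C := (HomologicalComplex.single _ (ComplexShape.up ℤ) 0).obj (ModuleCat.of A M)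
  have hfin : ∀ i, Module.Finite A (C.homology i) := fun i => by
    by_cases h : i = 0
    · subst h
      exact Module.Finite.equiv
        (HomologicalComplex.singleObjHomologySelfIso (ComplexShape.up ℤ) 0 (ModuleCat.of A M)).toLinearEquiv.symm
    · haveI := ModuleCat.subsingleton_of_isZero
        (HomologicalComplex.isZero_single_obj_homology (ComplexShape.up ℤ) 0 (ModuleCat.of A M) i h)
      infer_instance
  have hU := univ_tι I N s C ⊥ hfin (fun r hr i x => by rw [(Submodule.mem_bot A).1 hr, zero_smul])
    (by rw [bot_sup_eq, hs]; exact Ideal.le_radical)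
  have h1 := Univ.iso_comp
    (DerivedCategory.Q.mapIso
      ((HomologicalComplex.singleMapHomologicalComplex (tG (A := A) N) (ComplexShape.up ℤ) 0).app (ModuleCat.of A M)).symm)
    (Univ.of_comp_iso
      (DerivedCategory.Q.mapIso
        ((HomologicalComplex.singleMapHomologicalComplex (tF I N) (ComplexShape.up ℤ) 0).app (ModuleCat.of A M))) hU)
  simp only [Functor.mapIso_hom, Iso.symm_hom, Iso.app_inv, Iso.app_hom, C, ← Functor.map_comp, single_tι] at h1
  let a : ModuleCat.of A (M ⊗[A] N) ≅ (tG N).obj (ModuleCat.of A M) := (TensorProduct.comm A M N).toModuleIso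
  let b : (tF I N).obj (ModuleCat.of A M) ≅ ModuleCat.of A (AdicCompletion I (M ⊗[A] N)) :=
    ((θEquiv I N M).trans ((AdicCompletion.congr I (TensorProduct.comm A N M)).restrictScalars A)).toModuleIso
  have e : ModuleCat.ofHom (AdicCompletion.of I (M ⊗[A] N)) = a.hom ≫ (tη I N).app (ModuleCat.of A M) ≫ b.hom := by
    refine ModuleCat.hom_ext (LinearMap.ext fun x => ?_)
    change AdicCompletion.of I (M ⊗[A] N) x =
      AdicCompletion.map I (TensorProduct.comm A N M).toLinearMap
        (θ I N M ((AdicCompletion.of I N).rTensor M (TensorProduct.comm A M N x)))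
    rw [θ_rTensor_of, AdicCompletion.map_of]
    exact congrArg _ ((TensorProduct.comm A M N).symm_apply_apply x).symm
  rw [e, Functor.map_comp, Functor.map_comp]
  exact Univ.iso_comp ((DerivedCategory.singleFunctor (ModuleCat.{u} A) 0).mapIso a)
    (Univ.of_comp_iso ((DerivedCategory.singleFunctor (ModuleCat.{u} A) 0).mapIso b) h1)

omit [Module.Flat A N] [IsNoetherianRing A] [Module.Finite A M] in
lemma subsingleton_HD_inD (i : ℤ) (hi : i ≠ 0) : Subsingleton (Dual.HD A (Dual.inD A M) i) :=
  ModuleCat.subsingleton_of_isZero (IsZero.of_iso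
    (HomologicalComplex.isZero_single_obj_homology (ComplexShape.up ℤ) 0 (ModuleCat.of A M) i hi)
    ((DerivedCategory.homologyFunctorFactors (ModuleCat.{u} A) i).app _))

omit [Module.Flat A N] [Module.Finite A M] in
lemma cAlong_inD_completion {f : A} (hf : f ∈ I) :
    CAlong f (Dual.inD A (AdicCompletion I M)) := fun i => by
  by_cases h : i = 0
  · subst h
    haveI : IsAdicComplete I (AdicCompletion I M) := AdicCompletion.isAdicComplete (IsNoetherian.noetherian I)
    exact (TBij.of_isAdicComplete (M := AdicCompletion I M) I hf).of_equiv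
      ((DerivedCategory.singleFunctorCompHomologyFunctorIso (ModuleCat.{u} A) 0).app
        (ModuleCat.of A (AdicCompletion I M))).toLinearEquiv.symm
  · haveI := subsingleton_HD_inD (A := A) (AdicCompletion I M) i h
    exact TBij.subsingleton f

theorem completion_tensor [DRing.HasDerivedCompletion I] :
    (∀ i : ℤ, i ≠ 0 → Subsingleton (Dual.HD A ((DRing.derivedCompletion I).obj (Dual.inD A (M ⊗[A] N))).obj i)) ∧
      ∃ e : Dual.HD A ((DRing.derivedCompletion I).obj (Dual.inD A (M ⊗[A] N))).obj 0 ≃ₗ[A]
          AdicCompletion I (M ⊗[A] N),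
        ∀ x : M ⊗[A] N,
          e ((((DerivedCategory.singleFunctorCompHomologyFunctorIso (ModuleCat.{u} A) 0).inv.app
                (ModuleCat.of A (M ⊗[A] N))) ≫
              (DerivedCategory.homologyFunctor (ModuleCat.{u} A) 0).map
                (DRing.toDerivedCompletion I (Dual.inD A (M ⊗[A] N)))).hom x) =
            AdicCompletion.of I (M ⊗[A] N) x := by
  obtain ⟨s, hs⟩ := IsNoetherian.noetherian I
  have hs' : Ideal.span {x | x ∈ s.toList} = I := by simpa using hs
  let L := Dual.inD A (AdicCompletion I (M ⊗[A] N))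
  have hL : DRing.IsDerivedComplete I L := (isDerivedComplete_span_iff _ I hs' L).2 fun f hf =>
    cAlong_inD_completion I _ (hs' ▸ Ideal.subset_span hf)
  let u := (DerivedCategory.singleFunctor (ModuleCat.{u} A) 0).map (ModuleCat.ofHom (AdicCompletion.of I (M ⊗[A] N)))
  obtain ⟨v, hv⟩ := exists_iso_completion I (K := Dual.inD A (M ⊗[A] N)) (L := L) u hL fun E hE =>
    univ_of I N M hs' E ((isDerivedComplete_span_iff _ I hs' E).1 hE)
  let σ := DerivedCategory.singleFunctorCompHomologyFunctorIso (ModuleCat.{u} A) 0
  let H := fun i => DerivedCategory.homologyFunctor (ModuleCat.{u} A) i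
  refine ⟨fun i hi => ?_,
    ((((H 0).mapIso v).symm ≪≫ σ.app (ModuleCat.of A (AdicCompletion I (M ⊗[A] N)))).toLinearEquiv), fun x => ?_⟩
  · haveI := subsingleton_HD_inD (A := A) (AdicCompletion I (M ⊗[A] N)) i hi
    exact ((H i).mapIso v).toLinearEquiv.toEquiv.symm.subsingleton
  · have key : (σ.inv.app (ModuleCat.of A (M ⊗[A] N)) ≫ (H 0).map (DRing.toDerivedCompletion I (Dual.inD A (M ⊗[A] N)))) ≫
        ((H 0).map v.inv ≫ σ.hom.app (ModuleCat.of A (AdicCompletion I (M ⊗[A] N)))) =
        ModuleCat.ofHom (AdicCompletion.of I (M ⊗[A] N)) := by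
      rw [← hv, Category.assoc, ← Functor.map_comp_assoc, Category.assoc, Iso.hom_inv_id, Category.comp_id]
      refine (congrArg (σ.inv.app _ ≫ ·) (σ.hom.naturality (ModuleCat.ofHom (AdicCompletion.of I (M ⊗[A] N))))).trans ?_
      exact σ.inv_hom_id_app_assoc _ _
    exact LinearMap.congr_fun (congrArg ModuleCat.Hom.hom key) x

end Flat

end TensCompl

end Groth.Agent.DRingKP
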