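import Groth.Agent.DRingKP.DCUniv
import Groth.Agent.DRingKP.LTensorCx
import Groth.Agent.DRingKP.TorMore
import Groth.Agent.DRingKP.Coherent
import Groth.Agent.RHomMod.Completion
import Groth.Agent.MapBifunctorCone.Basic

/-!
Derived completion commutes with `- ⊗^L F`, `F` bounded above and termwise finite free.
-/

set_option autoImplicit false
set_option maxHeartbeats 1000000
set_option linter.style.haveILetI false
set_option backward.isDefEq.respectTransparency false
set_option backward.isDefEq.respectTransparency.types false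
universe u

namespace Groth.Agent.DRingKP.DCTensorCx

open CategoryTheory Limits DerivedCategory MonoidalCategory Pretriangulated
open CochainComplex (mappingCone)
open Groth.Agent.RGammaI (NoHom IsMulCone)
open scoped TensorProduct

attribute [local instance] HasDerivedCategory.standard

variable {A : Type u} [CommRing A]

lemma tBij_pi {H : Type u} [AddCommGroup H] [Module A H] {f : A} (ι : Type u) (h : TBij H f) : TBij (ι → H) f := by
  refine ⟨fun a b hab => funext fun k => funext fun i => ?_, fun d => ?_⟩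
  · exact congrFun (h.1 (show tele H f (fun k => a k i) = tele H f (fun k => b k i) from
      funext fun k => congrFun (congrFun hab k) i)) k
  · choose y hy using fun i => h.2 fun k => d k i
    exact ⟨fun k i => y i k, funext fun k => funext fun i => congrFun (hy i) k⟩

lemma tBij_tensor {H M : Type u} [AddCommGroup H] [Module A H] [AddCommGroup M] [Module A M] [Module.Finite A M]
    [Module.Free A M] {f : A} (h : TBij H f) : TBij (H ⊗[A] M) f := by
  classical
  rcases subsingleton_or_nontrivial A with hA | hA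
  · haveI : Subsingleton (H ⊗[A] M) := Module.subsingleton A _
    exact TBij.subsingleton f
  let ι := Module.Free.ChooseBasisIndex A M
  exact (tBij_pi ι h).of_equiv
    ((TensorProduct.congr (LinearEquiv.refl A H) (Module.Free.chooseBasis A M).equivFun).trans
      (TensorProduct.piScalarRight A A H ι)).symm

/-- `L ⊗ M[-m]` is complete along `f` with `L`, for `M` finite free -/
lemma cAlong_single (f : A) (M : ModuleCat.{u} A) [Module.Finite A M] [Module.Free A M] (m : ℤ) (L : DRing.Cx A)
    (hL : CAlong f (DerivedCategory.Q.obj L)) :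
    CAlong f (DerivedCategory.Q.obj (L ⊗ (HomologicalComplex.single _ (ComplexShape.up ℤ) m).obj M)) := fun n => by
  let G := L ⊗ (HomologicalComplex.single _ (ComplexShape.up ℤ) m).obj M
  obtain ⟨p, rfl⟩ : ∃ p, p + 1 + m = n := ⟨n - m - 1, by lia⟩
  let T : ModuleCat.{u} A ⥤ ModuleCat.{u} A := (tB A).flip.obj M
  haveI : T.PreservesHomology := Functor.preservesHomology_of_map_exact T fun S' hS =>
    (flatObj_iff A M).2 inferInstance S' hS
  let e₁ : (L.sc' p (p + 1) (p + 1 + 1)).map T ≅ G.sc' (p + m) (p + 1 + m) (p + 1 + m + 1) :=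
    ShortComplex.isoMk (KFlat.singleXIso (tB A) L M m p (p + m) rfl)
      (KFlat.singleXIso (tB A) L M m (p + 1) (p + 1 + m) rfl)
      (KFlat.singleXIso (tB A) L M m (p + 1 + 1) (p + 1 + m + 1) (by lia))
      (KFlat.singleXIso_comm' (tB A) L M m p (p + m) (p + 1 + m) rfl (by lia))
      (KFlat.singleXIso_comm (tB A) L M m (p + 1) (p + 1 + m) rfl)
  let eL : L.homology (p + 1) ≅ (L.sc' p (p + 1) (p + 1 + 1)).homology :=
    ShortComplex.homologyMapIso (L.isoSc' p (p + 1) (p + 1 + 1) (by simp) (by simp))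
  let eG : G.homology (p + 1 + m) ≅ (G.sc' (p + m) (p + 1 + m) (p + 1 + m + 1)).homology :=
    ShortComplex.homologyMapIso (G.isoSc' (p + m) (p + 1 + m) (p + 1 + m + 1) (by simp; lia) (by simp))
  let e : T.obj (L.homology (p + 1)) ≅ G.homology (p + 1 + m) :=
    T.mapIso eL ≪≫ ((L.sc' p (p + 1) (p + 1 + 1)).mapHomologyIso T).symm ≪≫
      ShortComplex.homologyMapIso e₁ ≪≫ eG.symm
  have h0 : TBij (L.homology (p + 1)) f := (hL (p + 1)).of_equiv
    ((DerivedCategory.homologyFunctorFactors (ModuleCat.{u} A) (p + 1)).app L).toLinearEquiv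
  have h1 : TBij ((L.homology (p + 1) : ModuleCat.{u} A) ⊗[A] M) f := tBij_tensor h0
  exact h1.of_equiv ((e ≪≫ ((DerivedCategory.homologyFunctorFactors (ModuleCat.{u} A) (p + 1 + m)).app G).symm).toLinearEquiv)

lemma shortExact_σSeq_tensor (E L : DRing.Cx A) (hE : ∀ i, Projective (E.X i)) (n : ℤ) :
    ((σSeq E n).map ((KFlat.tens (tB A)).obj L)).ShortExact := by
  refine KFlat.shortExact_tens_obj L (σSeq E n) fun p q => ?_
  have hs := (σSeq_shortExact E n).map_of_exact (HomologicalComplex.eval _ _ q)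
  haveI : Projective ((σSeq E n).map (HomologicalComplex.eval _ _ q)).X₃ := by
    by_cases h : n ≤ q
    · exact Projective.of_iso (isZero_σQuot E n q h).isoZero.symm inferInstance
    · haveI := isIso_σπ_f E n q (not_le.1 h)
      exact Projective.of_iso (asIso ((σSeq E n).g.f q)) (hE q)
  exact (hs.splittingOfProjective.map ((tB A).obj (L.X p))).shortExact

lemma projective_of_finiteFree {E : DRing.Cx A} (h : DRing.TermwiseFiniteFree E) (i : ℤ) : Projective (E.X i) :=
  projective_X (termwiseFiniteProjective_of_free h) i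

/-- `L ⊗ E` is complete along `f` with `L`, for bounded finite free `E` -/
lemma cAlong_bounded (f : A) (L : DRing.Cx A) (hL : CAlong f (DerivedCategory.Q.obj L)) (b : ℤ) :
    ∀ (k : ℕ) (E : DRing.Cx A) (n : ℤ), b < n + k → DRing.VanishesOutside E n b → DRing.TermwiseFiniteFree E →
      CAlong f (DerivedCategory.Q.obj (L ⊗ E)) := by
  intro k
  induction k with
  | zero =>
    intro E n hn hv _ i
    have hz : IsZero ((L ⊗ E).homology i) := ShortComplex.isZero_homology_of_isZero_X₂ _
      (tensor_vanishes i fun p q _ => Or.inr (hv q (by lia)))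
    haveI : Subsingleton (Dual.HD A (DerivedCategory.Q.obj (L ⊗ E)) i) := ModuleCat.subsingleton_of_isZero (hz.of_iso
      ((DerivedCategory.homologyFunctorFactors (ModuleCat.{u} A) i).app (L ⊗ E)))
    exact TBij.subsingleton f
  | succ k ih =>
    intro E n hn hv hf
    let S := (σSeq E (n + 1)).map ((KFlat.tens (tB A)).obj L)
    have hS : S.ShortExact := shortExact_σSeq_tensor E L (projective_of_finiteFree hf) (n + 1)
    have h₁ : CAlong f (DerivedCategory.Q.obj S.X₁) := ih (σGE E (n + 1)) (n + 1) (by lia)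
      (σGE_vanishesOutside E (n + 1) b (fun i hi => hv i (Or.inr hi))) (σGE_finiteFree E (n + 1) hf)
    let Q₃ := (σSeq E (n + 1)).X₃
    have hlt : ∀ i, i < n → IsZero (Q₃.X i) := fun i hi => by
      haveI := isIso_σπ_f E (n + 1) i (by lia)
      exact (hv i (Or.inl hi)).of_iso (asIso ((σSeq E (n + 1)).g.f i)).symm
    haveI : Q₃.IsStrictlyGE n := (CochainComplex.isStrictlyGE_iff _ n).2 hlt
    haveI : Q₃.IsStrictlyLE n := (CochainComplex.isStrictlyLE_iff _ n).2 fun i hi =>
      isZero_σQuot E (n + 1) i (by lia)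
    obtain ⟨M, ⟨eM⟩⟩ := Q₃.exists_iso_single n
    haveI := isIso_σπ_f E (n + 1) n (by lia)
    let eMn : E.X n ≅ M := asIso ((σSeq E (n + 1)).g.f n) ≪≫ (HomologicalComplex.eval _ _ n).mapIso eM ≪≫
      HomologicalComplex.singleObjXSelf (ComplexShape.up ℤ) n M
    haveI := (hf n).1
    haveI := (hf n).2
    haveI : Module.Finite A M := Module.Finite.equiv eMn.toLinearEquiv
    haveI : Module.Free A M := Module.Free.of_equiv eMn.toLinearEquiv
    have h₃ : CAlong f (DerivedCategory.Q.obj S.X₃) :=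
      cAlong_of_iso (DerivedCategory.Q.mapIso (((KFlat.tens (tB A)).obj L).mapIso eM).symm) (cAlong_single f M n L hL)
    exact cAlong_obj₃ (inv_rot_of_distTriang _ (DerivedCategory.triangleOfSES_distinguished hS))
      (cAlong_shift h₃ (-1)) h₁

/-- `L ⊗ E` is complete along `f` with `L`, for bounded above `L` and bounded above finite free `E` -/
lemma cAlong_tensor (f : A) (L E : DRing.Cx A) (b c : ℤ) [L.IsStrictlyLE b] (hc : DRing.VanishesAbove E c)
    (hf : DRing.TermwiseFiniteFree E) (hL : CAlong f (DerivedCategory.Q.obj L)) :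
    CAlong f (DerivedCategory.Q.obj (L ⊗ E)) := fun i => by
  let m := i - b - 1
  let S := (σSeq E m).map ((KFlat.tens (tB A)).obj L)
  have hS : S.ShortExact := shortExact_σSeq_tensor E L (projective_of_finiteFree hf) m
  have hz : ∀ j, i - 1 ≤ j → IsZero (S.X₃.X j) := fun j hj => tensor_vanishes j fun p q hpq => by
    by_cases hp : b < p
    · exact Or.inl (L.isZero_of_isStrictlyLE b p hp)
    · exact Or.inr (isZero_σQuot E m q (by lia))
  have hi : ∀ j, i - 1 ≤ j → IsIso (S.f.f j) := fun j hj =>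
    (hS.map_of_exact (HomologicalComplex.eval _ _ j)).isIso_f_iff.2 (hz j hj)
  haveI : IsIso (HomologicalComplex.homologyMap S.f i) := by
    haveI := hi (i - 1) le_rfl
    haveI := hi i (by lia)
    haveI := hi (i + 1) (by lia)
    let φ := (HomologicalComplex.shortComplexFunctor' (ModuleCat.{u} A) (ComplexShape.up ℤ) (i - 1) i (i + 1)).map S.f
    haveI : IsIso φ.τ₁ := hi (i - 1) le_rfl
    haveI : IsIso φ.τ₂ := hi i (by lia)
    haveI : IsIso φ.τ₃ := hi (i + 1) (by lia)
    haveI : IsIso φ := ShortComplex.isIso_of_isIso φ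
    rw [← quasiIsoAt_iff_isIso_homologyMap, quasiIsoAt_iff' S.f (i - 1) i (i + 1) (by simp) (by simp),
      ShortComplex.quasiIso_iff]
    infer_instance
  have h₁ := cAlong_bounded f L hL c (c + 1 - m).toNat (σGE E m) m (by lia)
    (σGE_vanishesOutside E m c hc) (σGE_finiteFree E m hf) i
  let e := ((DerivedCategory.homologyFunctorFactors (ModuleCat.{u} A) i).app S.X₁) ≪≫
    asIso (HomologicalComplex.homologyMap S.f i) ≪≫
      ((DerivedCategory.homologyFunctorFactors (ModuleCat.{u} A) i).app S.X₂).symm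
  exact h₁.of_equiv e.toLinearEquiv

/-- cone of a whiskered map -/
noncomputable def coneWhisker {P Q : DRing.Cx A} (g : P ⟶ Q) (F : DRing.Cx A) :
    mappingCone (g ▷ F) ≅ mappingCone g ⊗ F :=
  MapBifunctorCone.iso g F (curriedTensor (ModuleCat.{u} A))

lemma whiskerRight_smul_id (f : A) (L F : DRing.Cx A) : (f • 𝟙 L) ▷ F = f • 𝟙 (L ⊗ F) := by
  refine HomologicalComplex.hom_ext _ _ fun n => ?_
  refine HomologicalComplex.mapBifunctor.hom_ext fun p q hpq => ?_
  refine (HomologicalComplex.ι_mapBifunctorMap (f • 𝟙 L) (𝟙 F) (curriedTensor (ModuleCat.{u} A)) _ p q n hpq).trans ?_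
  change ((f • 𝟙 (L.X p)) ▷ F.X q) ≫ (L.X p ◁ 𝟙 (F.X q)) ≫ _ = _ ≫ (f • 𝟙 ((L ⊗ F).X n))
  rw [MonoidalLinear.smul_whiskerRight, MonoidalCategory.whiskerLeft_id, Category.id_comp, Linear.smul_comp,
    MonoidalCategory.id_whiskerRight, Category.id_comp, Linear.comp_smul, Category.comp_id]

theorem noHom_tensor_of_kz (I : Ideal A) {F : DRing.Cx A} (hF : IsKFlat F) :
    ∀ t : List A, (∀ f ∈ t, f ∈ I) → ∀ L : DRing.Cx A, RHomMod.KZ t (DerivedCategory.Q.obj L) →
      NoHom I (DerivedCategory.Q.obj (L ⊗ F)) := by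
  intro t
  induction t with
  | nil =>
    intro _ L hL
    refine RHomMod.noHom_of_isZero (RHomMod.isZero_Q_of_acyclic (KFlat.acyclic_iff_isZero.2 (hF L fun i => ?_)))
    exact ((DerivedCategory.homologyFunctor (ModuleCat.{u} A) i).map_isZero hL).of_iso
      ((DerivedCategory.homologyFunctorFactors (ModuleCat.{u} A) i).app L).symm
  | cons f t ih =>
    intro ht L hL
    have h1 := ih (fun g hg => ht g (List.mem_cons_of_mem f hg)) _ (hL _ (RHomMod.isMulCone_Q f L))
    refine RGammaI.noHom_of_mulCone (ht f List.mem_cons_self) (RHomMod.isMulCone_Q f (L ⊗ F))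
      (h1.of_iso (DerivedCategory.Q.mapIso (?_ : mappingCone (f • 𝟙 L) ⊗ F ≅ mappingCone (f • 𝟙 (L ⊗ F)))))
    exact (coneWhisker (f • 𝟙 L) F).symm ≪≫ eqToIso (by rw [whiskerRight_smul_id])

/-- the core statement on K-flat complexes -/
theorem core (I : Ideal A) (hI : I.FG) {F : DRing.Cx A} (c : ℤ) (hFc : DRing.VanishesAbove F c)
    (hFf : DRing.TermwiseFiniteFree F) {P P' : DRing.Cx A} (g : P ⟶ P') (b : ℤ)
    (hb : ∀ i, b < i → Subsingleton (Dual.HD A (DerivedCategory.Q.obj P') i))
    (hc : DRing.IsDerivedComplete I (DerivedCategory.Q.obj P'))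
    (hcone : NoHom I (DerivedCategory.Q.obj (mappingCone g))) :
    DRing.IsDerivedComplete I (DerivedCategory.Q.obj (P' ⊗ F)) ∧
      ∀ E : Dual.D A, DRing.IsDerivedComplete I E →
        Function.Bijective (fun φ : DerivedCategory.Q.obj (P' ⊗ F) ⟶ E => DerivedCategory.Q.map (g ▷ F) ≫ φ) := by
  have hF : IsKFlat F := isKFlat_of_finiteProjective hFc (termwiseFiniteProjective_of_free hFf)
  obtain ⟨s, hs⟩ := hI
  have hI' : Ideal.span {x | x ∈ s.toList} = I := by simp only [Finset.mem_toList]; exact hs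
  refine ⟨(isDerivedComplete_iff I _).2 fun f hf => ?_, fun E hE => ?_⟩
  · haveI : P'.IsLE b := (CochainComplex.isLE_iff P' b).2 fun i hi => by
      rw [P'.exactAt_iff_isZero_homology i]
      haveI := hb i hi
      exact (ModuleCat.isZero_of_subsingleton ((DerivedCategory.homologyFunctor (ModuleCat.{u} A) i).obj
        (DerivedCategory.Q.obj P'))).of_iso
        ((DerivedCategory.homologyFunctorFactors (ModuleCat.{u} A) i).app P').symm
    haveI := quasiIso_whiskerRight hF (P'.ιTruncLE b)
    refine cAlong_of_iso (asIso (DerivedCategory.Q.map (P'.ιTruncLE b ▷ F))) (cAlong_tensor f _ F b c hFc hFf ?_)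
    exact cAlong_of_iso (asIso (DerivedCategory.Q.map (P'.ιTruncLE b))).symm
      ((isDerivedComplete_iff I _).1 hc f hf)
  · have hN : NoHom I (DerivedCategory.Q.obj (mappingCone (g ▷ F))) :=
      (noHom_tensor_of_kz I hF s.toList (fun f hf => hI' ▸ Ideal.subset_span hf) _
        (RHomMod.kz_of_noHom I _ hI' hcone)).of_iso (DerivedCategory.Q.mapIso (coneWhisker g F)).symm
    exact RGammaI.bijective_of_noHom I (DerivedCategory.mappingCone_triangle_distinguished (g ▷ F)) hN hE

/-- transport of the core statement along a functor computed by `- ⊗ F` on K-projective K-flat complexes -/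
theorem transport (I : Ideal A) (hI : I.FG) [DRing.HasDerivedCompletion I] {F : DRing.Cx A} (c : ℤ)
    (hFc : DRing.VanishesAbove F c) (hFf : DRing.TermwiseFiniteFree F) (Φ : Dual.D A ⥤ Dual.D A)
    (e : ∀ P : DRing.Cx A, P.IsKProjective → IsKFlat P →
      (Φ.obj (DerivedCategory.Q.obj P) ≅ DerivedCategory.Q.obj (P ⊗ F)))
    (he : ∀ (P P' : DRing.Cx A) (g : P ⟶ P') (h₁ : P.IsKProjective) (h₂ : IsKFlat P) (h₁' : P'.IsKProjective)
      (h₂' : IsKFlat P'),
      Φ.map (DerivedCategory.Q.map g) ≫ (e P' h₁' h₂').hom = (e P h₁ h₂).hom ≫ DerivedCategory.Q.map (g ▷ F))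
    (K : Dual.D A) (b : ℤ) (hK : ∀ i : ℤ, b < i → Subsingleton (Dual.HD A K i)) :
    DRing.IsDerivedComplete I (Φ.obj ((DRing.derivedCompletion I).obj K).obj) ∧
      ∀ E : Dual.D A, DRing.IsDerivedComplete I E →
        Function.Bijective (fun φ : Φ.obj ((DRing.derivedCompletion I).obj K).obj ⟶ E =>
          Φ.map (DRing.toDerivedCompletion I K) ≫ φ) := by
  let L := ((DRing.derivedCompletion I).obj K).obj
  obtain ⟨P, q, hP, hPf, -, hq⟩ := exists_kProj_kFlat_resolution (DerivedCategory.Q.objPreimage K)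
  obtain ⟨P', q', hP', hP'f, -, hq'⟩ := exists_kProj_kFlat_resolution (DerivedCategory.Q.objPreimage L)
  haveI := hP; haveI := hP'; haveI := hq; haveI := hq'
  let eK : K ≅ DerivedCategory.Q.obj P :=
    (DerivedCategory.Q.objObjPreimageIso K).symm ≪≫ (asIso (DerivedCategory.Q.map q)).symm
  let eL : L ≅ DerivedCategory.Q.obj P' :=
    (DerivedCategory.Q.objObjPreimageIso L).symm ≪≫ (asIso (DerivedCategory.Q.map q')).symm
  obtain ⟨g, hg⟩ := PerfLocal.exists_lift (eK.inv ≫ DRing.toDerivedCompletion I K ≫ eL.hom)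
  obtain ⟨s, hs⟩ := hI
  have hI' : Ideal.span {x | x ∈ s.toList} = I := by simp only [Finset.mem_toList]; exact hs
  have hbL : ∀ i, b < i → Subsingleton (Dual.HD A (DerivedCategory.Q.obj P') i) := fun i hi =>
    zeroAt_of_iso eL (zeroAt_completion I s.toList hI' K i fun j hj _ => hK j (by lia))
  have hL : DRing.IsDerivedComplete I (DerivedCategory.Q.obj P') :=
    RHomMod.complete_of_iso eL ((DRing.derivedCompletion I).obj K).property
  have hcone : NoHom I (DerivedCategory.Q.obj (mappingCone g)) := by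
    obtain ⟨D, p, δ, hT⟩ := distinguished_cocone_triangle (DRing.toDerivedCompletion I K)
    refine (RHomMod.noHom_cone_completion I K hT).of_iso (Triangle.π₃.mapIso (isoTriangleOfIso₁₂ _ _ hT
      (DerivedCategory.mappingCone_triangle_distinguished g) eK eL ?_))
    change DRing.toDerivedCompletion I K ≫ eL.hom = eK.hom ≫ DerivedCategory.Q.map g
    rw [hg, Iso.hom_inv_id_assoc]
  obtain ⟨hc, hu⟩ := core I ⟨s, hs⟩ c hFc hFf g b hbL hL hcone
  let a : Φ.obj K ≅ DerivedCategory.Q.obj (P ⊗ F) := Φ.mapIso eK ≪≫ e P hP hPf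
  let a' : Φ.obj L ≅ DerivedCategory.Q.obj (P' ⊗ F) := Φ.mapIso eL ≪≫ e P' hP' hP'f
  have sq : Φ.map (DRing.toDerivedCompletion I K) ≫ a'.hom = a.hom ≫ DerivedCategory.Q.map (g ▷ F) := by
    simp only [a, a', Iso.trans_hom, Functor.mapIso_hom, Category.assoc]
    rw [← he P P' g hP hPf hP' hP'f, hg, ← Functor.map_comp_assoc, ← Functor.map_comp_assoc,
      Iso.hom_inv_id_assoc]
  refine ⟨RHomMod.complete_of_iso a'.symm hc, fun E hE => ⟨fun x y hxy => (cancel_epi a'.inv).1 ((hu E hE).1
    ((cancel_epi a.hom).1 ?_)), fun v => ?_⟩⟩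
  · change a.hom ≫ DerivedCategory.Q.map (g ▷ F) ≫ a'.inv ≫ x = a.hom ≫ DerivedCategory.Q.map (g ▷ F) ≫ a'.inv ≫ y
    rw [← reassoc_of% sq, ← reassoc_of% sq, Iso.hom_inv_id_assoc, Iso.hom_inv_id_assoc]
    exact hxy
  · obtain ⟨w, hw⟩ := (hu E hE).2 (a.inv ≫ v)
    refine ⟨a'.hom ≫ w, ?_⟩
    change DerivedCategory.Q.map (g ▷ F) ≫ w = a.inv ≫ v at hw
    change Φ.map (DRing.toDerivedCompletion I K) ≫ a'.hom ≫ w = v
    rw [reassoc_of% sq, hw, Iso.hom_inv_id_assoc]

theorem lTensorCx_completion (I : Ideal A) (hI : I.FG) [DRing.HasDerivedCompletion I] (F : DRing.Cx A) (c : ℤ)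
    (hFc : DRing.VanishesAbove F c) (hFf : DRing.TermwiseFiniteFree F) [DRing.HasLTensorCx A F] (K : Dual.D A) (b : ℤ)
    (hK : ∀ i : ℤ, b < i → Subsingleton (Dual.HD A K i)) :
    DRing.IsDerivedComplete I ((DRing.LTensorCx A F).obj ((DRing.derivedCompletion I).obj K).obj) ∧
      ∀ E : Dual.D A, DRing.IsDerivedComplete I E →
        Function.Bijective (fun φ : (DRing.LTensorCx A F).obj ((DRing.derivedCompletion I).obj K).obj ⟶ E =>
          (DRing.LTensorCx A F).map (DRing.toDerivedCompletion I K) ≫ φ) :=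
  transport I hI c hFc hFf (DRing.LTensorCx A F) (fun P _ h => lTensorCxIso F h)
    (fun _ _ g _ _ _ _ => ((DRing.tensorCxQ A F).totalLeftDerivedCounit DerivedCategory.Q
      (HomologicalComplex.quasiIso (ModuleCat.{u} A) (ComplexShape.up ℤ))).naturality g) K b hK

lemma tensSingle_natural {P P' : DRing.Cx A} (g : P ⟶ P') (M : ModuleCat.{u} A) :
    (tR M).map g ≫ (tensSingleIso P' M).inv =
      (tensSingleIso P M).inv ≫ g ▷ (HomologicalComplex.single _ (ComplexShape.up ℤ) 0).obj M := by
  refine HomologicalComplex.hom_ext _ _ fun n => ?_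
  let S := (HomologicalComplex.single (ModuleCat.{u} A) (ComplexShape.up ℤ) 0).obj M
  let r := (HomologicalComplex.singleObjXSelf (ComplexShape.up ℤ) 0 M).inv
  change (g.f n ▷ M) ≫ (P'.X n ◁ r) ≫
      HomologicalComplex.ιMapBifunctor P' S (curriedTensor (ModuleCat.{u} A)) (ComplexShape.up ℤ) n 0 n (add_zero n) =
    ((P.X n ◁ r) ≫
      HomologicalComplex.ιMapBifunctor P S (curriedTensor (ModuleCat.{u} A)) (ComplexShape.up ℤ) n 0 n (add_zero n)) ≫
      (g ▷ S).f n
  erw [Category.assoc, HomologicalComplex.ι_mapBifunctorMap g (𝟙 S) (curriedTensor (ModuleCat.{u} A)) _ n 0 n (add_zero n)]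
  rw [← Category.assoc, ← whisker_exchange, Category.assoc]
  change _ = P.X n ◁ r ≫ g.f n ▷ S.X 0 ≫ (P'.X n ◁ 𝟙 (S.X 0)) ≫ _
  rw [MonoidalCategory.whiskerLeft_id, Category.id_comp]

theorem lTensor_completion [IsNoetherianRing A] (I : Ideal A) [DRing.HasDerivedCompletion I]
    (M : Type u) [AddCommGroup M] [Module A M] [Module.Finite A M] [DRing.HasLTensor A (ModuleCat.of A M)]
    (K : Dual.D A) (b : ℤ) (hK : ∀ i : ℤ, b < i → Subsingleton (Dual.HD A K i)) :
    DRing.IsDerivedComplete I ((DRing.LTensor A (ModuleCat.of A M)).obj ((DRing.derivedCompletion I).obj K).obj) ∧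
      ∀ E : Dual.D A, DRing.IsDerivedComplete I E →
        Function.Bijective (fun φ : (DRing.LTensor A (ModuleCat.of A M)).obj ((DRing.derivedCompletion I).obj K).obj ⟶ E =>
          (DRing.LTensor A (ModuleCat.of A M)).map (DRing.toDerivedCompletion I K) ≫ φ) := by
  let M₀ : ModuleCat.{u} A := ModuleCat.of A M
  let S := (HomologicalComplex.single (ModuleCat.{u} A) (ComplexShape.up ℤ) 0).obj M₀
  have hS : ∀ i, Module.FinitePresentation A (Dual.HD A (DerivedCategory.Q.obj S) i) := fun i => by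
    haveI : Module.Finite A ((DerivedCategory.homologyFunctor (ModuleCat.{u} A) i).obj (DerivedCategory.Q.obj S)) := by
      refine @Module.Finite.equiv A (S.homology i) _ _ _ _ _ _ ?_
        ((DerivedCategory.homologyFunctorFactors (ModuleCat.{u} A) i).app S).toLinearEquiv.symm
      by_cases h : i = 0
      · subst h
        exact Module.Finite.equiv (HomologicalComplex.singleObjHomologySelfIso (ComplexShape.up ℤ) 0 M₀).toLinearEquiv.symm
      · haveI := ModuleCat.subsingleton_of_isZero
          (HomologicalComplex.isZero_single_obj_homology (ComplexShape.up ℤ) 0 M₀ i h)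
        infer_instance
    exact Module.finitePresentation_of_finite A _
  obtain ⟨F, c, hFc, hFf, ⟨eF⟩⟩ := (pc'_iff_coherent isCoh_of_noetherian ⟨1, fun i hi =>
    (HomologicalComplex.isZero_single_obj_homology (ComplexShape.up ℤ) 0 M₀ i (by lia)).of_iso
      ((DerivedCategory.homologyFunctorFactors (ModuleCat.{u} A) i).app S)⟩).2 hS
  haveI := isKProjective_of_finiteProjective c hFc (termwiseFiniteProjective_of_free hFf)
  obtain ⟨w, hw⟩ := PerfLocal.exists_lift eF.hom
  haveI : QuasiIso w := (DerivedCategory.isIso_Q_map_iff_quasiIso _ w).1 (by rw [hw]; infer_instance)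
  have hq : ∀ P : DRing.Cx A, IsKFlat P → QuasiIso (P ◁ w) := fun P hP =>
    KFlat.quasiIso_obj_map_of_acyclic P w (KFlat.acyclic_of_iso (KFlat.swapIso (tBraid A) (mappingCone w) P)
      (KFlat.acyclic_iff_isZero.2 (hP _ (KFlat.acyclic_iff_isZero.1 (KFlat.mappingCone_acyclic w)))))
  refine transport I (IsNoetherian.noetherian I) c hFc hFf (DRing.LTensor A M₀)
    (fun P hP hPf => haveI := hP; lTensorIso M₀ P ≪≫ DerivedCategory.Q.mapIso (tensSingleIso P M₀).symm ≪≫
      (haveI := hq P hPf; (asIso (DerivedCategory.Q.map (P ◁ w))).symm))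
    (fun P P' g h₁ h₂ h₁' h₂' => ?_) K b hK
  haveI := h₁; haveI := h₁'; haveI := hq P h₂; haveI := hq P' h₂'
  have n1 : (DRing.LTensor A M₀).map (DerivedCategory.Q.map g) ≫ (lTensorIso M₀ P').hom =
      (lTensorIso M₀ P).hom ≫ DerivedCategory.Q.map ((tR M₀).map g) := by
    have q1 := (DerivedCategory.quotientCompQhIso (ModuleCat.{u} A)).inv.naturality g
    have q2 := (DerivedCategory.quotientCompQhIso (ModuleCat.{u} A)).hom.naturality ((tR M₀).map g)
    have q3 := ((DRing.tensorKh A M₀).totalLeftDerivedCounit DerivedCategory.Qh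
      (HomotopyCategory.quasiIso (ModuleCat.{u} A) (ComplexShape.up ℤ))).naturality
      ((HomotopyCategory.quotient (ModuleCat.{u} A) (ComplexShape.up ℤ)).map g)
    simp only [lTensorIso, lTensorCmp, Iso.trans_hom, Functor.mapIso_hom, asIso_hom, Iso.app_hom, Iso.symm_hom,
      Iso.app_inv, Category.assoc]
    rw [← Functor.map_comp_assoc]
    erw [q1, Functor.map_comp_assoc, reassoc_of% q3]
    erw [q2]
  simp only [Iso.trans_hom, Functor.mapIso_hom, Iso.symm_hom, asIso_inv, Category.assoc]
  rw [reassoc_of% n1, ← Functor.map_comp_assoc, tensSingle_natural, Functor.map_comp_assoc]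
  congr 2
  rw [IsIso.comp_inv_eq, Category.assoc, IsIso.eq_inv_comp, ← Functor.map_comp, ← Functor.map_comp, whisker_exchange]

end Groth.Agent.DRingKP.DCTensorCx
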