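import Groth.Agent.DRingKP.DComplFun
import Mathlib.Algebra.Homology.HomotopyCategory.Triangulated
import Mathlib.Algebra.Homology.DerivedCategory.Linear

/-!
Maps that become invertible after derived completion, through iterated cones.
-/

set_option autoImplicit false
set_option linter.style.haveILetI false
universe u

namespace Groth.Agent.DRingKP

open CategoryTheory Limits DerivedCategory Pretriangulated
open CochainComplex (mappingCone)

attribute [local instance] HasDerivedCategory.standard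

variable {A : Type u} [CommRing A]

/-- precomposition with `u` is bijective on all objects complete along `s` -/
def Univ (s : List A) {X Y : Dual.D A} (u : X ⟶ Y) : Prop :=
  ∀ E : Dual.D A, (∀ f ∈ s, CAlong f E) → Function.Bijective (fun φ : Y ⟶ E => u ≫ φ)

lemma Univ.of_isIso (s : List A) {X Y : Dual.D A} (u : X ⟶ Y) [IsIso u] : Univ s u := fun _ _ =>
  ⟨fun a b h => (cancel_epi u).1 h, fun g => ⟨inv u ≫ g, IsIso.hom_inv_id_assoc u g⟩⟩

lemma Univ.mono {s t : List A} {X Y : Dual.D A} {u : X ⟶ Y} (h : Univ s u) (hst : ∀ f ∈ s, f ∈ t) : Univ t u :=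
  fun E hE => h E fun f hf => hE f (hst f hf)

lemma Univ.shift {s : List A} {X Y : Dual.D A} {u : X ⟶ Y} (h : Univ s u) : Univ s (u⟦(1 : ℤ)⟧') := fun E hE =>
  bijective_precomp_shift u (h _ fun f hf => cAlong_shift (hE f hf) (-1))

lemma Univ.of_comp_iso {s : List A} {X Y Z : Dual.D A} {u : X ⟶ Y} (v : Y ≅ Z) (h : Univ s u) :
    Univ s (u ≫ v.hom) := fun E hE => by
  simp only [Category.assoc]
  exact (h E hE).comp ⟨fun a b hab => (cancel_epi v.hom).1 hab, fun g => ⟨v.inv ≫ g, v.hom_inv_id_assoc g⟩⟩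

/-- a map whose cone has no map to complete objects -/
lemma Univ.of_obj₃ {s : List A} {T : Triangle (Dual.D A)} (hT : T ∈ distTriang (Dual.D A))
    (h : ∀ E : Dual.D A, (∀ f ∈ s, CAlong f E) → Subsingleton (T.obj₃ ⟶ E)) : Univ s T.mor₁ := by
  intro E hE
  refine ⟨fun a b hab => sub_eq_zero.1 ?_, fun φ => ?_⟩
  · obtain ⟨z, hz⟩ := Triangle.yoneda_exact₂ T hT (a - b) (by
      rw [Preadditive.comp_sub]; exact sub_eq_zero.2 hab)
    rw [hz, @Subsingleton.elim _ (h E hE) z 0, comp_zero]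
  · have h1 := h (E⟦(1 : ℤ)⟧) fun f hf => cAlong_shift (hE f hf) 1
    let adj := (shiftEquiv' (Dual.D A) (-1 : ℤ) 1 (by lia)).toAdjunction
    haveI : Subsingleton ((T.obj₃⟦(-1 : ℤ)⟧) ⟶ E) := @Equiv.subsingleton _ _ (adj.homEquiv _ _) h1
    obtain ⟨g, hg⟩ := Triangle.yoneda_exact₂ T.invRotate (inv_rot_of_distTriang T hT) φ (Subsingleton.elim (α := (T.obj₃⟦(-1 : ℤ)⟧) ⟶ E) _ 0)
    exact ⟨g, hg.symm⟩

/-- if `a ≫ d` is universal, so is `c ≫ b` -/
lemma bijective_of_two_triangles {s : List A} {X₁ W X X₄ : Dual.D A} {a : X₁ ⟶ W} {b : W ⟶ X}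
    {e : X ⟶ X₁⟦(1 : ℤ)⟧} (h₁ : Triangle.mk a b e ∈ distTriang (Dual.D A))
    {c : X ⟶ W} {d : W ⟶ X₄} {e' : X₄ ⟶ X⟦(1 : ℤ)⟧} (h₂ : Triangle.mk c d e' ∈ distTriang (Dual.D A))
    (had : Univ s (a ≫ d)) : Univ s (c ≫ b) := by
  intro E hE
  have hab : a ≫ b = 0 := comp_distTriang_mor_zero₁₂ _ h₁
  have hcd : c ≫ d = 0 := comp_distTriang_mor_zero₁₂ _ h₂
  -- `b` is injective
  have hb : ∀ x : X ⟶ E, b ≫ x = 0 → x = 0 := by
    intro x hx
    obtain ⟨z, hz⟩ : ∃ z : X₁⟦(1 : ℤ)⟧ ⟶ E, x = e ≫ z := Triangle.yoneda_exact₃ _ h₁ x hx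
    obtain ⟨z', hz'⟩ := (had.shift E hE).2 z
    have hz'' : (a ≫ d)⟦(1 : ℤ)⟧' ≫ z' = z := hz'
    have he : e ≫ a⟦(1 : ℤ)⟧' = 0 := comp_distTriang_mor_zero₃₁ _ h₁
    rw [hz, ← hz'', Functor.map_comp, Category.assoc]
    exact (reassoc_of% he) _ |>.trans zero_comp
  -- `c` is surjective
  have hc : ∀ x : X ⟶ E, ∃ y : W ⟶ E, c ≫ y = x := by
    intro x
    have h1 : e' ≫ x⟦(1 : ℤ)⟧' = 0 := by
      have hde : d ≫ e' = 0 := comp_distTriang_mor_zero₂₃ _ h₂
      refine (had _ fun f hf => cAlong_shift (hE f hf) 1).1 ?_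
      simp only [Category.assoc]
      rw [reassoc_of% hde]
      simp
    let T' := (Triangle.mk c d e').rotate.rotate
    have hT' : T' ∈ distTriang (Dual.D A) := rot_of_distTriang _ (rot_of_distTriang _ h₂)
    obtain ⟨y, hy⟩ : ∃ y : W⟦(1 : ℤ)⟧ ⟶ E⟦(1 : ℤ)⟧, x⟦(1 : ℤ)⟧' = (-(c⟦(1 : ℤ)⟧')) ≫ y :=
      Triangle.yoneda_exact₂ T' hT' (x⟦(1 : ℤ)⟧') h1
    obtain ⟨y₀, rfl⟩ := (shiftFunctor (Dual.D A) (1 : ℤ)).map_surjective y
    refine ⟨-y₀, (shiftFunctor (Dual.D A) (1 : ℤ)).map_injective ?_⟩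
    rw [Functor.map_comp, Functor.map_neg, Preadditive.comp_neg]
    refine Eq.trans ?_ hy.symm
    exact (Preadditive.neg_comp _ _).symm
  refine ⟨fun x x' hxx' => sub_eq_zero.1 ?_, fun x => ?_⟩
  · let t := x - x'
    have ht : c ≫ b ≫ t = 0 := by
      have : (c ≫ b) ≫ t = 0 := by rw [Preadditive.comp_sub]; exact sub_eq_zero.2 hxx'
      rwa [Category.assoc] at this
    obtain ⟨z, hz⟩ : ∃ z : X₄ ⟶ E, b ≫ t = d ≫ z := Triangle.yoneda_exact₂ _ h₂ (b ≫ t) ht
    have hz' : b ≫ t = d ≫ z := hz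
    have hz0 : z = 0 := by
      refine (had E hE).1 ?_
      change (a ≫ d) ≫ z = (a ≫ d) ≫ 0
      rw [Category.assoc, ← hz', reassoc_of% hab, zero_comp, comp_zero]
    exact hb t (by rw [hz', hz0, comp_zero])
  · obtain ⟨y, hy⟩ := hc x
    obtain ⟨z, hz⟩ := (had E hE).2 (a ≫ y)
    have hz' : (a ≫ d) ≫ z = a ≫ y := hz
    have hy' : a ≫ (y - d ≫ z) = 0 := by
      rw [Preadditive.comp_sub, ← hz', Category.assoc, sub_self]
    obtain ⟨x', hx'⟩ : ∃ x' : X ⟶ E, y - d ≫ z = b ≫ x' := Triangle.yoneda_exact₂ _ h₁ (y - d ≫ z) hy'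
    have hx'' : y - d ≫ z = b ≫ x' := hx'
    refine ⟨x', ?_⟩
    change (c ≫ b) ≫ x' = x
    rw [Category.assoc, ← hx'', Preadditive.comp_sub, reassoc_of% hcd, zero_comp, sub_zero, hy]

/-- an infinitely divisible compatible family of maps into a complete object vanishes -/
theorem hom_eq_zero_of_div {f : A} {K L : Dual.D A} (hL : CAlong f L) (x : ℕ → (K ⟶ L))
    (hx : ∀ n, x n = f • x (n + 1)) : x 0 = 0 := by
  let C := DerivedCategory.Q.objPreimage L
  let eC : DerivedCategory.Q.obj C ≅ L := DerivedCategory.Q.objObjPreimageIso L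
  obtain ⟨P, c, hP, hc⟩ := exists_kProj_resolution (DerivedCategory.Q.objPreimage K)
  let eP : DerivedCategory.Q.obj P ≅ K := asIso (DerivedCategory.Q.map c) ≪≫ DerivedCategory.Q.objObjPreimageIso K
  choose φ hφ using fun n => PerfLocal.exists_lift (eP.hom ≫ x n ≫ eC.inv)
  let T := (NatTrans.mapHomologicalComplex (teleNat f) (ComplexShape.up ℤ)).app C
  let Φ : P ⟶ piCx C :=
    { f := fun i => ModuleCat.ofHom (LinearMap.pi fun n => ((φ n).f i).hom)
      comm' := fun i j _ => ModuleCat.hom_ext (LinearMap.ext fun y => funext fun n =>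
        LinearMap.congr_fun (congrArg ModuleCat.Hom.hom ((φ n).comm i j)) y) }
  have hzero : ∀ n, DerivedCategory.Q.map (φ n - f • φ (n + 1)) = 0 := fun n => by
    rw [Functor.map_sub, Functor.map_smul, hφ, hφ, hx n, Linear.smul_comp, Linear.comp_smul, sub_self]
  let hh := fun n => (exists_homotopy _ (hzero n)).some
  have hT : DerivedCategory.Q.map (Φ ≫ T) = 0 := by
    let ho : Homotopy (Φ ≫ T) 0 :=
      { hom := fun i j => ModuleCat.ofHom (LinearMap.pi fun n => ((hh n).hom i j).hom)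
        zero := fun i j hij => ModuleCat.hom_ext (LinearMap.ext fun y => funext fun n =>
          LinearMap.congr_fun (congrArg ModuleCat.Hom.hom ((hh n).zero i j hij)) y)
        comm := fun i => ModuleCat.hom_ext (LinearMap.ext fun y => funext fun n => by
          have := LinearMap.congr_fun (congrArg ModuleCat.Hom.hom ((hh n).comm i)) y
          simp only [dNext_eq _ (show (ComplexShape.up ℤ).Rel i (i + 1) from rfl),
            prevD_eq _ (show (ComplexShape.up ℤ).Rel (i - 1) i by simp)] at this ⊢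
          exact this) }
    rw [DerivedCategory.Q_map_eq_of_homotopy _ ho, Functor.map_zero]
  haveI : QuasiIso T := quasiIso_tele C fun n => by
    let gI := ((DerivedCategory.homologyFunctorFactors (ModuleCat.{u} A) n).app C).symm ≪≫
      (DerivedCategory.homologyFunctor (ModuleCat.{u} A) n).mapIso eC
    exact (hL n).of_equiv gI.toLinearEquiv.symm
  rw [Functor.map_comp] at hT
  have hΦ : DerivedCategory.Q.map Φ = 0 := (cancel_mono (DerivedCategory.Q.map T)).1 (hT.trans zero_comp.symm)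
  have h0 : Φ ≫ ((NatTrans.mapHomologicalComplex (projNat 0) (ComplexShape.up ℤ)).app C ≫
      (Functor.mapHomologicalComplexIdIso _ (ComplexShape.up ℤ)).hom.app C) = φ 0 := by
    refine HomologicalComplex.hom_ext _ _ fun i => ModuleCat.hom_ext (LinearMap.ext fun y => ?_)
    simp [Φ, projNat, NatTrans.mapHomologicalComplex]
    rfl
  have hg : DerivedCategory.Q.map (φ 0) = 0 := by rw [← h0, Functor.map_comp, hΦ, zero_comp]
  rw [hφ] at hg
  have := (cancel_epi eP.hom).1 (hg.trans comp_zero.symm)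
  exact (cancel_mono eC.inv).1 (this.trans zero_comp.symm)


/-- the triangle of a composite, in the derived category -/
lemma compTriangle_distinguished {X₁ X₂ X₃ : DRing.Cx A} (f : X₁ ⟶ X₂) (g : X₂ ⟶ X₃) :
    DerivedCategory.Qh.mapTriangle.obj (CochainComplex.mappingConeCompTriangleh f g) ∈ distTriang (Dual.D A) :=
  DerivedCategory.Qh.map_distinguished _ (HomotopyCategory.mappingConeCompTriangleh_distinguished f g)

lemma compTriangle_distinguished' {X₁ X₂ X₃ : DRing.Cx A} (f : X₁ ⟶ X₂) (g : X₂ ⟶ X₃) (w : X₁ ⟶ X₃) (hw : f ≫ g = w) :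
    ∃ e, Triangle.mk (DerivedCategory.Q.map (CochainComplex.mappingCone.map f w (𝟙 X₁) g (by rw [Category.id_comp, hw])))
      (DerivedCategory.Q.map (CochainComplex.mappingCone.map w g f (𝟙 X₃) (by rw [Category.comp_id, hw]))) e ∈ distTriang (Dual.D A) := by
  subst hw
  exact ⟨_, compTriangle_distinguished f g⟩

/-- the inductive step -/
theorem univ_step {s : List A} (f : A) {C D : DRing.Cx A} (u : C ⟶ D) (fC : C ⟶ C) (fD : D ⟶ D)
    (hC : fC = f • 𝟙 C) (hD : fD = f • 𝟙 D) (comm : fC ≫ u = u ≫ fD)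
    (h : Univ s (DerivedCategory.Q.map (CochainComplex.mappingCone.map fC fD u u comm))) :
    Univ (f :: s) (DerivedCategory.Q.map u) := by
  let w := fC ≫ u
  let a := CochainComplex.mappingCone.map fC w (𝟙 C) u (by simp [w])
  let b := CochainComplex.mappingCone.map w u fC (𝟙 D) (by simp [w])
  let c := CochainComplex.mappingCone.map u w (𝟙 C) fD (by simp [w, comm])
  let d := CochainComplex.mappingCone.map w fD u (𝟙 D) (by simp [w, comm])
  have h₁ : ∃ e, Triangle.mk (DerivedCategory.Q.map a) (DerivedCategory.Q.map b) e ∈ distTriang (Dual.D A) :=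
    ⟨_, compTriangle_distinguished fC u⟩
  have h₂ : ∃ e, Triangle.mk (DerivedCategory.Q.map c) (DerivedCategory.Q.map d) e ∈ distTriang (Dual.D A) :=
    compTriangle_distinguished' u fD w comm.symm
  obtain ⟨e, h₁⟩ := h₁
  obtain ⟨e', h₂⟩ := h₂
  have had : a ≫ d = CochainComplex.mappingCone.map fC fD u u comm := by
    ext n : 1
    simp [a, d, CochainComplex.mappingCone.ext_from_iff _ (n + 1) n rfl, CochainComplex.mappingCone.map]
  have hcb : c ≫ b = f • 𝟙 (mappingCone u) := by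
    ext n : 1
    subst hC hD
    simp [c, b, CochainComplex.mappingCone.ext_from_iff _ (n + 1) n rfl, CochainComplex.mappingCone.map, Linear.comp_smul, Linear.smul_comp]
  have hu := bijective_of_two_triangles h₁ h₂ (s := s) (by rw [← Functor.map_comp, had]; exact h)
  refine Univ.of_obj₃ (mappingCone_triangle_distinguished u) fun E hE => ?_
  change Subsingleton (DerivedCategory.Q.obj (mappingCone u) ⟶ E)
  refine subsingleton_of_forall_eq 0 fun x => ?_
  have hbij := hu
  rw [← Functor.map_comp, hcb, Functor.map_smul, CategoryTheory.Functor.map_id] at hbij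
  have hEs : ∀ g ∈ s, CAlong g E := fun g hg => hE g (List.mem_cons_of_mem _ hg)
  -- `f` is bijective on maps into `E`
  let G := DerivedCategory.Q.obj (mappingCone u) ⟶ E
  have hf : Function.Bijective (fun φ : G => f • φ) := by
    have := hbij E hEs
    simpa [Linear.smul_comp] using this
  let x' : ℕ → G := fun n => n.rec x fun _ z => (Equiv.ofBijective _ hf).symm z
  have hx : ∀ n, f • x' (n + 1) = x' n := fun n => (Equiv.ofBijective _ hf).apply_symm_apply (x' n)
  exact hom_eq_zero_of_div (hE f List.mem_cons_self) x' fun n => (hx n).symm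

end Groth.Agent.DRingKP
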