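import Groth.Agent.DRingKP.DCompl

/-!
The derived completion functor compared with the construction.
-/

set_option autoImplicit false
set_option linter.style.haveILetI false
universe u

namespace Groth.Agent.DRingKP

open CategoryTheory Limits DerivedCategory Pretriangulated

attribute [local instance] HasDerivedCategory.standard

variable {A : Type u} [CommRing A]

/-- completeness is closed under isomorphism -/
lemma cAlong_of_iso {f : A} {X Y : Dual.D A} (e : X ≅ Y) (h : CAlong f X) : CAlong f Y := fun n =>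
  (h n).of_equiv ((DerivedCategory.homologyFunctor (ModuleCat.{u} A) n).mapIso e).toLinearEquiv

lemma zeroAt_of_iso {i : ℤ} {X Y : Dual.D A} (e : X ≅ Y) (h : ZeroAt i X) : ZeroAt i Y :=
  @Equiv.subsingleton _ _ ((DerivedCategory.homologyFunctor (ModuleCat.{u} A) i).mapIso e).toLinearEquiv.symm.toEquiv h

/-- the derived completion exists -/
theorem hasDerivedCompletion (I : Ideal A) (hI : I.FG) : DRing.HasDerivedCompletion I := by
  obtain ⟨s, hs⟩ := hI
  have hs' : Ideal.span {x | x ∈ s.toList} = I := by simpa using hs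
  haveI : ∀ K : Dual.D A, HasInitial (StructuredArrow K (ObjectProperty.ι (DRing.IsDerivedComplete I))) := by
    intro K
    obtain ⟨L, η, hc, hu, -, -⟩ := exists_compl s.toList K
    have hL : DRing.IsDerivedComplete I L := (isDerivedComplete_span_iff _ I hs' L).2 hc
    let U : StructuredArrow K (ObjectProperty.ι (DRing.IsDerivedComplete I)) :=
      StructuredArrow.mk (Y := (⟨L, hL⟩ : DRing.DComp I)) (η : K ⟶ (ObjectProperty.ι (DRing.IsDerivedComplete I)).obj ⟨L, hL⟩)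
    have huE : ∀ V : StructuredArrow K (ObjectProperty.ι (DRing.IsDerivedComplete I)),
        Function.Bijective (fun φ : L ⟶ V.right.obj => η ≫ φ) := fun V =>
      hu _ ((isDerivedComplete_span_iff _ I hs' _).1 V.right.property)
    refine IsInitial.hasInitial (X := U) (IsInitial.ofUniqueHom (fun V => StructuredArrow.homMk
      (ObjectProperty.homMk (Equiv.ofBijective _ (huE V) |>.symm V.hom))
      (by exact (Equiv.ofBijective _ (huE V)).apply_symm_apply V.hom)) fun V m => ?_)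
    refine StructuredArrow.hom_ext _ _ (ObjectProperty.hom_ext _ ((huE V).1 ?_))
    exact (StructuredArrow.w m).trans ((Equiv.ofBijective _ (huE V)).apply_symm_apply V.hom).symm
  exact isRightAdjointOfStructuredArrowInitials _

variable (I : Ideal A) [DRing.HasDerivedCompletion I]

lemma completion_univ (K : Dual.D A) (E : Dual.D A) (hE : DRing.IsDerivedComplete I E) :
    Function.Bijective (fun φ : ((DRing.derivedCompletion I).obj K).obj ⟶ E => DRing.toDerivedCompletion I K ≫ φ) := by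
  let e := (DRing.derivedCompletionAdj I).homEquiv K ⟨E, hE⟩
  have h : (fun φ : ((DRing.derivedCompletion I).obj K).obj ⟶ E => DRing.toDerivedCompletion I K ≫ φ) =
      e ∘ (fun φ => ObjectProperty.homMk φ) := by
    funext φ
    simp only [Function.comp_apply, e, Adjunction.homEquiv_unit]
    rfl
  rw [h]
  exact e.bijective.comp ⟨fun a b hab => congrArg (fun t => t.hom) hab, fun g => ⟨g.hom, rfl⟩⟩

/-- a universal arrow is the derived completion -/
theorem exists_iso_completion {K L : Dual.D A} (η : K ⟶ L) (hL : DRing.IsDerivedComplete I L)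
    (hu : ∀ E, DRing.IsDerivedComplete I E → Function.Bijective (fun φ : L ⟶ E => η ≫ φ)) :
    ∃ v : L ≅ ((DRing.derivedCompletion I).obj K).obj, η ≫ v.hom = DRing.toDerivedCompletion I K := by
  have hC : DRing.IsDerivedComplete I ((DRing.derivedCompletion I).obj K).obj := ((DRing.derivedCompletion I).obj K).property
  obtain ⟨a, ha⟩ := (hu _ hC).2 (DRing.toDerivedCompletion I K)
  obtain ⟨b, hb⟩ := (completion_univ I K L hL).2 η
  refine ⟨⟨a, b, (hu _ hL).1 ?_, (completion_univ I K _ hC).1 ?_⟩, ha⟩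
  · change η ≫ a ≫ b = η ≫ 𝟙 L
    rw [reassoc_of% (show η ≫ a = _ from ha), show DRing.toDerivedCompletion I K ≫ b = η from hb, Category.comp_id]
  · change DRing.toDerivedCompletion I K ≫ b ≫ a = DRing.toDerivedCompletion I K ≫ 𝟙 _
    rw [reassoc_of% (show DRing.toDerivedCompletion I K ≫ b = η from hb), show η ≫ a = _ from ha, Category.comp_id]

/-- vanishing in one degree is inherited by the completion -/
theorem zeroAt_completion (s : List A) (hs : Ideal.span {x | x ∈ s} = I) (K : Dual.D A) (i : ℤ)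
    (h : ∀ j, i ≤ j → j ≤ i + s.length → ZeroAt j K) : ZeroAt i ((DRing.derivedCompletion I).obj K).obj := by
  obtain ⟨L, η, hc, hu, -, hz⟩ := exists_compl s K
  obtain ⟨v, -⟩ := exists_iso_completion I η ((isDerivedComplete_span_iff _ I hs L).2 hc)
    (fun E hE => hu E ((isDerivedComplete_span_iff _ I hs E).1 hE))
  exact zeroAt_of_iso v (hz i h)

/-- shifting a bijective precomposition -/
theorem bijective_precomp_shift {X X' E : Dual.D A} (u : X ⟶ X')
    (h : Function.Bijective (fun φ : X' ⟶ E⟦(-1 : ℤ)⟧ => u ≫ φ)) :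
    Function.Bijective (fun φ : X'⟦(1 : ℤ)⟧ ⟶ E => u⟦(1 : ℤ)⟧' ≫ φ) := by
  let adj := (shiftEquiv' (Dual.D A) (1 : ℤ) (-1) (by lia)).toAdjunction
  have e : (fun φ : X'⟦(1 : ℤ)⟧ ⟶ E => u⟦(1 : ℤ)⟧' ≫ φ) = (adj.homEquiv X E).symm ∘
      (fun φ : X' ⟶ E⟦(-1 : ℤ)⟧ => u ≫ φ) ∘ (adj.homEquiv X' E) := by
    funext φ
    refine ((adj.homEquiv X E).injective ?_)
    simp only [Function.comp_apply, Equiv.apply_symm_apply]
    exact adj.homEquiv_naturality_left _ _
  rw [e]
  exact (adj.homEquiv X E).symm.bijective.comp (h.comp (adj.homEquiv X' E).bijective)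

/-- the five lemma for precomposition -/
theorem bijective_precomp_obj₃ {X Y Z X' Y' Z' : Dual.D A} {f : X ⟶ Y} {g : Y ⟶ Z} {h : Z ⟶ X⟦(1 : ℤ)⟧}
    {f' : X' ⟶ Y'} {g' : Y' ⟶ Z'} {h' : Z' ⟶ X'⟦(1 : ℤ)⟧}
    (hT : Triangle.mk f g h ∈ distTriang (Dual.D A)) (hT' : Triangle.mk f' g' h' ∈ distTriang (Dual.D A))
    (u : X ⟶ X') (v : Y ⟶ Y') (c : Z ⟶ Z') (h₁ : f ≫ v = u ≫ f') (h₂ : g ≫ c = v ≫ g')
    (h₃ : h ≫ u⟦(1 : ℤ)⟧' = c ≫ h') (E : Dual.D A)
    (bu : Function.Bijective (fun φ : X' ⟶ E => u ≫ φ)) (bv : Function.Bijective (fun φ : Y' ⟶ E => v ≫ φ))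
    (bu' : Function.Bijective (fun φ : X'⟦(1 : ℤ)⟧ ⟶ E => u⟦(1 : ℤ)⟧' ≫ φ))
    (bv' : Function.Bijective (fun φ : Y'⟦(1 : ℤ)⟧ ⟶ E => v⟦(1 : ℤ)⟧' ≫ φ)) :
    Function.Bijective (fun φ : Z' ⟶ E => c ≫ φ) := by
  have z₁₂ : f ≫ g = 0 := comp_distTriang_mor_zero₁₂ _ hT
  have z₃₁ : h' ≫ f'⟦(1 : ℤ)⟧' = 0 := comp_distTriang_mor_zero₃₁ _ hT'
  refine ⟨fun a b hab => sub_eq_zero.1 ?_, fun φ => ?_⟩
  · have h0 : c ≫ (a - b) = 0 := by rw [Preadditive.comp_sub]; exact sub_eq_zero.2 hab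
    have h3 : g' ≫ (a - b) = 0 := by
      refine bv.1 ?_
      change v ≫ g' ≫ (a - b) = v ≫ 0
      rw [← reassoc_of% h₂, h0, comp_zero, comp_zero]
    obtain ⟨z, hz⟩ : ∃ z, a - b = h' ≫ z := Triangle.yoneda_exact₃ _ hT' (a - b) h3
    have h4 : h ≫ u⟦(1 : ℤ)⟧' ≫ z = 0 := by rw [reassoc_of% h₃, ← hz, h0]
    obtain ⟨y, hy⟩ : ∃ y : Y⟦(1 : ℤ)⟧ ⟶ E, u⟦(1 : ℤ)⟧' ≫ z = (-(f⟦(1 : ℤ)⟧')) ≫ y :=
      Triangle.yoneda_exact₃ (Triangle.mk f g h).rotate (rot_of_distTriang _ hT) _ h4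
    obtain ⟨y', hy'⟩ := bv'.2 y
    have hy'' : v⟦(1 : ℤ)⟧' ≫ y' = y := hy'
    have hz' : z = (-(f'⟦(1 : ℤ)⟧')) ≫ y' := by
      refine bu'.1 ?_
      change u⟦(1 : ℤ)⟧' ≫ z = u⟦(1 : ℤ)⟧' ≫ (-(f'⟦(1 : ℤ)⟧')) ≫ y'
      rw [hy, ← hy'', Preadditive.neg_comp, Preadditive.neg_comp, Preadditive.comp_neg, ← Category.assoc,
        ← Functor.map_comp, h₁, Functor.map_comp, Category.assoc]
    rw [hz, hz', Preadditive.neg_comp, Preadditive.comp_neg, ← Category.assoc, z₃₁, zero_comp, neg_zero]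
  · obtain ⟨ψ, hψ⟩ := bv.2 (g ≫ φ)
    have hψ' : v ≫ ψ = g ≫ φ := hψ
    have h0 : f' ≫ ψ = 0 := by
      refine bu.1 ?_
      change u ≫ f' ≫ ψ = u ≫ 0
      rw [← reassoc_of% h₁, hψ', reassoc_of% z₁₂, zero_comp, comp_zero]
    obtain ⟨φ₀, hφ₀⟩ : ∃ φ₀, ψ = g' ≫ φ₀ := Triangle.yoneda_exact₂ _ hT' ψ h0
    have h3 : g ≫ (φ - c ≫ φ₀) = 0 := by
      rw [Preadditive.comp_sub, reassoc_of% h₂, ← hφ₀, hψ', sub_self]
    obtain ⟨z, hz⟩ : ∃ z, φ - c ≫ φ₀ = h ≫ z := Triangle.yoneda_exact₃ _ hT _ h3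
    obtain ⟨z', hz'⟩ := bu'.2 z
    have hz'' : u⟦(1 : ℤ)⟧' ≫ z' = z := hz'
    refine ⟨φ₀ + h' ≫ z', ?_⟩
    change c ≫ (φ₀ + h' ≫ z') = φ
    rw [Preadditive.comp_add, ← reassoc_of% h₃, hz'', ← hz]
    abel

/-- completion of the third vertex -/
theorem zeroAt_cone_completion (s : List A) (hs : Ideal.span {x | x ∈ s} = I) {T : Triangle (Dual.D A)}
    (hT : T ∈ distTriang (Dual.D A)) {C : Dual.D A} (p : ((DRing.derivedCompletion I).obj T.obj₂).obj ⟶ C)
    (q : C ⟶ (((DRing.derivedCompletion I).obj T.obj₁).obj)⟦(1 : ℤ)⟧)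
    (hT' : Triangle.mk ((DRing.derivedCompletion I).map T.mor₁).hom p q ∈ distTriang (Dual.D A)) (i : ℤ)
    (h : ∀ j, i ≤ j → j ≤ i + s.length → ZeroAt j T.obj₃) : ZeroAt i C := by
  let T' := Triangle.mk ((DRing.derivedCompletion I).map T.mor₁).hom p q
  have hsq : T.mor₁ ≫ DRing.toDerivedCompletion I T.obj₂ =
      DRing.toDerivedCompletion I T.obj₁ ≫ ((DRing.derivedCompletion I).map T.mor₁).hom :=
    (DRing.derivedCompletionAdj I).unit.naturality T.mor₁
  obtain ⟨c, hc₂, hc₃⟩ := complete_distinguished_triangle_morphism T T' hT hT'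
    (DRing.toDerivedCompletion I T.obj₁) (DRing.toDerivedCompletion I T.obj₂) hsq
  have hcompl : ∀ X, DRing.IsDerivedComplete I ((DRing.derivedCompletion I).obj X).obj := fun X =>
    ((DRing.derivedCompletion I).obj X).property
  have hC : DRing.IsDerivedComplete I C := (isDerivedComplete_span_iff _ I hs _).2 fun f hf =>
    cAlong_obj₃ hT' ((isDerivedComplete_span_iff _ I hs _).1 (hcompl _) f hf)
      ((isDerivedComplete_span_iff _ I hs _).1 (hcompl _) f hf)
  -- universality of `c`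
  have hu : ∀ E, DRing.IsDerivedComplete I E → Function.Bijective (fun φ : C ⟶ E => c ≫ φ) := by
    intro E hE
    have hsh : ∀ k : ℤ, DRing.IsDerivedComplete I (E⟦k⟧) := fun k =>
      (isDerivedComplete_span_iff _ I hs _).2 fun f hf => cAlong_shift ((isDerivedComplete_span_iff _ I hs _).1 hE f hf) k
    exact bijective_precomp_obj₃ hT hT' _ _ c hsq hc₂ hc₃ E (completion_univ I _ E hE) (completion_univ I _ E hE)
      (bijective_precomp_shift _ (completion_univ I _ _ (hsh (-1))))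
      (bijective_precomp_shift _ (completion_univ I _ _ (hsh (-1))))
  obtain ⟨v, -⟩ := exists_iso_completion I c hC hu
  exact zeroAt_of_iso v.symm (zeroAt_completion I s hs T.obj₃ i h)

end Groth.Agent.DRingKP
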