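import Groth.Agent.DRingKP.DComplFun

/-!
Completion of maps that are isomorphisms in a range of degrees.
-/

set_option autoImplicit false
set_option linter.style.haveILetI false
universe u

namespace Groth.Agent.DRingKP

open CategoryTheory Limits DerivedCategory Pretriangulated

attribute [local instance] HasDerivedCategory.standard

variable {A : Type u} [CommRing A]

local notation "HH" => DerivedCategory.homologyFunctor (ModuleCat _)

/-- the cone vanishes in degree `n` iff `H^n` is epi and `H^(n+1)` is mono -/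
lemma zeroAt_obj₃_iff (T : Triangle (Dual.D A)) (hT : T ∈ distTriang (Dual.D A)) (n₀ n₁ : ℤ) (h : n₀ + 1 = n₁) :
    ZeroAt n₀ T.obj₃ ↔ Epi ((HH n₀).map T.mor₁) ∧ Mono ((HH n₁).map T.mor₁) := by
  constructor
  · intro hz
    have hz' : IsZero ((DerivedCategory.homologyFunctor (ModuleCat.{u} A) n₀).obj T.obj₃) :=
      @ModuleCat.isZero_of_subsingleton _ _ _ hz
    exact ⟨(DerivedCategory.HomologySequence.exact₂ T hT n₀).epi_f (hz'.eq_of_tgt _ _),
      (DerivedCategory.HomologySequence.exact₁ T hT n₀ n₁ h).mono_g (hz'.eq_of_src _ _)⟩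
  · rintro ⟨he, hm⟩
    haveI := he
    haveI := hm
    have h1 : (HH n₀).map T.mor₂ = 0 := by
      rw [← cancel_epi ((HH n₀).map T.mor₁), ← Functor.map_comp, comp_distTriang_mor_zero₁₂ T hT, Functor.map_zero,
        comp_zero]
    have h2 : DerivedCategory.HomologySequence.δ T n₀ n₁ h = 0 := by
      rw [← cancel_mono ((HH n₁).map T.mor₁), DerivedCategory.HomologySequence.δ_comp T hT n₀ n₁ h, zero_comp]
    exact ModuleCat.subsingleton_of_isZero
      ((DerivedCategory.HomologySequence.exact₃ T hT n₀ n₁ h).isZero_of_both_zeros h1 h2)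

theorem zeroAt_completion_map (I : Ideal A) [DRing.HasDerivedCompletion I] (s : List A)
    (hs : Ideal.span {x | x ∈ s} = I) {K L : Dual.D A} (φ : K ⟶ L) (n : ℤ)
    (h : ∀ j : ℤ, n ≤ j → j ≤ n + s.length →
      Epi ((HH j).map φ) ∧ Mono ((HH (j + 1)).map φ)) :
    Epi ((HH n).map ((DRing.derivedCompletion I).map φ).hom) ∧
      Mono ((HH (n + 1)).map ((DRing.derivedCompletion I).map φ).hom) := by
  obtain ⟨Z, g, d, hT⟩ := Pretriangulated.distinguished_cocone_triangle φ
  obtain ⟨C, p, q, hT'⟩ := Pretriangulated.distinguished_cocone_triangle ((DRing.derivedCompletion I).map φ).hom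
  exact (zeroAt_obj₃_iff _ hT' n (n + 1) rfl).1 (zeroAt_cone_completion I s hs (T := Triangle.mk φ g d) hT p q hT' n
    fun j hj hj' => (zeroAt_obj₃_iff _ hT j (j + 1) rfl).2 (h j hj hj'))

end Groth.Agent.DRingKP
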