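import Mathlib.Algebra.Category.ModuleCat.Monoidal.Basic
import Mathlib.CategoryTheory.Monoidal.Rigid.Basic
import Mathlib.RingTheory.Finiteness.Basic
import Mathlib.Algebra.Module.Projective
import Mathlib.LinearAlgebra.StdBasis
import Mathlib.LinearAlgebra.TensorProduct.Finiteness

/-!
Dualizable modules are finite projective.
-/

set_option autoImplicit false
universe u

namespace Groth.Agent.DRingKP

open CategoryTheory MonoidalCategory TensorProduct

lemma finite_projective_of_repr {R M : Type u} [CommRing R] [AddCommGroup M] [Module R M] {k : ℕ}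
    (m : Fin k → M) (φ : M →ₗ[R] Fin k → R) (h : ∀ x, ∑ i, φ x i • m i = x) :
    Module.Finite R M ∧ Module.Projective R M := by
  let p : (Fin k → R) →ₗ[R] M := Fintype.linearCombination R m
  have hp : p ∘ₗ φ = LinearMap.id := LinearMap.ext fun x => by
    simpa [p, Fintype.linearCombination_apply] using h x
  exact ⟨Module.Finite.of_surjective p fun x => ⟨φ x, LinearMap.congr_fun hp x⟩,
    Module.Projective.of_split φ p hp⟩

theorem finite_projective_of_exactPairing (R : Type u) [CommRing R] (M N : Type u) [AddCommGroup M]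
    [Module R M] [AddCommGroup N] [Module R N] [ExactPairing (ModuleCat.of R M) (ModuleCat.of R N)] :
    Module.Finite R M ∧ Module.Projective R M ∧ Module.Finite R N ∧ Module.Projective R N := by
  let M₀ := ModuleCat.of R M
  let N₀ := ModuleCat.of R N
  let ev : N ⊗[R] M →ₗ[R] R := (ExactPairing.evaluation M₀ N₀).hom
  obtain ⟨k, m, n, hc⟩ : ∃ (k : ℕ) (m : Fin k → M) (n : Fin k → N),
      (ExactPairing.coevaluation M₀ N₀).hom (1 : R) = ∑ i, m i ⊗ₜ[R] n i :=
    TensorProduct.exists_sum_tmul_eq ((ExactPairing.coevaluation M₀ N₀).hom (1 : R) : M ⊗[R] N)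
  have h1 : ∀ x : M, ∑ i, ev (n i ⊗ₜ x) • m i = x := fun x => by
    have h : (LinearMap.lTensor M ev) (TensorProduct.assoc R M N M
        (((ExactPairing.coevaluation M₀ N₀).hom (1 : R) : M ⊗[R] N) ⊗ₜ[R] x)) =
        (TensorProduct.rid R M).symm (TensorProduct.lid R M ((1 : R) ⊗ₜ[R] x)) :=
      LinearMap.congr_fun (congrArg ModuleCat.Hom.hom (ExactPairing.evaluation_coevaluation M₀ N₀))
        ((1 : R) ⊗ₜ[R] x)
    have h' := congrArg (TensorProduct.rid R M) h
    rw [hc] at h'
    simpa [TensorProduct.sum_tmul] using h'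
  have h2 : ∀ y : N, ∑ i, ev (y ⊗ₜ m i) • n i = y := fun y => by
    have h : (LinearMap.rTensor N ev) ((TensorProduct.assoc R N M N).symm
        (y ⊗ₜ[R] ((ExactPairing.coevaluation M₀ N₀).hom (1 : R) : M ⊗[R] N))) =
        (TensorProduct.lid R N).symm (TensorProduct.rid R N (y ⊗ₜ[R] (1 : R))) :=
      LinearMap.congr_fun (congrArg ModuleCat.Hom.hom (ExactPairing.coevaluation_evaluation M₀ N₀))
        (y ⊗ₜ[R] (1 : R))
    have h' := congrArg (TensorProduct.lid R N) h
    rw [hc] at h'
    simpa [TensorProduct.tmul_sum] using h'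
  obtain ⟨hMf, hMp⟩ := finite_projective_of_repr m
    (LinearMap.pi fun i => ev ∘ₗ TensorProduct.mk R N M (n i)) h1
  obtain ⟨hNf, hNp⟩ := finite_projective_of_repr n
    (LinearMap.pi fun i => ev ∘ₗ (TensorProduct.mk R N M).flip (m i)) h2
  exact ⟨hMf, hMp, hNf, hNp⟩

end Groth.Agent.DRingKP
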