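import Groth.Agent.DRingKP.Fibre
import Groth.Agent.DRingKP.Nilp

/-!
Tor amplitude from reduction modulo an ideal in the Jacobson radical.
-/

set_option autoImplicit false
set_option linter.style.haveILetI false
universe u

namespace Groth.Agent.DRingKP

open CategoryTheory Limits DerivedCategory MonoidalCategory HomologicalComplex

attribute [local instance] HasDerivedCategory.standard

variable {A : Type u} [CommRing A]

theorem exists_homotopy_of_exact {P : DRing.Cx A} (hP : DRing.TermwiseFiniteFree P) (i : ℤ)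
    (h : ∀ m : Ideal A, m.IsMaximal → IsZero (((tR (ModuleCat.of A (A ⧸ m))).obj P).homology i)) :
    ∃ (s : P.X (i + 1) ⟶ P.X i) (t : P.X i ⟶ P.X (i - 1)),
      P.d i (i + 1) ≫ s + t ≫ P.d (i - 1) i = 𝟙 (P.X i) := by
  haveI := fun k => (hP k).1
  haveI := fun k => (hP k).2
  refine exists_homotopy_of_fibres P (i - 1) i (i + 1) fun m hm x hx => ?_
  have hex := (exactAt_iff_isZero_homology _ i).2 (h m hm)
  rw [HomologicalComplex.exactAt_iff' _ (i - 1) i (i + 1) (by simp) (by simp),
    ShortComplex.moduleCat_exact_iff] at hex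
  let u : ∀ k, P.X k →ₗ[A] TensorProduct A (P.X k) (A ⧸ m) := fun k =>
    (TensorProduct.mk A (P.X k) (A ⧸ m)).flip (Ideal.Quotient.mk m 1)
  let ev : ∀ k, TensorProduct A (P.X k) (A ⧸ m) ≃ₗ[A] P.X k ⧸ m • (⊤ : Submodule A (P.X k)) := fun k =>
    TensorProduct.tensorQuotEquivQuotSMul (P.X k) m
  have hev : ∀ k z, ev k (u k z) = Submodule.Quotient.mk z := fun k z => by
    refine (TensorProduct.tensorQuotEquivQuotSMul_tmul_mk m z 1).trans ?_
    rw [one_smul]
  have hu : u (i + 1) ((P.d i (i + 1)).hom x) = 0 := (ev (i + 1)).injective (by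
    rw [hev, map_zero]; exact (Submodule.Quotient.mk_eq_zero _).2 hx)
  obtain ⟨y, hy⟩ := hex (u i x) hu
  obtain ⟨y₀, hy₀⟩ := Submodule.Quotient.mk_surjective _ (ev (i - 1) y)
  obtain rfl : u (i - 1) y₀ = y := (ev (i - 1)).injective ((hev _ _).trans hy₀)
  refine ⟨y₀, (Submodule.Quotient.mk_eq_zero _).1 ?_⟩
  have h2 : u i ((P.d (i - 1) i).hom y₀) = u i x := hy
  rw [← hev, map_sub, map_sub, h2, sub_self]

theorem amp_of_jacobson (I : Ideal A) (hI : I ≤ Ideal.jacobson (⊥ : Ideal A))
    [DRing.HasLBaseChange (Ideal.Quotient.mk I)] (K : Dual.D A) (hK : DRing.IsPseudoCoherent' A K) (a b : ℤ)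
    (h : DRing.HasTorAmplitudeIn (A ⧸ I) a b ((DRing.LBaseChange (Ideal.Quotient.mk I)).obj K)) :
    DRing.HasTorAmplitudeIn A a b K := by
  haveI : DRing.HasLBaseChange (algebraMap A (A ⧸ I)) := ‹DRing.HasLBaseChange (Ideal.Quotient.mk I)›
  obtain ⟨P, c, hc, hP, ⟨eP⟩⟩ := id hK
  have hPp := projective_X (termwiseFiniteProjective_of_free hP)
  haveI := isKProjective_of_vanishesAbove hc hPp
  obtain ⟨Q, hQb, hQ, ⟨eQ⟩⟩ := exists_proj_rep_top _ b (torVan_isAbove h)
  haveI := isKProjective_of_vanishesAbove hQb hQ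
  let e : DRing.toD Q ≅ DRing.toD ((bc (algebraMap A (A ⧸ I))).obj P) :=
    eQ ≪≫ (DRing.LBaseChange (algebraMap A (A ⧸ I))).mapIso eP.symm ≪≫ lBaseChangeIso (algebraMap A (A ⧸ I)) P
  refine amp_iff_torVan.2 ⟨P, c, hc, flat_of_projective hPp, ⟨eP⟩, fun M i hi => ?_⟩
  obtain ⟨s, t, hst⟩ := exists_homotopy_of_exact hP i fun m hm => by
    have hIm : I ≤ m := hI.trans (sInf_le ⟨bot_le, hm⟩)
    letI : Module (A ⧸ I) (A ⧸ m) := Module.compHom _ (Ideal.Quotient.factor hIm)
    let N : ModuleCat.{u} (A ⧸ I) := ModuleCat.of (A ⧸ I) (A ⧸ m)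
    let el : (ModuleCat.restrictScalars.{u} (algebraMap A (A ⧸ I))).obj N ≃ₗ[A] A ⧸ m :=
      { toFun := fun x => x
        invFun := fun x => x
        map_add' := fun _ _ => rfl
        map_smul' := fun r x => rfl
        left_inv := fun _ => rfl
        right_inv := fun _ => rfl }
    refine (isZero_tR_res (isKFlat_of_bounded hc (flat_of_projective hPp))
      (isKFlat_of_bounded hQb (flat_of_projective hQ)) e N i
      (torVan_rep (torVan_of_amp h) hQb (flat_of_projective hQ) eQ N i hi)).of_iso ?_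
    exact (HomologicalComplex.homologyFunctor _ _ i).mapIso
      ((NatIso.mapHomologicalComplex ((tensoringRight (ModuleCat.{u} A)).mapIso el.toModuleIso.symm) _).app P)
  rw [← HomologicalComplex.exactAt_iff_isZero_homology,
    HomologicalComplex.exactAt_iff' _ (i - 1) i (i + 1) (by simp) (by simp), ShortComplex.moduleCat_exact_iff]
  intro x hx
  have := LinearMap.congr_fun (congrArg ModuleCat.Hom.hom (congrArg (tensorRight M).map hst)) x
  simp only [Functor.map_add, Functor.map_comp, CategoryTheory.Functor.map_id, ModuleCat.hom_add,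
    ModuleCat.hom_comp, LinearMap.add_apply, LinearMap.comp_apply, ModuleCat.hom_id, LinearMap.id_apply] at this
  refine ⟨((tensorRight M).map t).hom x, ?_⟩
  have hx' : ((tensorRight M).map (P.d i (i + 1))).hom x = 0 := hx
  rw [hx', map_zero, zero_add] at this
  exact this

theorem finiteTor_iff_bounded
    (hA : ∀ (M : Type u) [AddCommGroup M] [Module A M], DRing.HasFiniteTorDim A M) (K : Dual.D A) :
    DRing.HasFiniteTorDimCx A K ↔ ∃ a b : ℤ, ∀ i : ℤ, i < a ∨ b < i → Subsingleton (Dual.HD A K i) := by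
  constructor
  · rintro ⟨a, b, E, hE, -, ⟨e⟩⟩
    exact ⟨a, b, fun i hi => ModuleCat.subsingleton_of_isZero
      (((ShortComplex.isZero_homology_of_isZero_X₂ _ (hE i hi)).of_iso
        ((homologyFunctorFactors _ i).app E)).of_iso
        ((DerivedCategory.homologyFunctor (ModuleCat.{u} A) i).mapIso e).symm)⟩
  · rintro ⟨c, d, hz⟩
    choose n hn using fun i : ℤ => hA ((DerivedCategory.homologyFunctor (ModuleCat.{u} A) i).obj K)
    let N := (Finset.Icc c d).sup n
    refine ⟨c - N, d, amp_of_homology (c - N) d c d K (fun i hi => ?_) fun i => ?_⟩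
    · haveI := hz i hi
      exact @ModuleCat.isZero_of_subsingleton _ _ ((DerivedCategory.homologyFunctor (ModuleCat.{u} A) i).obj K) this
    · by_cases hi : i < c ∨ d < i
      · haveI := hz i hi
        exact amp_of_isZero _ _ ((DerivedCategory.singleFunctor (ModuleCat.{u} A) 0).map_isZero
          (@ModuleCat.isZero_of_subsingleton _ _ ((DerivedCategory.homologyFunctor (ModuleCat.{u} A) i).obj K) this))
      · have hle : n i ≤ N := Finset.le_sup (Finset.mem_Icc.2 ⟨by lia, by lia⟩)
        exact amp_widen (by lia) (by lia) ((hasTorDimLE_iff _ (n i)).1 (hn i))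

end Groth.Agent.DRingKP
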