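import Groth.Agent.DRingKP.InjAmp

/-!
Splitting a complex at a degree.
-/

set_option autoImplicit false
set_option linter.style.haveILetI false
universe u

namespace Groth.Agent.DRingKP

open CategoryTheory Limits DerivedCategory HomologicalComplex Pretriangulated

attribute [local instance] HasDerivedCategory.standard

variable {A : Type u} [CommRing A]

local notation "tt" => (DerivedCategory.TStructure.t : Triangulated.TStructure (Dual.D _))

lemma isLE_shift_one {X : Dual.D A} {n : ℤ} (hX : X.IsLE n) : (X⟦(1 : ℤ)⟧).IsLE (n - 1) := by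
  haveI := hX
  exact DerivedCategory.TStructure.t.isLE_shift X n 1 (n - 1) (by lia)

lemma isGE_inD_shift (N : ModuleCat.{u} A) (a : ℤ) :
    (((DerivedCategory.singleFunctor (ModuleCat.{u} A) 0).obj N)⟦-a⟧).IsGE a :=
  DerivedCategory.TStructure.t.isGE_shift ((DerivedCategory.singleFunctor (ModuleCat.{u} A) 0).obj N) 0 (-a) a (by lia)

/-- the truncation triangle -/
lemma isIso_homology_truncLTι (K : Dual.D A) (n i : ℤ) (hi : i < n) :
    IsIso ((DerivedCategory.homologyFunctor (ModuleCat.{u} A) i).map (((tt).truncLTι n).app K)) := by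
  have hT := (tt).triangleLTGE_distinguished n K
  haveI hge : (((tt).truncGE n).obj K).IsGE n := inferInstanceAs ((tt).IsGE (((tt).truncGE n).obj K) n)
  haveI : Epi ((DerivedCategory.homologyFunctor (ModuleCat.{u} A) i).map (((tt).truncLTι n).app K)) :=
    (HomologySequence.epi_homologyMap_mor₁_iff _ hT i).2 ((DerivedCategory.isZero_of_isGE _ n i hi).eq_of_tgt _ _)
  haveI : Mono ((DerivedCategory.homologyFunctor (ModuleCat.{u} A) i).map (((tt).truncLTι n).app K)) :=
    (HomologySequence.mono_homologyMap_mor₁_iff _ hT (i - 1) i (by lia)).2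
      ((DerivedCategory.isZero_of_isGE (((tt).truncGE n).obj K) n (i - 1) (by lia)).eq_of_src _ _)
  exact isIso_of_mono_of_epi _

theorem split_of_hom_vanishing (a b : ℤ) (K : Dual.D A) (hKb : ∀ i : ℤ, b < i → Subsingleton (Dual.HD A K i))
    (hB : ∀ N : ModuleCat.{u} A, Subsingleton (((tt).truncGE (a + 1)).obj K ⟶
      ((DerivedCategory.singleFunctor (ModuleCat.{u} A) 0).obj N)⟦-a⟧))
    [HasBinaryBiproduct (((tt).truncLT (a + 1)).obj K) (((tt).truncGE (a + 1)).obj K)] :
    (∃ e : K ≅ ((tt).truncLT (a + 1)).obj K ⊞ ((tt).truncGE (a + 1)).obj K,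
      ((tt).truncLTι (a + 1)).app K ≫ e.hom = biprod.inl ∧ e.hom ≫ biprod.snd = ((tt).truncGEπ (a + 1)).app K) ∧
      ∃ (P : DRing.Cx A) (b : ℤ), DRing.VanishesOutside P (a + 1) b ∧ (∀ i : ℤ, Module.Projective A (P.X i)) ∧
        Nonempty (DRing.toD P ≅ ((tt).truncGE (a + 1)).obj K) := by
  have hT := (tt).triangleLTGE_distinguished (a + 1) K
  let B := ((tt).truncGE (a + 1)).obj K
  haveI hge : B.IsGE (a + 1) := inferInstanceAs ((tt).IsGE (((tt).truncGE (a + 1)).obj K) (a + 1))
  haveI hle : (((tt).truncLT (a + 1)).obj K).IsLE a := inferInstanceAs ((tt).IsLE (((tt).truncLT (a + 1)).obj K) a)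
  haveI hle1 : ((((tt).truncLT (a + 1)).obj K)⟦(1 : ℤ)⟧).IsLE (a - 1) := isLE_shift_one hle
  let c := max b a
  have hH : ∀ n : ℤ, (n < a + 1 - 1 ∨ c < n) → Subsingleton (Dual.HD A B n) := by
    intro n hn
    refine ModuleCat.subsingleton_of_isZero (M := (DerivedCategory.homologyFunctor (ModuleCat.{u} A) n).obj B) ?_
    rcases hn with hn | hn
    · exact DerivedCategory.isZero_of_isGE B (a + 1) n (by lia)
    · haveI : Subsingleton ((DerivedCategory.homologyFunctor (ModuleCat.{u} A) n).obj K) := hKb n (by lia)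
      exact (HomologySequence.exact₃ _ hT n (n + 1) rfl).isZero_of_both_zeros
        ((ModuleCat.isZero_of_subsingleton ((DerivedCategory.homologyFunctor (ModuleCat.{u} A) n).obj K)).eq_of_src _ _)
        ((DerivedCategory.isZero_of_isLE (((tt).truncLT (a + 1)).obj K) a (n + 1) (by lia)).eq_of_tgt _ _)
  obtain ⟨P, hP, hPp, ⟨eP⟩⟩ := projAmp_of_vanishing B (a + 1) c hH (fun N => by
    rw [show a + 1 - 1 = a by ring]; exact hB N)
  refine ⟨?_, P, c, hP, hPp, ⟨eP⟩⟩
  have hab : IsAbove (a + 1) ((((tt).truncLT (a + 1)).obj K)⟦(1 : ℤ)⟧) := fun i hi =>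
    DerivedCategory.isZero_of_isLE _ (a - 1) i (by lia)
  have hδ : ((tt).truncGEδLT (a + 1)).app K = 0 := @Subsingleton.elim _ (subsingleton_hom hP hPp eP hab) _ _
  obtain ⟨e, he₁, he₂⟩ := exists_iso_binaryBiproduct_of_distTriang _ hT hδ
  exact ⟨e, he₁, he₂.symm⟩

lemma hom_trunc_eq_zero {a : ℤ} {K : Dual.D A} (N : ModuleCat.{u} A)
    (g : ((tt).truncGE (a + 1)).obj K ⟶ ((DerivedCategory.singleFunctor (ModuleCat.{u} A) 0).obj N)⟦-a⟧)
    (h : ((tt).truncGEπ (a + 1)).app K ≫ g = 0) : g = 0 := by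
  obtain ⟨g', hg'⟩ := Triangle.yoneda_exact₃ _ ((tt).triangleLTGE_distinguished (a + 1) K) g h
  haveI hle : (((tt).truncLT (a + 1)).obj K).IsLE a := inferInstanceAs ((tt).IsLE (((tt).truncLT (a + 1)).obj K) a)
  haveI hle1 : ((((tt).truncLT (a + 1)).obj K)⟦(1 : ℤ)⟧).IsLE (a - 1) := isLE_shift_one hle
  haveI := isGE_inD_shift N a
  rw [hg', show g' = 0 from DerivedCategory.TStructure.t.zero_of_isLE_of_isGE g' (a - 1) a (by lia) hle1 inferInstance]
  exact comp_zero

lemma subsingleton_hom_injective (B : Dual.D A) (a : ℤ) (hB : Subsingleton (Dual.HD A B a)) (E : ModuleCat.{u} A)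
    [Injective E] : Subsingleton (B ⟶ ((DerivedCategory.singleFunctor (ModuleCat.{u} A) 0).obj E)⟦-a⟧) := by
  let C := DerivedCategory.Q.objPreimage B
  let eC : DRing.toD C ≅ B := DerivedCategory.Q.objObjPreimageIso B
  let S : DRing.Cx A := (HomologicalComplex.single _ (ComplexShape.up ℤ) a).obj E
  haveI : ∀ j, Injective (S.X j) := fun j => by
    by_cases hj : j = a
    · subst hj
      exact Injective.of_iso (singleObjXSelf (ComplexShape.up ℤ) j E).symm inferInstance
    · exact (isZero_single_obj_X (ComplexShape.up ℤ) a E j hj).injective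
  haveI : S.IsStrictlyGE a := (CochainComplex.isStrictlyGE_iff S a).2 fun j hj =>
    isZero_single_obj_X (ComplexShape.up ℤ) a E j (by lia)
  haveI hS := CochainComplex.isKInjective_of_injective S a
  suffices Subsingleton (DerivedCategory.Q.obj C ⟶ DerivedCategory.Q.obj S) from
    @Equiv.subsingleton _ _ (homShiftEquiv eC E a).symm this
  refine subsingleton_of_forall_eq 0 fun α => ?_
  obtain ⟨φ, rfl⟩ := exists_lift_inj α
  haveI hex : Mono (C.fromOpcycles a (a + 1)) := by
    haveI : Subsingleton ((DerivedCategory.homologyFunctor (ModuleCat.{u} A) a).obj B) := hB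
    have hz : IsZero (C.homology a) := (ModuleCat.isZero_of_subsingleton ((DerivedCategory.homologyFunctor (ModuleCat.{u} A) a).obj B)).of_iso
      (((DerivedCategory.homologyFunctorFactors (ModuleCat.{u} A) a).app C).symm ≪≫
        (DerivedCategory.homologyFunctor (ModuleCat.{u} A) a).mapIso eC)
    exact (ShortComplex.exact_of_f_is_kernel (ShortComplex.mk (C.homologyι a) (C.fromOpcycles a (a + 1))
      (C.homologyι_comp_fromOpcycles a (a + 1))) (C.homologyIsKernel a (a + 1) (by simp))).mono_g (hz.eq_of_src _ _)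
  have hd : C.d (a - 1) a ≫ φ.f a = 0 := by
    rw [← φ.comm, (isZero_single_obj_X (ComplexShape.up ℤ) a E (a - 1) (by lia)).eq_of_src (S.d (a - 1) a) 0, comp_zero]
  let q : C.opcycles a ⟶ S.X a := C.descOpcycles (φ.f a) (a - 1) (by simp) hd
  let r : C.X (a + 1) ⟶ S.X a := Injective.factorThru q (C.fromOpcycles a (a + 1))
  have hr : C.d a (a + 1) ≫ r = φ.f a := by
    rw [← C.p_fromOpcycles a (a + 1), Category.assoc, Injective.comp_factorThru]
    simp [q]
  let hom : ∀ i j, C.X i ⟶ S.X j := fun i j =>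
    if h : i = a + 1 ∧ j = a then (C.XIsoOfEq h.1).hom ≫ r ≫ (S.XIsoOfEq h.2.symm).hom else 0
  have hom1 : hom (a + 1) a = r := by simp [hom]
  have hS0 : S.d (a - 1) a = 0 :=
    IsZero.eq_of_src (isZero_single_obj_X (ComplexShape.up ℤ) a E (a - 1) (ne_of_lt (sub_one_lt a))) _ _
  let ho : Homotopy φ 0 :=
    { hom := hom
      zero := fun i j hij => by
        simp only [hom]
        rw [dif_neg]
        rintro ⟨rfl, rfl⟩
        exact hij (by simp)
      comm := fun i => by
        by_cases hi : i = a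
        · rw [hi, dNext_eq _ (show (ComplexShape.up ℤ).Rel a (a + 1) from rfl),
            prevD_eq _ (show (ComplexShape.up ℤ).Rel (a - 1) a by simp), hom1, hr, hS0]
          rw [comp_zero, add_zero, HomologicalComplex.zero_f, add_zero]
        · exact (isZero_single_obj_X (ComplexShape.up ℤ) a E i hi).eq_of_tgt _ _ }
  rw [DerivedCategory.Q_map_eq_of_homotopy _ ho, Functor.map_zero]

end Groth.Agent.DRingKP
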