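import Groth.Agent.DRingKP.Regular
import Groth.Agent.DRingKP.SplitGap
import Mathlib.Algebra.Homology.DerivedCategory.Ext.Basic

/-!
Regular rings of finite dimension.
-/

set_option autoImplicit false
set_option linter.style.haveILetI false
universe u

namespace Groth.Agent.DRingKP

open CategoryTheory Limits DerivedCategory Pretriangulated

attribute [local instance] HasDerivedCategory.standard

variable {R : Type u} [CommRing R]

/-- global dimension of a regular ring -/
theorem pdLE_of_regular [IsNoetherianRing R]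
    (hreg : ∀ p : PrimeSpectrum R, IsRegularLocalRing (Localization.AtPrime p.asIdeal)) (d : ℕ)
    (hd : ringKrullDim R = d) (M : Type u) [AddCommGroup M] [Module R M] :
    HasProjectiveDimensionLE (ModuleCat.of R M) d := by
  have hfin : ∀ (N : Type u) [AddCommGroup N] [Module R N] [Module.Finite R N],
      HasProjectiveDimensionLE (ModuleCat.of R N) d := by
    intro N _ _ _
    refine ((ModuleCat.of R N).hasProjectiveDimensionLE_iff_forall_maximalSpectrum _).2 fun q => ?_
    haveI := hreg ⟨q.asIdeal, q.isMaximal.isPrime⟩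
    let L := Localization.AtPrime q.asIdeal
    haveI : IsRegularLocalRing L := hreg ⟨q.asIdeal, q.isMaximal.isPrime⟩
    obtain ⟨e, he⟩ : ∃ e : ℕ, ringKrullDim L = e := ⟨_, (IsRegularLocalRing.spanFinrank_maximalIdeal (R := L)).symm⟩
    have hed : e ≤ d := by
      have h1 : ringKrullDim L ≤ ringKrullDim R := by
        rw [IsLocalization.AtPrime.ringKrullDim_eq_height q.asIdeal L]
        exact Ideal.height_le_ringKrullDim_of_ne_top q.isMaximal.ne_top
      rw [he, hd] at h1
      exact_mod_cast h1
    haveI : HasProjectiveDimensionLT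
        (ModuleCat.of (Localization q.asIdeal.primeCompl) (LocalizedModule q.asIdeal.primeCompl N)) (d + 1) :=
      @hasProjectiveDimensionLT_of_ge _ _ _ _ (e + 1) _ (by lia)
        (SerreReg.pdLE_of_isRegularLocalRing L e he (LocalizedModule q.asIdeal.primeCompl N))
    exact hasProjectiveDimensionLT_of_iso (LinearEquiv.toModuleIso
      (Shrink.linearEquiv (Localization q.asIdeal.primeCompl) (LocalizedModule q.asIdeal.primeCompl N)).symm) _
  refine hasProjectiveDimensionLT_of_enoughInjectives.{u} _ _ fun Y => ?_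
  haveI : HasInjectiveDimensionLE Y d := SerreReg.hasInjectiveDimensionLE_of_cyclic d Y fun I =>
    haveI : HasProjectiveDimensionLE (ModuleCat.of R (R ⧸ I)) d := hfin _
    HasProjectiveDimensionLT.subsingleton _ (d + 1) _ le_rfl Y
  exact HasInjectiveDimensionLT.subsingleton Y (d + 1) _ le_rfl _

/-- no maps to high shifts -/
lemma subsingleton_hom_of_pdLE (M N : ModuleCat.{u} R) (d : ℕ) [HasProjectiveDimensionLE M d] (i : ℤ) (hi : (d : ℤ) < i) :
    Subsingleton ((DerivedCategory.singleFunctor (ModuleCat.{u} R) 0).obj M ⟶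
      ((DerivedCategory.singleFunctor (ModuleCat.{u} R) 0).obj N)⟦i⟧) := by
  obtain ⟨n, rfl⟩ : ∃ n : ℕ, i = n := ⟨i.toNat, by lia⟩
  haveI : Subsingleton (Abelian.Ext.{u} M N n) := HasProjectiveDimensionLT.subsingleton M (d + 1) n (by lia) N
  exact (Abelian.Ext.homEquiv (X := M) (Y := N) (n := n)).symm.subsingleton

/-- vanishing above `-a` for all modules -/
def HomVan (a : ℤ) (X : Dual.D R) : Prop :=
  ∀ (N : ModuleCat.{u} R) (i : ℤ), -a < i →
    Subsingleton (X ⟶ ((DerivedCategory.singleFunctor (ModuleCat.{u} R) 0).obj N)⟦i⟧)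

lemma homVan_of_isZero {a : ℤ} {X : Dual.D R} (h : IsZero X) : HomVan a X :=
  fun _ _ _ => ⟨fun _ _ => h.eq_of_src _ _⟩

lemma homVan_of_iso {a : ℤ} {X Y : Dual.D R} (e : X ≅ Y) (h : HomVan a X) : HomVan a Y :=
  fun N i hi => @Equiv.subsingleton _ _ (e.homCongr (Iso.refl _)).symm (h N i hi)

lemma homVan_obj₂ {a : ℤ} (T : Triangle (Dual.D R)) (hT : T ∈ distTriang (Dual.D R)) (h₁ : HomVan a T.obj₁)
    (h₃ : HomVan a T.obj₃) : HomVan a T.obj₂ := fun N i hi => subsingleton_of_forall_eq 0 fun g => by
  obtain ⟨g', hg'⟩ := Triangle.yoneda_exact₂ T hT g (@Subsingleton.elim _ (h₁ N i hi) _ _)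
  rw [hg', show g' = 0 from @Subsingleton.elim _ (h₃ N i hi) _ _]
  exact comp_zero

lemma homVan_of_homology (a : ℤ) (d : ℕ) (hd : ∀ M : ModuleCat.{u} R, HasProjectiveDimensionLE M d) (b : ℤ)
    (K : Dual.D R) (hz : ∀ i, (i < a + d ∨ b < i) → IsZero ((DerivedCategory.homologyFunctor (ModuleCat.{u} R) i).obj K)) :
    HomVan a K := by
  suffices H : ∀ (k : ℕ) (b : ℤ) (K : Dual.D R), b < a + d + k →
      (∀ i, (i < a + d ∨ b < i) → IsZero ((DerivedCategory.homologyFunctor (ModuleCat.{u} R) i).obj K)) →
      HomVan a K from H (b + 1 - (a + d)).toNat b K (by lia) hz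
  intro k
  induction k with
  | zero =>
    intro b K hb hz
    haveI : K.IsLE (a + d - 1) := (DerivedCategory.isLE_iff K _).2 fun i _ => hz i (by lia)
    haveI : K.IsGE (a + d) := (DerivedCategory.isGE_iff K _).2 fun i hi => hz i (Or.inl hi)
    exact homVan_of_isZero (DerivedCategory.TStructure.t.isZero K (a + d - 1) (a + d) (by lia))
  | succ k ih =>
    intro b K hb hz
    by_cases hba : b < a + d
    · exact ih b K (by lia) hz
    obtain ⟨X, B, f, g, w, hT, hX, hlt, ⟨e⟩⟩ := exists_top_triangle K b fun i hi => hz i (Or.inr (by lia))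
    refine homVan_obj₂ _ hT (ih (b - 1) X (by lia) fun i hi => ?_) (homVan_of_iso e.symm ?_)
    · by_cases hi' : i < b
      · exact (hz i (by lia)).of_iso (hlt i hi').some
      · exact hX i (by lia)
    · intro N i hi
      let M := (DerivedCategory.homologyFunctor (ModuleCat.{u} R) b).obj K
      haveI := hd M
      have h1 := subsingleton_hom_of_pdLE M N d (i + b) (by lia)
      let adj := (shiftEquiv' (Dual.D R) (-b) b (by lia)).toAdjunction
      let e1 := (adj.homEquiv ((DerivedCategory.singleFunctor (ModuleCat.{u} R) 0).obj M)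
        (((DerivedCategory.singleFunctor (ModuleCat.{u} R) 0).obj N)⟦i⟧)).trans
        (Iso.homCongr (Iso.refl _) ((shiftFunctorAdd (Dual.D R) i b).app _).symm)
      have h2 := @Equiv.subsingleton _ _ e1 h1
      exact @Equiv.subsingleton _ _ (Iso.homCongr (singleShiftIso M b) (Iso.refl _)).symm h2

theorem exists_projRep (a b : ℤ) (d : ℕ) (hd : ∀ M : ModuleCat.{u} R, HasProjectiveDimensionLE M d) (K : Dual.D R)
    (hz : ∀ i, (i < a + d ∨ b < i) → IsZero ((DerivedCategory.homologyFunctor (ModuleCat.{u} R) i).obj K)) :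
    ∃ P : DRing.Cx R, DRing.VanishesOutside P a b ∧ (∀ i : ℤ, Module.Projective R (P.X i)) ∧
      Nonempty (DRing.toD P ≅ K) := by
  refine projAmp_of_vanishing K a b (fun n hn => ModuleCat.subsingleton_of_isZero
    (M := (DerivedCategory.homologyFunctor (ModuleCat.{u} R) n).obj K) (hz n (by lia))) fun N => ?_
  exact homVan_of_homology a d hd b K hz N _ (by lia)

end Groth.Agent.DRingKP

namespace Groth.Agent.DRingKP

open CategoryTheory Limits DerivedCategory Pretriangulated

attribute [local instance] HasDerivedCategory.standard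

variable {R : Type u} [CommRing R]

local notation "tt" => (DerivedCategory.TStructure.t : Triangulated.TStructure (Dual.D _))

/-- the projection to the upper truncation -/
lemma isIso_homology_truncGEπ (K : Dual.D R) (n i : ℤ) (hi : n ≤ i) :
    IsIso ((DerivedCategory.homologyFunctor (ModuleCat.{u} R) i).map (((tt).truncGEπ n).app K)) := by
  have hT := (tt).triangleLTGE_distinguished n K
  haveI hle : (((tt).truncLT n).obj K).IsLE (n - 1) := inferInstanceAs ((tt).IsLE (((tt).truncLT n).obj K) (n - 1))
  haveI : Mono ((DerivedCategory.homologyFunctor (ModuleCat.{u} R) i).map (((tt).truncGEπ n).app K)) :=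
    (HomologySequence.mono_homologyMap_mor₂_iff _ hT i).2
      ((DerivedCategory.isZero_of_isLE (((tt).truncLT n).obj K) (n - 1) i (by lia)).eq_of_src _ _)
  haveI : Epi ((DerivedCategory.homologyFunctor (ModuleCat.{u} R) i).map (((tt).truncGEπ n).app K)) :=
    (HomologySequence.epi_homologyMap_mor₂_iff _ hT i (i + 1) rfl).2
      ((DerivedCategory.isZero_of_isLE (((tt).truncLT n).obj K) (n - 1) (i + 1) (by lia)).eq_of_tgt _ _)
  exact isIso_of_mono_of_epi _

theorem isIso_natTransTruncGE (K : Dual.D R) (m n : ℤ) (hmn : m ≤ n)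
    (hgap : ∀ i, m ≤ i → i < n → Subsingleton (Dual.HD R K i)) :
    IsIso (((tt).natTransTruncGEOfLE m n hmn).app K) := by
  rw [DerivedCategory.isIso_iff]
  intro i
  haveI hn : (((tt).truncGE n).obj K).IsGE n := inferInstanceAs ((tt).IsGE (((tt).truncGE n).obj K) n)
  haveI hm : (((tt).truncGE m).obj K).IsGE m := inferInstanceAs ((tt).IsGE (((tt).truncGE m).obj K) m)
  rcases lt_or_ge i n with hi | hi
  · have hz : IsZero ((DerivedCategory.homologyFunctor (ModuleCat.{u} R) i).obj (((tt).truncGE m).obj K)) := by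
      rcases lt_or_ge i m with hi' | hi'
      · exact DerivedCategory.isZero_of_isGE _ m i hi'
      · haveI := isIso_homology_truncGEπ K m i hi'
        haveI : Subsingleton ((DerivedCategory.homologyFunctor (ModuleCat.{u} R) i).obj K) := hgap i hi' hi
        exact (ModuleCat.isZero_of_subsingleton ((DerivedCategory.homologyFunctor (ModuleCat.{u} R) i).obj K)).of_iso
          (asIso ((DerivedCategory.homologyFunctor (ModuleCat.{u} R) i).map (((tt).truncGEπ m).app K))).symm
    exact isIso_of_source_target_iso_zero _ hz.isoZero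
      (DerivedCategory.isZero_of_isGE (((tt).truncGE n).obj K) n i hi).isoZero
  · haveI := isIso_homology_truncGEπ K m i (by lia)
    haveI := isIso_homology_truncGEπ K n i hi
    have := congrArg (DerivedCategory.homologyFunctor (ModuleCat.{u} R) i).map ((tt).π_natTransTruncGEOfLE_app m n hmn K)
    rw [Functor.map_comp] at this
    exact IsIso.of_isIso_fac_left this

end Groth.Agent.DRingKP
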