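import Groth.Agent.DRingKP.Fibre2
import Mathlib.Algebra.Category.ModuleCat.ChangeOfRings

/-!
Perfectness modulo two ideals with product zero.
-/

set_option autoImplicit false
set_option linter.style.haveILetI false
universe u

namespace Groth.Agent.DRingKP

open CategoryTheory Limits DerivedCategory MonoidalCategory HomologicalComplex TensorProduct

attribute [local instance] HasDerivedCategory.standard

section Two

variable {A : Type u} [CommRing A] (B : Bool → Type u) [∀ b, CommRing (B b)] [∀ b, Algebra A (B b)]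
  (hsurj : ∀ b, Function.Surjective (algebraMap A (B b)))
  (hprod : RingHom.ker (algebraMap A (B true)) * RingHom.ker (algebraMap A (B false)) = ⊥)

include hsurj in
lemma top_le_smul_of_subsingleton (b : Bool) (M : Type u) [AddCommGroup M] [Module A M]
    (h : Subsingleton (B b ⊗[A] M)) : (⊤ : Submodule A M) ≤ RingHom.ker (algebraMap A (B b)) • ⊤ := by
  haveI := h
  obtain ⟨N, ⟨eN⟩⟩ := exists_top_quotient (hsurj b) (ModuleCat.of A M)
  let J := RingHom.ker (algebraMap A (B b))
  letI : Module A N := Module.compHom N (algebraMap A (B b))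
  haveI : IsScalarTower A (B b) N := ⟨fun a c x => by
    rw [Algebra.smul_def, mul_smul]; rfl⟩
  let q : M →ₗ[A] N :=
    { toFun := fun x => (eN.inv.hom ((J • (⊤ : Submodule A M)).mkQ x) : N)
      map_add' := fun x y => by simp only [map_add]; rfl
      map_smul' := fun a x => by simp only [map_smul]; rfl }
  have hq : ∀ x, q x = 0 := fun x => by
    rw [← one_smul (B b) (q x), ← LinearMap.liftBaseChange_tmul (A := B b) q (1 : B b) x,
      Subsingleton.elim ((1 : B b) ⊗ₜ[A] x) 0, map_zero]
  intro x _
  have h1 : (J • (⊤ : Submodule A M)).mkQ x = 0 :=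
    eN.toLinearEquiv.symm.injective ((hq x).trans (map_zero eN.toLinearEquiv.symm).symm)
  exact (Submodule.Quotient.mk_eq_zero _).1 h1

include hsurj hprod in
theorem detects_two : Detects (A := A) B := by
  intro M _ _ h
  have h1 := top_le_smul_of_subsingleton B hsurj true M (h true)
  have h2 := top_le_smul_of_subsingleton B hsurj false M (h false)
  have h3 : (⊤ : Submodule A M) ≤ ⊥ := by
    refine h1.trans ((Submodule.smul_mono le_rfl h2).trans ?_)
    rw [← Submodule.mul_smul, hprod, Submodule.bot_smul]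
  exact subsingleton_of_forall_eq 0 fun x => (Submodule.mem_bot A).1 (h3 Submodule.mem_top)

include hsurj hprod in
lemma isZero_tR_two {P : DRing.Cx A} (hP : DRing.TermwiseFlat P) (i : ℤ)
    (h : ∀ (b : Bool) (N : ModuleCat.{u} (B b)),
      IsZero (((tR ((ModuleCat.restrictScalars.{u} (algebraMap A (B b))).obj N)).obj P).homology i))
    (M : ModuleCat.{u} A) : IsZero (((tR M).obj P).homology i) := by
  let J := RingHom.ker (algebraMap A (B false))
  let I := RingHom.ker (algebraMap A (B true))
  have key : ∀ (b : Bool) (M : ModuleCat.{u} A), (∀ a ∈ RingHom.ker (algebraMap A (B b)), ∀ x : M, a • x = 0) →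
      IsZero (((tR M).obj P).homology i) := fun b M hM => by
    obtain ⟨N, ⟨eN⟩⟩ := exists_top_quotient (hsurj b) M
    have hz : RingHom.ker (algebraMap A (B b)) • (⊤ : Submodule A M) = ⊥ := by
      rw [eq_bot_iff, Submodule.smul_le]
      intro a ha x _
      exact (Submodule.mem_bot A).2 (hM a ha x)
    exact (h b N).of_iso ((HomologicalComplex.homologyFunctor _ _ i).mapIso
      ((NatIso.mapHomologicalComplex ((tensoringRight (ModuleCat.{u} A)).mapIso
        (eN ≪≫ (Submodule.quotEquivOfEqBot _ hz).toModuleIso)) _).app P)).symm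
  let S : ShortComplex (ModuleCat.{u} A) := ShortComplex.mk
    (ModuleCat.ofHom (J • (⊤ : Submodule A M)).subtype) (ModuleCat.ofHom (J • (⊤ : Submodule A M)).mkQ)
    (by ext ⟨x, hx⟩; exact (Submodule.Quotient.mk_eq_zero _).2 hx)
  have hS : S.ShortExact :=
    { exact := (ShortComplex.moduleCat_exact_iff_range_eq_ker _).2 (by simp [S])
      mono_f := (ModuleCat.mono_iff_injective _).2 (J • (⊤ : Submodule A M)).injective_subtype
      epi_g := (ModuleCat.epi_iff_surjective _).2 (Submodule.mkQ_surjective _) }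
  refine isZero_tR_ext hP hS i (key true _ fun a ha x => Subtype.ext ?_) (key false _ fun a ha x => ?_)
  · change a • x.1 = (0 : M)
    refine Submodule.smul_induction_on (p := fun y => a • y = (0 : M)) x.2 (fun r hr y _ => ?_)
      (fun y z hy hz => ?_)
    · have : a * r ∈ (⊥ : Ideal A) := hprod.le (Ideal.mul_mem_mul ha hr)
      rw [smul_smul, Submodule.mem_bot _ |>.1 this, zero_smul]
    · rw [smul_add, hy, hz, add_zero]
  · obtain ⟨x, rfl⟩ := Submodule.Quotient.mk_surjective _ x
    exact (Submodule.Quotient.mk_eq_zero _).2 (Submodule.smul_mem_smul ha Submodule.mem_top)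

lemma finite_top_bc' {P : DRing.Cx A} (hB : Detects (A := A) B) (n : ℤ) (hb : DRing.VanishesAbove P n)
    (h : ∀ b, Module.Finite (B b) (((bc (algebraMap A (B b))).obj P).homology n)) :
    Module.Finite A (P.homology n) := by
  have hd : P.d n (n + 1) = 0 := (hb (n + 1) (by lia)).eq_of_tgt _ _
  let e₁ := P.isoHomologyι n (n + 1) (by simp) hd
  haveI := finite_of_detects B hB (P.opcycles n) fun b => by
    let T := ModuleCat.extendScalars.{u, u, u} (algebraMap A (B b))
    have hd' : ((bc (algebraMap A (B b))).obj P).d n (n + 1) = 0 :=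
      (T.map_isZero (hb (n + 1) (by lia))).eq_of_tgt _ _
    let e₂ := ((bc (algebraMap A (B b))).obj P).isoHomologyι n (n + 1) (by simp) hd'
    let e₃ : ((bc (algebraMap A (B b))).obj P).opcycles n ≅ T.obj (P.opcycles n) :=
      (((bc (algebraMap A (B b))).obj P).opcyclesIsCokernel (n - 1) n (by simp)).coconePointUniqueUpToIso
        ((CokernelCofork.ofπ (P.pOpcycles n) (P.d_pOpcycles (n - 1) n)).mapIsColimit
          (P.opcyclesIsCokernel (n - 1) n (by simp)) T)
    haveI := h b
    exact Module.Finite.equiv (e₂ ≪≫ e₃ ≪≫ extendTensorIso (P.opcycles n)).toLinearEquiv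
  exact Module.Finite.equiv e₁.symm.toLinearEquiv

lemma pc_of_bc_two (hB : Detects (A := A) B) (m : ℤ) {P : DRing.Cx A} {c : ℤ}
    (hc : DRing.VanishesAbove P c) (hP : ∀ i, Projective (P.X i))
    (h : ∀ b, DRing.IsPseudoCoherent (B b) m (DRing.toD ((bc (algebraMap A (B b))).obj P))) :
    DRing.IsPseudoCoherent A m (DRing.toD P) := by
  suffices H : ∀ (d : ℕ) (P : DRing.Cx A) (c : ℤ), DRing.VanishesAbove P c → (∀ i, Projective (P.X i)) →
      IsAbove (m + d) (DRing.toD P) →
      (∀ b, DRing.IsPseudoCoherent (B b) m (DRing.toD ((bc (algebraMap A (B b))).obj P))) →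
      DRing.IsPseudoCoherent A m (DRing.toD P) by
    refine H (c + 1 - m).toNat P c hc hP (fun i hi => ?_) h
    exact (ShortComplex.isZero_homology_of_isZero_X₂ _ (hc i (by lia))).of_iso
      ((homologyFunctorFactors (ModuleCat.{u} A) i).app P)
  intro d
  induction d with
  | zero => exact fun P c _ _ hab _ => pc_of_isAbove (by simpa using hab)
  | succ d ih =>
    intro P₀ c₀ hc₀ hP₀ hab hK
    haveI := isKProjective_of_vanishesAbove hc₀ hP₀
    obtain ⟨P, hPb, hP, ⟨eP⟩⟩ :=
      exists_proj_rep_top (DRing.toD P₀) (m + d) (isAbove_mono (by push_cast; lia) hab)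
    haveI := isKProjective_of_vanishesAbove hPb hP
    obtain ⟨g, hg⟩ := PerfLocal.exists_lift eP.hom
    haveI : IsIso (DerivedCategory.Q.map g) := by rw [hg]; infer_instance
    haveI : QuasiIso g := (DerivedCategory.isIso_Q_map_iff_quasiIso _ g).1 inferInstance
    have hK' : ∀ b, DRing.IsPseudoCoherent (B b) m (DRing.toD ((bc (algebraMap A (B b))).obj P)) := fun b => by
      haveI := quasiIso_bc (algebraMap A (B b)) g hPb hc₀ (flat_of_projective hP) (flat_of_projective hP₀)
      exact pc_of_iso (asIso (DerivedCategory.Q.map ((bc (algebraMap A (B b))).map g))).symm (hK b)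
    have hfin : Module.Finite A (P.homology (m + d)) := by
      refine finite_top_bc' B hB (m + d) hPb fun b => ?_
      haveI : Module.Finite (B b) ((DerivedCategory.Q ⋙
          DerivedCategory.homologyFunctor (ModuleCat.{u} (B b)) (m + d)).obj
            ((bc (algebraMap A (B b))).obj P)) :=
        finite_top (pc_mono (show m ≤ m + d by lia) (hK' b)) fun j hj =>
          (ShortComplex.isZero_homology_of_isZero_X₂ _
            ((ModuleCat.extendScalars.{u, u, u} (algebraMap A (B b))).map_isZero (hPb j (by lia)))).of_iso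
            ((homologyFunctorFactors (ModuleCat.{u} (B b)) j).app _)
      exact Module.Finite.equiv
        ((homologyFunctorFactors (ModuleCat.{u} (B b)) (m + d)).app ((bc (algebraMap A (B b))).obj P)).toLinearEquiv
    obtain ⟨F, f, hF, hFf, hC⟩ := exists_top_cover P (m + d)
      (fun j hj => ShortComplex.isZero_homology_of_isZero_X₂ _ (hPb j hj)) hfin
    have hFpc : ∀ j, DRing.IsPseudoCoherent A j (DRing.toD F) := fun j =>
      pc_iff.2 ⟨F, _, _, 𝟙 _, hF, hFf, mIso_of_isIso j _⟩
    have hFp : ∀ j, Projective (F.X j) := projective_X (termwiseFiniteProjective_of_free hFf)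
    have hCpc : DRing.IsPseudoCoherent A m (DRing.toD (CochainComplex.mappingCone f)) := by
      refine ih _ (m + d) (fun j hj => IsZero.of_iso
        (biprod_isZero_iff _ _ |>.2 ⟨hF (j + 1) (by lia), hPb j hj⟩)
          (HomologicalComplex.homotopyCofiber.XIsoBiprod f j (j + 1) rfl)) (fun j => by
          haveI := hFp (j + 1); haveI := hP j
          exact Projective.of_iso (HomologicalComplex.homotopyCofiber.XIsoBiprod f j (j + 1) rfl).symm
            inferInstance) hC fun b => ?_
      exact pc_of_iso (DerivedCategory.Q.mapIso (CochainComplex.mappingCone.mapHomologicalComplexIso f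
          (ModuleCat.extendScalars.{u, u, u} (algebraMap A (B b))))).symm
        (pc_obj₃ _ (DerivedCategory.mappingCone_triangle_distinguished ((bc (algebraMap A (B b))).map f)) m
          (pc_bc (algebraMap A (B b)) (fun j hj => hF j (Or.inr hj)) hFp (m + 1) (hFpc _)) (hK' b))
    exact pc_of_iso eP (pc_obj₂ _ (DerivedCategory.mappingCone_triangle_distinguished f) m (hFpc m) hCpc)

variable (P' : DRing.Cx A) (hP' : IsKFlat P') (hPt : DRing.TermwiseFlat P')
  (hperf : ∀ b, DRing.IsPerfect (B b) (DRing.toD ((bc (algebraMap A (B b))).obj P')))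

include hsurj hprod hP' hPt hperf in
theorem isPerfect_two : DRing.IsPerfect A (DRing.toD P') := by
  choose a c hac using fun b => finiteTor_of_isPerfect (hperf b)
  obtain ⟨a₀, ha⟩ := Finite.bddBelow_range a
  obtain ⟨c₀, hc⟩ := Finite.bddAbove_range c
  have hamp : ∀ b, DRing.HasTorAmplitudeIn (B b) a₀ c₀ (DRing.toD ((bc (algebraMap A (B b))).obj P')) :=
    fun b => amp_widen (ha ⟨b, rfl⟩) (hc ⟨b, rfl⟩) (hac b)
  have hvan : ∀ (M : ModuleCat.{u} A) (i : ℤ), i < a₀ ∨ c₀ < i → IsZero (((tR M).obj P').homology i) := by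
    intro M i hi
    refine isZero_tR_two B hsurj hprod hPt i (fun b N => ?_) M
    obtain ⟨Q, hQb, hQ, ⟨eQ⟩⟩ := exists_proj_rep_top _ c₀ (torVan_isAbove (hamp b))
    haveI := isKProjective_of_vanishesAbove hQb hQ
    exact isZero_tR_res hP' (isKFlat_of_bounded hQb (flat_of_projective hQ)) eQ N i
      (torVan_rep (torVan_of_amp (hamp b)) hQb (flat_of_projective hQ) eQ N i hi)
  have habove : IsAbove (c₀ + 1) (DRing.toD P') := fun i hi =>
    ((isZero_tR_unit P' i).1 (hvan _ i (Or.inr (by lia)))).of_iso
      ((homologyFunctorFactors (ModuleCat.{u} A) i).app P')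
  obtain ⟨Q, hQb, hQ, ⟨eQ⟩⟩ := exists_proj_rep_top _ c₀ habove
  haveI := isKProjective_of_vanishesAbove hQb hQ
  have hQf := isKFlat_of_bounded hQb (flat_of_projective hQ)
  have hampA : DRing.HasTorAmplitudeIn A a₀ c₀ (DRing.toD P') := amp_iff_torVan.2
    ⟨Q, c₀, hQb, flat_of_projective hQ, ⟨eQ⟩, fun M i hi => (isZero_tR_congr hP' hQf eQ M i).1 (hvan M i hi)⟩
  refine (isPerfect_iff _).2 ⟨pc'_of_forall fun m => pc_of_iso eQ
    (pc_of_bc_two B (detects_two B hsurj hprod) m hQb hQ fun b => ?_), a₀, c₀, hampA⟩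
  obtain ⟨g, hg⟩ := PerfLocal.exists_lift eQ.hom
  haveI : IsIso (DerivedCategory.Q.map g) := by rw [hg]; infer_instance
  haveI : QuasiIso g := (DerivedCategory.isIso_Q_map_iff_quasiIso _ g).1 inferInstance
  let φ := algebraMap A (B b)
  let B₀ := (ModuleCat.restrictScalars.{u} φ).obj (ModuleCat.of (B b) (B b))
  let S₀ := (HomologicalComplex.single (ModuleCat.{u} A) (ComplexShape.up ℤ) 0).obj B₀
  have hq : QuasiIso ((bc φ).map g) := by
    refine KFlat.quasiIso_of_acyclic_mappingCone _ (KFlat.acyclic_of_iso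
      (CochainComplex.mappingCone.mapHomologicalComplexIso g (ModuleCat.extendScalars.{u, u, u} φ)) fun i => ?_)
    have hrest := KFlat.rflat_mappingCone g ((rflat_iff Q).2 hQf) ((rflat_iff P').2 hP')
    have h1 : ((tR B₀).obj (CochainComplex.mappingCone g)).Acyclic :=
      KFlat.acyclic_of_iso (tensSingleIso (CochainComplex.mappingCone g) B₀)
        (KFlat.acyclic_of_iso (KFlat.swapIso (tBraid A) S₀ (CochainComplex.mappingCone g))
          (KFlat.acyclic_tens_of_acyclic_rflat (tBraid A)
            (fun F => let ⟨K, q, h1, _, h3, _⟩ := exists_kFlat_resolution F; ⟨K, q, (rflat_iff K).2 h1, h3⟩)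
            hrest (KFlat.mappingCone_acyclic g) S₀))
    have h := KFlat.acyclic_of_iso (bcRestrictIso φ (CochainComplex.mappingCone g)).symm h1 i
    rw [HomologicalComplex.exactAt_iff] at h ⊢
    exact (ShortComplex.exact_map_iff_of_faithful _ (ModuleCat.restrictScalars.{u} φ)).1 h
  haveI := hq
  exact pc_of_iso (asIso (DerivedCategory.Q.map ((bc φ).map g))).symm (pc_of_pc' (pc'_of_isPerfect (hperf b)) m)

end Two

end Groth.Agent.DRingKP
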