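import Groth.Agent.DRingKP.Modules
import Groth.Agent.DRingKP.TorMore
import Groth.Agent.DRingKP.Nilp
import Groth.Agent.DRingKP.DCPi
import Mathlib.Algebra.Homology.SingleHomology

/-!
Projective amplitude.
-/

set_option autoImplicit false
set_option linter.style.haveILetI false
universe u

namespace Groth.Agent.DRingKP

open CategoryTheory Limits DerivedCategory HomologicalComplex

attribute [local instance] HasDerivedCategory.standard

variable {A : Type u} [CommRing A]

/-- maps to a module placed in degree `n` -/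
noncomputable def homShiftEquiv {C : DRing.Cx A} {K : Dual.D A} (e : DRing.toD C ≅ K) (N : ModuleCat.{u} A) (n : ℤ) :
    (DerivedCategory.Q.obj C ⟶ DerivedCategory.Q.obj ((HomologicalComplex.single _ (ComplexShape.up ℤ) n).obj N)) ≃
      (K ⟶ ((DerivedCategory.singleFunctor (ModuleCat.{u} A) 0).obj N)⟦-n⟧) :=
  Iso.homCongr e (((DerivedCategory.singleFunctorIsoCompQ (ModuleCat.{u} A) n).app N).symm ≪≫ (singleShiftIso N n).symm)

/-- no maps into the shifted cocycle quotient forces vanishing -/
lemma zero_homology_of_ext {C : DRing.Cx A} {K : Dual.D A} (e : DRing.toD C ≅ K) (n : ℤ)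
    (h : Subsingleton (K ⟶ ((DerivedCategory.singleFunctor (ModuleCat.{u} A) 0).obj (C.opcycles n))⟦-n⟧)) :
    Subsingleton (Dual.HD A K n) := by
  let g : C ⟶ (HomologicalComplex.single (ModuleCat.{u} A) (ComplexShape.up ℤ) n).obj (C.opcycles n) :=
    HomologicalComplex.mkHomToSingle (C.pOpcycles n) (fun j _ => by simp)
  have hg0 : DerivedCategory.Q.map g = 0 := (homShiftEquiv e (C.opcycles n) n).injective (@Subsingleton.elim _ h _ _)
  have hom : HomologicalComplex.homologyMap g n = 0 := by
    have h1 := NatIso.naturality_1 (DerivedCategory.homologyFunctorFactors (ModuleCat.{u} A) n) g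
    simp only [Functor.comp_map, hg0, Functor.map_zero, zero_comp, comp_zero] at h1
    exact h1.symm
  have hι : C.homologyι n = 0 := by
    have h2 : HomologicalComplex.homologyMap g n ≫ (singleObjHomologySelfIso _ n (C.opcycles n)).hom = C.homologyι n := by
      rw [← homologyι_singleObjOpcyclesSelfIso_inv, HomologicalComplex.homologyι_naturality_assoc]
      conv_rhs => rw [← Category.comp_id (C.homologyι n)]
      congr 1
      rw [← cancel_epi (C.pOpcycles n), HomologicalComplex.p_opcyclesMap_assoc, pOpcycles_singleObjOpcyclesSelfIso_inv]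
      simp [g]
    rw [← h2, hom, zero_comp]
  have hz : IsZero (C.homology n) := by
    rw [IsZero.iff_id_eq_zero, ← cancel_mono (C.homologyι n), hι, comp_zero, comp_zero]
  exact ModuleCat.subsingleton_of_isZero (hz.of_iso
    (((DerivedCategory.homologyFunctor (ModuleCat.{u} A) n).mapIso e.symm) ≪≫
      (DerivedCategory.homologyFunctorFactors (ModuleCat.{u} A) n).app C))

theorem projAmp_of_vanishing (K : Dual.D A) (a b : ℤ)
    (hH : ∀ n : ℤ, (n < a - 1 ∨ b < n) → Subsingleton (Dual.HD A K n))
    (hE : ∀ (N : ModuleCat.{u} A), Subsingleton (K ⟶ ((DerivedCategory.singleFunctor (ModuleCat.{u} A) 0).obj N)⟦-(a - 1)⟧)) :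
    ∃ P : DRing.Cx A, DRing.VanishesOutside P a b ∧ (∀ i : ℤ, Module.Projective A (P.X i)) ∧
      Nonempty (DRing.toD P ≅ K) := by
  have habove : IsAbove (b + 1) K := fun i hi => by
    haveI : Subsingleton ((DerivedCategory.homologyFunctor (ModuleCat.{u} A) i).obj K) := hH i (Or.inr (by lia))
    exact ModuleCat.isZero_of_subsingleton _
  obtain ⟨P, hPb, hP, ⟨eP⟩⟩ := exists_proj_rep_top K b habove
  haveI := isKProjective_of_vanishesAbove hPb hP
  haveI : P.IsGE a := (CochainComplex.isGE_iff P a).2 fun i hi => by
    have hs : Subsingleton (Dual.HD A K i) := by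
      rcases (show i < a - 1 ∨ i = a - 1 by lia) with h | rfl
      · exact hH i (Or.inl h)
      · exact zero_homology_of_ext eP (a - 1) (hE _)
    haveI : Subsingleton ((DerivedCategory.homologyFunctor (ModuleCat.{u} A) i).obj K) := hs
    exact (HomologicalComplex.exactAt_iff_isZero_homology _ _).2
      ((ModuleCat.isZero_of_subsingleton ((DerivedCategory.homologyFunctor (ModuleCat.{u} A) i).obj K)).of_iso
        (((DerivedCategory.homologyFunctorFactors (ModuleCat.{u} A) i).app P).symm ≪≫
          (DerivedCategory.homologyFunctor (ModuleCat.{u} A) i).mapIso eP))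
  haveI : QuasiIso (P.πTruncGE a) := (CochainComplex.quasiIso_πTruncGE_iff P a).2 inferInstance
  -- the cokernel in degree `a` is projective
  have hM : Projective (P.opcycles a) := by
    let N := P.opcycles (a - 1)
    let g : P ⟶ (HomologicalComplex.single (ModuleCat.{u} A) (ComplexShape.up ℤ) (a - 1)).obj N :=
      HomologicalComplex.mkHomToSingle (P.pOpcycles (a - 1)) (fun j _ => by simp)
    have hg0 : DerivedCategory.Q.map g = 0 := (homShiftEquiv eP N (a - 1)).injective (@Subsingleton.elim _ (hE N) _ _)
    obtain ⟨ho⟩ := exists_homotopy g hg0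
    let r : P.X a ⟶ N := ho.hom a (a - 1) ≫ (singleObjXSelf (ComplexShape.up ℤ) (a - 1) N).hom
    have hr : P.d (a - 1) a ≫ r = P.pOpcycles (a - 1) := by
      have := congrArg (· ≫ (singleObjXSelf (ComplexShape.up ℤ) (a - 1) N).hom) (ho.comm (a - 1))
      simp only [g, mkHomToSingle_f, Category.assoc, Iso.inv_hom_id, Category.comp_id] at this
      rw [this, dNext_eq _ (show (ComplexShape.up ℤ).Rel (a - 1) a by simp),
        prevD_eq _ (show (ComplexShape.up ℤ).Rel (a - 1 - 1) (a - 1) by simp),
        (isZero_single_obj_X (ComplexShape.up ℤ) (a - 1) N (a - 1 - 1) (by lia)).eq_of_tgt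
          (ho.hom (a - 1) (a - 1 - 1)) 0]
      simp [r]
    let j : N ⟶ P.X a := P.fromOpcycles (a - 1) a
    have hjr : j ≫ r = 𝟙 N := by
      rw [← cancel_epi (P.pOpcycles (a - 1)), P.p_fromOpcycles_assoc, hr, Category.comp_id]
    have hd : P.d (a - 1) a ≫ (𝟙 _ - r ≫ j) = 0 := by
      rw [Preadditive.comp_sub, Category.comp_id, reassoc_of% hr, P.p_fromOpcycles, sub_self]
    let s : P.opcycles a ⟶ P.X a := P.descOpcycles (𝟙 _ - r ≫ j) (a - 1) (by simp) hd
    have hjp : j ≫ P.pOpcycles a = 0 := by
      rw [← cancel_epi (P.pOpcycles (a - 1)), P.p_fromOpcycles_assoc, P.d_pOpcycles, comp_zero]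
    haveI := hP a
    exact ({ i := s, r := P.pOpcycles a, retract := by
              rw [← cancel_epi (P.pOpcycles a)]
              simp [s, Preadditive.sub_comp, hjp] } : Retract (P.opcycles a) (P.X a)).projective
  refine ⟨P.truncGE a, fun i hi => ?_, fun i => ?_, ⟨(asIso (DerivedCategory.Q.map (P.πTruncGE a))).symm ≪≫ eP⟩⟩
  · rcases hi with hi | hi
    · exact (CochainComplex.isStrictlyGE_iff (P.truncGE a) a).1 inferInstance i hi
    · haveI : P.IsStrictlyLE b := (CochainComplex.isStrictlyLE_iff P b).2 hPb
      exact (CochainComplex.isStrictlyLE_iff (P.truncGE a) b).1 inferInstance i hi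
  · rcases lt_trichotomy i a with hi | rfl | hi
    · haveI := ModuleCat.subsingleton_of_isZero ((CochainComplex.isStrictlyGE_iff (P.truncGE a) a).1 inferInstance i hi)
      infer_instance
    · exact (IsProjective.iff_projective _).2 (Projective.of_iso (P.truncGEXIsoOpcycles i).symm hM)
    · haveI := hP i
      exact (IsProjective.iff_projective _).2 (Projective.of_iso (P.truncGEXIso a i hi).symm inferInstance)

end Groth.Agent.DRingKP
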