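import Groth.Agent.DRingKP.Finite
import Mathlib.Algebra.Homology.HomotopyCategory.Pretriangulated
import Mathlib.CategoryTheory.Limits.Constructions.EventuallyConstant

/-!
Bounded above finite free resolutions of objects pseudo-coherent in every degree.
-/

set_option autoImplicit false
set_option linter.style.haveILetI false
universe u

namespace Groth.Agent.DRingKP

open CategoryTheory Limits DerivedCategory CochainComplex CochainComplex.HomComplex ZeroObject

attribute [local instance] HasDerivedCategory.standard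

variable {A : Type u} [CommRing A]

local notation "HH" => DerivedCategory.homologyFunctor (ModuleCat _)

/-- maps isomorphic in three degrees are isomorphisms on homology -/
lemma isIso_homologyMap_of_isIso_f {K L : DRing.Cx A} (φ : K ⟶ L) (i : ℤ)
    (h : ∀ j, i - 1 ≤ j → j ≤ i + 1 → IsIso (φ.f j)) : IsIso (HomologicalComplex.homologyMap φ i) := by
  let ψ := (HomologicalComplex.shortComplexFunctor (ModuleCat.{u} A) (ComplexShape.up ℤ) i).map φ
  haveI : IsIso ψ.τ₁ := h _ (by simp) (by simp; lia)
  haveI : IsIso ψ.τ₂ := h i (by lia) (by lia)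
  haveI : IsIso ψ.τ₃ := h _ (by simp; lia) (by simp)
  haveI : IsIso ψ := ShortComplex.isIso_of_isIso ψ
  exact inferInstanceAs (IsIso ((ShortComplex.homologyFunctor _).map ψ))

/-- a partial resolution of `G` down to degree `n` -/
structure Approx (G : DRing.Cx A) (b n : ℤ) where
  /-- the complex -/
  E : DRing.Cx A
  /-- its map to `G` -/
  q : E ⟶ G
  vanish : DRing.VanishesOutside E n b
  free : DRing.TermwiseFiniteFree E
  miso : MIso n (DerivedCategory.Q.map q)

lemma isAbove_cone {m : ℤ} {K L : DRing.Cx A} (f : K ⟶ L) :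
    MIso m (DerivedCategory.Q.map f) ↔ ∀ i, m ≤ i → IsZero ((mappingCone f).homology i) :=
  (mIso_iff m _ (DerivedCategory.mappingCone_triangle_distinguished f)).trans
    (forall₂_congr fun i _ => ((homologyFunctorFactors (ModuleCat.{u} A) i).app _).isZero_iff)

variable {G : DRing.Cx A} {b : ℤ}

theorem exists_next (hG : ∀ m, DRing.IsPseudoCoherent A m (DRing.toD G)) (n : ℤ) (hn : n ≤ b + 1)
    (s : Approx G b n) : ∃ (s' : Approx G b (n - 1)) (φ : s.E ⟶ s'.E), φ ≫ s'.q = s.q ∧
      ∀ i, i ≠ n - 1 → IsIso (φ.f i) := by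
  let C := mappingCone s.q
  have hE : ∀ m, DRing.IsPseudoCoherent A m (DRing.toD s.E) := fun m => pc_iff.2
    ⟨s.E, n, b, 𝟙 _, s.vanish, s.free, mIso_of_isIso m _⟩
  have hC : DRing.IsPseudoCoherent A (n - 1) (DRing.toD C) :=
    pc_obj₃ _ (DerivedCategory.mappingCone_triangle_distinguished s.q) (n - 1) (hE _) (hG _)
  have habove : ∀ i, n ≤ i → IsZero (C.homology i) := (isAbove_cone s.q).1 s.miso
  have hfin : Module.Finite A ((HH (n - 1)).obj (DRing.toD C)) := finite_top hC fun i hi =>
    (habove i (by lia)).of_iso ((homologyFunctorFactors _ i).app C)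
  haveI : Module.Finite A
      ((DerivedCategory.Q ⋙ DerivedCategory.homologyFunctor (ModuleCat.{u} A) (n - 1)).obj C) := hfin
  haveI : Module.Finite A (C.homology (n - 1)) :=
    Module.Finite.equiv ((homologyFunctorFactors (ModuleCat.{u} A) (n - 1)).app C).toLinearEquiv
  obtain ⟨r, p, hp⟩ := Module.Finite.exists_fin' A (C.homology (n - 1))
  let F : ModuleCat.{u} A := ModuleCat.of A (Fin r → A)
  haveI : CategoryTheory.Projective F :=
    (IsProjective.iff_projective (ModuleCat.of A (Fin r → A))).1 inferInstance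
  let ε₀ : F ⟶ C.cycles (n - 1) := Projective.factorThru (ModuleCat.ofHom p) (C.homologyπ (n - 1))
  have hε₀ : ε₀ ≫ C.homologyπ (n - 1) = ModuleCat.ofHom p := Projective.factorThru_comp _ _
  let ε : F ⟶ C.X (n - 1) := ε₀ ≫ C.iCycles (n - 1)
  have hε : ε ≫ C.d (n - 1) n = 0 := by simp [ε]
  let P : DRing.Cx A := (HomologicalComplex.single _ (ComplexShape.up ℤ) n).obj F
  have hP : ∀ i, i ≠ n → IsZero (P.X i) := fun i hi => HomologicalComplex.isZero_single_obj_X _ n F i hi
  let e : P.X n ≅ F := HomologicalComplex.singleObjXSelf (ComplexShape.up ℤ) n F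
  let f : P ⟶ s.E := HomologicalComplex.mkHomFromSingle
    (ε ≫ (mappingCone.fst s.q).1.v (n - 1) n (by lia)) (fun k hk => by
      obtain rfl : n + 1 = k := hk
      have h := hε =≫ (mappingCone.fst s.q).1.v n (n + 1) rfl
      rw [Category.assoc, zero_comp, mappingCone.d_fst_v _ (n - 1) n (n + 1) (by lia) rfl] at h
      simpa using h)
  let α : Cochain P G (-1) := Cochain.mk fun x y h =>
    if hx : x = n then
      -(eqToHom (by rw [hx]) ≫ e.hom ≫ ε ≫ (mappingCone.snd s.q).v (n - 1) (n - 1) (add_zero _) ≫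
        eqToHom (congrArg G.X (by lia)))
    else 0
  have hαv : α.v n (n - 1) (by lia) =
      -(e.hom ≫ ε ≫ (mappingCone.snd s.q).v (n - 1) (n - 1) (add_zero _)) := by simp [α]
  have hα : δ (-1) 0 α = Cochain.ofHom (f ≫ s.q) := by
    ext x
    by_cases hx : x = n
    · subst hx
      have h := hε =≫ (mappingCone.snd s.q).v x x (add_zero x)
      rw [Category.assoc, zero_comp, mappingCone.d_snd_v _ (x - 1) x (by lia), Preadditive.comp_add,
        add_eq_zero_iff_eq_neg] at h
      rw [δ_v (-1) 0 (neg_add_cancel 1) α x x (add_zero x) (x - 1) (x + 1) rfl rfl, hαv]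
      have h0 : α.v (x + 1) x (by lia) = 0 := (hP (x + 1) (by lia)).eq_of_src _ _
      rw [h0, comp_zero, smul_zero, add_zero, Cochain.ofHom_v, HomologicalComplex.comp_f,
        HomologicalComplex.mkHomFromSingle_f]
      simp only [e, Category.assoc]
      rw [h]
      simp
    · exact LinearMap.congr_fun (congrArg ModuleCat.Hom.hom ((hP x hx).eq_of_src _ _)) _
  let E' := mappingCone f
  let q' : E' ⟶ G := mappingCone.desc f α s.q hα
  have hinr : ∀ i, i ≠ n - 1 → IsIso ((mappingCone.inr f).f i) := fun i hi => by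
    haveI : Epi ((mappingCone.inr f).f i) := ⟨fun g g' hgg => by
      rw [mappingCone.ext_from_iff _ (i + 1) i rfl]
      exact ⟨(hP (i + 1) (by lia)).eq_of_src _ _, hgg⟩⟩
    haveI : Mono ((mappingCone.inr f).f i) := ⟨fun g g' hgg => by
      simpa using hgg =≫ (mappingCone.snd f).v i i (add_zero i)⟩
    exact isIso_of_mono_of_epi _
  let φ : s.E ⟶ E' := mappingCone.inr f
  have hφ : φ ≫ q' = s.q := by ext i; simp [φ, q']
  have hfree : DRing.TermwiseFiniteFree E' := fun i => by
    have h₁ : Module.Finite A (P.X (i + 1)) ∧ Module.Free A (P.X (i + 1)) := by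
      by_cases hi : i + 1 = n
      · subst hi
        exact ⟨Module.Finite.equiv e.toLinearEquiv.symm, Module.Free.of_equiv e.toLinearEquiv.symm⟩
      · exact finiteFree_of_isZero (hP (i + 1) hi)
    obtain ⟨h, h'⟩ := finiteFree_biprod h₁ (s.free i)
    let eq := (HomologicalComplex.homotopyCofiber.XIsoBiprod f i (i + 1) rfl).symm.toLinearEquiv
    exact ⟨Module.Finite.equiv eq, Module.Free.of_equiv eq⟩
  have hvan : DRing.VanishesOutside E' (n - 1) b := fun i hi =>
    IsZero.of_iso (biprod_isZero_iff _ _ |>.2 ⟨hP (i + 1) (by lia), s.vanish i (by lia)⟩)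
      (HomologicalComplex.homotopyCofiber.XIsoBiprod f i (i + 1) rfl)
  let j : C ⟶ mappingCone q' := mappingCone.map s.q q' φ (𝟙 G) (by rw [Category.comp_id, hφ])
  have hj : ∀ i, n - 1 ≤ i → IsIso (j.f i) := fun i hi => by
    haveI : IsIso (φ.f (i + 1)) := hinr (i + 1) (by lia)
    refine ⟨(mappingCone.fst q').1.v i (i + 1) rfl ≫ inv (φ.f (i + 1)) ≫
        (mappingCone.inl s.q).v (i + 1) i (by lia) +
      (mappingCone.snd q').v i i (add_zero i) ≫ (mappingCone.inr s.q).f i, ?_, ?_⟩
    · rw [mappingCone.ext_from_iff _ (i + 1) i rfl]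
      constructor <;> simp [j, C, mappingCone.map, mappingCone.desc_f _ _ _ _ i (i + 1) rfl]
    · rw [mappingCone.ext_from_iff _ (i + 1) i rfl]
      constructor <;> simp [j, C, mappingCone.map, mappingCone.desc_f _ _ _ _ i (i + 1) rfl]
  have hepi : ∀ i, n - 1 ≤ i → Epi (HomologicalComplex.homologyMap j i) := fun i hi => by
    let ψ := (HomologicalComplex.shortComplexFunctor (ModuleCat.{u} A) (ComplexShape.up ℤ) i).map j
    haveI h₂ : IsIso ψ.τ₂ := hj i hi
    haveI : IsIso ψ.τ₃ := hj _ (by simp; lia)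
    haveI := ShortComplex.isIso_cyclesMap_of_isIso_of_mono' ψ h₂ inferInstance
    exact ShortComplex.epi_homologyMap_of_epi_cyclesMap ψ
  have hnull : HomologicalComplex.homologyMap j (n - 1) = 0 := by
    haveI : Epi (ModuleCat.ofHom p) := (ModuleCat.epi_iff_surjective _).2 hp
    rw [← cancel_epi (ModuleCat.ofHom p), comp_zero, ← hε₀, Category.assoc,
      HomologicalComplex.homologyπ_naturality, ← Category.assoc]
    let x : F ⟶ (mappingCone q').X (n - 2) :=
      -(e.inv ≫ (mappingCone.inl f).v n (n - 1) (by lia) ≫ (mappingCone.inl q').v (n - 1) (n - 2) (by lia))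
    have hx : ε ≫ j.f (n - 1) = x ≫ (mappingCone q').d (n - 2) (n - 1) := by
      simp only [x, Preadditive.neg_comp, Category.assoc]
      rw [mappingCone.inl_v_d q' (n - 1) (n - 2) n (by lia) (by lia), Preadditive.comp_sub,
        ← Category.assoc ((mappingCone.inl f).v n (n - 1) _) (E'.d (n - 1) n),
        mappingCone.inl_v_d f n (n - 1) (n + 1) (by lia) (by lia), (hP (n + 1) (by lia)).eq_of_tgt
          (P.d n (n + 1)) 0]
      simp only [zero_comp, sub_zero, Category.assoc, Preadditive.comp_sub]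
      rw [mappingCone.ext_to_iff q' (n - 1) n (by lia)]
      constructor
      · simp [j, mappingCone.map, mappingCone.desc_f _ _ _ _ (n - 1) n (by lia), q', e, f, φ,
          HomologicalComplex.mkHomFromSingle_f]
      · simp [j, mappingCone.map, mappingCone.desc_f _ _ _ _ (n - 1) n (by lia), q', e, f, φ, hαv]
    have hlift : ε₀ ≫ HomologicalComplex.cyclesMap j (n - 1) = (mappingCone q').liftCycles
        (x ≫ (mappingCone q').d (n - 2) (n - 1)) n (by simp) (by simp) := by
      rw [← cancel_mono ((mappingCone q').iCycles (n - 1))]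
      simp [← hx, ε]
    rw [hlift]
    exact (mappingCone q').liftCycles_homologyπ_eq_zero_of_boundary _ n (by simp) x rfl
  refine ⟨⟨E', q', hvan, hfree, (isAbove_cone q').2 fun i hi => ?_⟩, φ, hφ, hinr⟩
  haveI := hepi i hi
  refine IsZero.of_epi_eq_zero (HomologicalComplex.homologyMap j i) ?_
  obtain rfl | hi := eq_or_lt_of_le hi
  · exact hnull
  · exact (habove i (by lia)).eq_of_src _ _

/-- objects pseudo-coherent in every degree have a bounded above finite free representative -/
theorem pc'_of_forall {K : Dual.D A} (hK : ∀ m, DRing.IsPseudoCoherent A m K) :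
    DRing.IsPseudoCoherent' A K := by
  let G : DRing.Cx A := DerivedCategory.Q.objPreimage K
  let eG : DRing.toD G ≅ K := DerivedCategory.Q.objObjPreimageIso K
  have hG : ∀ m, DRing.IsPseudoCoherent A m (DRing.toD G) := fun m => pc_of_iso eG.symm (hK m)
  obtain ⟨c, hc⟩ := pc_bounded (hG 0)
  let b := c - 1
  have s₀ : Nonempty (Approx G b (b + 1 - ((0 : ℕ) : ℤ))) := by
    refine ⟨⟨0, 0, fun i _ => (HomologicalComplex.eval _ _ i).map_isZero (isZero_zero _),
      fun i => finiteFree_of_isZero ((HomologicalComplex.eval _ _ i).map_isZero (isZero_zero _)),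
      fun i hi => ?_, ?_⟩⟩
    · exact ⟨0, (isZero_of_isZero i (DerivedCategory.Q.map_isZero (isZero_zero _))).eq_of_src _ _,
        (hc i (by lia)).eq_of_src _ _⟩
    · exact ⟨fun _ _ _ => (hc _ (by lia)).eq_of_src _ _⟩
  have step : ∀ (k : ℕ) (s : Approx G b (b + 1 - k)), ∃ (s' : Approx G b (b + 1 - (k + 1 : ℕ)))
      (φ : s.E ⟶ s'.E), φ ≫ s'.q = s.q ∧ ∀ i, i ≠ b - k → IsIso (φ.f i) := fun k s => by
    have h := exists_next hG (b + 1 - k) (by lia) s
    rw [show b + 1 - (k : ℤ) - 1 = b + 1 - ((k + 1 : ℕ) : ℤ) by lia] at h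
    obtain ⟨s', φ, h₁, h₂⟩ := h
    exact ⟨s', φ, h₁, fun i hi => h₂ i (by lia)⟩
  choose nxt φ hφ hiso using step
  let S : ∀ k : ℕ, Approx G b (b + 1 - k) := fun k => Nat.rec s₀.some (fun k s => nxt k s) k
  let j : ∀ k, (S k).E ⟶ (S (k + 1)).E := fun k => φ k (S k)
  let D := Functor.ofSequence j
  let τ : Cocone D :=
    { pt := G
      ι := NatTrans.ofSequence (fun k => (S k).q) fun k => by
        simp only [D, Functor.ofSequence_map_homOfLE_succ, Functor.const_obj_map]
        exact (hφ k (S k)).trans (Category.comp_id _).symm }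
  let E := colimit D
  let q : E ⟶ G := colimit.desc D τ
  have hcoli : ∀ (i : ℤ) (k : ℕ), b + 1 - k ≤ i → IsIso ((colimit.ι D k).f i) := fun i k hk => by
    have hev : (D ⋙ HomologicalComplex.eval _ _ i).IsEventuallyConstantFrom k := by
      intro l f
      obtain ⟨d, rfl⟩ := Nat.exists_eq_add_of_le (leOfHom f)
      obtain rfl : f = homOfLE (Nat.le_add_right k d) := Subsingleton.elim _ _
      induction d with
      | zero => exact inferInstanceAs (IsIso ((D ⋙ _).map (𝟙 k)))
      | succ d ih =>
        rw [show homOfLE (Nat.le_add_right k (d + 1)) =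
          homOfLE (Nat.le_add_right k d) ≫ homOfLE (Nat.le_succ (k + d)) from rfl, Functor.map_comp]
        haveI := ih
        haveI : IsIso ((D ⋙ HomologicalComplex.eval _ _ i).map (homOfLE (Nat.le_succ (k + d)))) := by
          simp only [Functor.comp_map, D, Functor.ofSequence_map_homOfLE_succ]
          exact hiso _ _ i (by lia)
        infer_instance
    exact hev.isIso_ι_of_isColimit (isColimitOfPreserves _ (colimit.isColimit D))
  haveI : QuasiIso q := by
    rw [quasiIso_iff]
    intro i
    let k := (b + 1 - (i - 2)).toNat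
    rw [quasiIsoAt_iff_isIso_homologyMap]
    haveI := isIso_homologyMap_of_isIso_f (colimit.ι D k) i fun l hl _ => hcoli l k (by lia)
    have hq : HomologicalComplex.homologyMap (colimit.ι D k) i ≫ HomologicalComplex.homologyMap q i =
        HomologicalComplex.homologyMap (τ.ι.app k) i := by
      exact (HomologicalComplex.homologyMap_comp _ _ i).symm.trans
        (congrArg (fun t => HomologicalComplex.homologyMap t i) (colimit.ι_desc τ k))
    haveI : IsIso (HomologicalComplex.homologyMap (τ.ι.app k) i) :=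
      (NatIso.isIso_map_iff (homologyFunctorFactors (ModuleCat.{u} A) i) (S k).q).1
        ((S k).miso.1 i (by lia))
    exact IsIso.of_isIso_fac_left hq
  refine ⟨E, b, fun i hi => ?_, fun i => ?_, ⟨asIso (DerivedCategory.Q.map q) ≪≫ eG⟩⟩
  · haveI := hcoli i 0 (by lia)
    exact ((S 0).vanish i (Or.inr hi)).of_iso (asIso ((colimit.ι D 0).f i)).symm
  · let k := (b + 1 - i).toNat
    haveI := hcoli i k (by lia)
    haveI : Module.Finite A ((D.obj k).X i) := ((S k).free i).1
    haveI : Module.Free A ((D.obj k).X i) := ((S k).free i).2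
    let e := (asIso ((colimit.ι D k).f i)).toLinearEquiv
    exact ⟨Module.Finite.equiv e, Module.Free.of_equiv e⟩

/-- pseudo-coherence in every degree from a bounded above finite projective representative -/
theorem pc_of_pc' {K : Dual.D A} (hK : DRing.IsPseudoCoherent' A K) (m : ℤ) :
    DRing.IsPseudoCoherent A m K := by
  obtain ⟨E, b, hb, hE, ⟨e⟩⟩ := hK
  exact pc_iff.2 ⟨σGE E m, m, b, DerivedCategory.Q.map (σι E m) ≫ e.hom, σGE_vanishesOutside E m b hb,
    σGE_finiteFree E m hE, mIso_comp (mIso_σι E m) (mIso_of_isIso m e.hom)⟩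

theorem pc'_iff {K : Dual.D A} : DRing.IsPseudoCoherent' A K ↔ ∀ m, DRing.IsPseudoCoherent A m K :=
  ⟨pc_of_pc', pc'_of_forall⟩

end Groth.Agent.DRingKP
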