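import Groth.Agent.DRingKP.TorMore

/-!
Splitting triangles by projective amplitude.
-/

set_option autoImplicit false
set_option linter.style.haveILetI false
universe u

namespace Groth.Agent.DRingKP

open CategoryTheory Limits Pretriangulated DerivedCategory

attribute [local instance] HasDerivedCategory.standard

variable {A : Type u} [CommRing A]

theorem exists_split {a b : ℤ} {P : DRing.Cx A} (hP : DRing.VanishesOutside P a b)
    (hPp : ∀ i, Module.Projective A (P.X i)) (T : Triangle (Dual.D A)) (hT : T ∈ distTriang (Dual.D A))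
    (e : DRing.toD P ≅ T.obj₃) (hK : IsAbove (a + 1) T.obj₁) [HasBinaryBiproduct T.obj₁ T.obj₃] :
    ∃ ε : T.obj₂ ≅ T.obj₁ ⊞ T.obj₃, T.mor₁ ≫ ε.hom = biprod.inl ∧ ε.hom ≫ biprod.snd = T.mor₂ := by
  haveI := subsingleton_hom hP hPp e (K := T.obj₁⟦(1 : ℤ)⟧) (by simpa using isAbove_shift hK 1)
  obtain ⟨ε, h1, h2⟩ := exists_iso_binaryBiproduct_of_distTriang T hT (Subsingleton.elim _ _)
  exact ⟨ε, h1, h2.symm⟩

end Groth.Agent.DRingKP
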