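import Groth.Agent.DRingKP.Modules
import Mathlib.Algebra.Homology.SingleHomology

/-!
Morphisms from an object of `D(A)` to a shifted module through the opcycles of a representative.
-/

set_option autoImplicit false
set_option linter.style.haveILetI false
universe u

namespace Groth.Agent.DRingKP

open CategoryTheory Limits DerivedCategory Pretriangulated ZeroObject HomologicalComplex

attribute [local instance] HasDerivedCategory.standard

variable {A : Type u} [CommRing A]

/-- A map `opcycles_i C → M` gives a map `C → M[-i]` in `D(A)` which induces `homologyι ≫ h` on `H^i`. -/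
theorem exists_hom_to_shift (C : DRing.Cx A) {K : Dual.D A} (e : DRing.toD C ≅ K) (i : ℤ)
    (M : ModuleCat.{u} A) (h : C.opcycles i ⟶ M) :
    ∃ (f : K ⟶ ((DerivedCategory.singleFunctor (ModuleCat.{u} A) 0).obj M)⟦-i⟧)
      (a : C.homology i ≅ (DerivedCategory.homologyFunctor (ModuleCat.{u} A) i).obj K)
      (c : M ≅ (DerivedCategory.homologyFunctor (ModuleCat.{u} A) i).obj
        (((DerivedCategory.singleFunctor (ModuleCat.{u} A) 0).obj M)⟦-i⟧)),
      (DerivedCategory.homologyFunctor (ModuleCat.{u} A) i).map f = a.inv ≫ C.homologyι i ≫ h ≫ c.hom := by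
  let g : C ⟶ (HomologicalComplex.single (ModuleCat.{u} A) (ComplexShape.up ℤ) i).obj M :=
    HomologicalComplex.mkHomToSingle (C.pOpcycles i ≫ h) (fun j _ => by
      rw [HomologicalComplex.d_pOpcycles_assoc, zero_comp])
  have hg : HomologicalComplex.homologyMap g i ≫ (singleObjHomologySelfIso _ i M).hom = C.homologyι i ≫ h := by
    rw [← homologyι_singleObjOpcyclesSelfIso_inv, HomologicalComplex.homologyι_naturality_assoc]
    congr 1
    rw [← cancel_epi (C.pOpcycles i), HomologicalComplex.p_opcyclesMap_assoc,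
      pOpcycles_singleObjOpcyclesSelfIso_inv]
    simp [g]
  let F := DerivedCategory.homologyFunctor (ModuleCat.{u} A) i
  let eS : DerivedCategory.Q.obj ((HomologicalComplex.single (ModuleCat.{u} A) (ComplexShape.up ℤ) i).obj M) ≅
      ((DerivedCategory.singleFunctor (ModuleCat.{u} A) 0).obj M)⟦-i⟧ :=
    ((DerivedCategory.singleFunctorIsoCompQ (ModuleCat.{u} A) i).app M).symm ≪≫ (singleShiftIso M i).symm
  let φ := DerivedCategory.homologyFunctorFactors (ModuleCat.{u} A) i
  refine ⟨e.inv ≫ DerivedCategory.Q.map g ≫ eS.hom, (φ.app C).symm ≪≫ F.mapIso e,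
    (singleObjHomologySelfIso _ i M).symm ≪≫ (φ.app _).symm ≪≫ F.mapIso eS, ?_⟩
  rw [← reassoc_of% hg]
  rw [F.map_comp, F.map_comp]
  erw [← CategoryTheory.NatIso.naturality_2 φ g]
  simp only [Iso.trans_inv, Iso.trans_hom, Iso.symm_hom, Iso.symm_inv, Functor.mapIso_inv, Functor.mapIso_hom,
    Iso.app_hom, Iso.app_inv, Category.assoc]
  simp
  rfl

end Groth.Agent.DRingKP
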