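import Groth.Agent.DRingKP.Nilp
import Groth.Agent.DRingKP.Coherent
import Mathlib.Algebra.Homology.DerivedCategory.FullyFaithful
import Mathlib.Algebra.Homology.DerivedCategory.Linear

/-!
Two term objects of `D(R)`.
-/

set_option autoImplicit false
set_option linter.style.haveILetI false
universe u

namespace Groth.Agent.DRingKP

open CategoryTheory Limits Pretriangulated DerivedCategory CochainComplex CochainComplex.HomComplex

attribute [local instance] HasDerivedCategory.standard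

variable {R : Type u} [CommRing R]

local notation "qq" => HomotopyCategory.quotient (ModuleCat _) (ComplexShape.up ℤ)

/-- acyclic complexes ending in a projective map trivially to complexes starting in degree `-1` -/
theorem homotopy_zero_of_acyclic {C K : DRing.Cx R} (hC : C.Acyclic) (hb : DRing.VanishesAbove C 1)
    (hC1 : Projective (C.X 1)) (hK : ∀ i : ℤ, i ≤ -2 → IsZero (K.X i)) (f : C ⟶ K) :
    Nonempty (Homotopy f 0) := by
  haveI := hC1
  have hex : ∀ i j k : ℤ, i + 1 = j → j + 1 = k →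
      LinearMap.range (C.d i j).hom = LinearMap.ker (C.d j k).hom := fun i j k hij hjk =>
    (ShortComplex.moduleCat_exact_iff_range_eq_ker _).1
      ((C.exactAt_iff' i j k (by simp; lia) (by simp; lia)).1 (hC j))
  have hsurj : Function.Surjective (C.d 0 1).hom := fun y => by
    have := hex 0 1 2 rfl rfl
    have hy : y ∈ LinearMap.ker (C.d 1 2).hom := by
      rw [(hb 2 (by lia)).eq_of_tgt (C.d 1 2) 0]; rfl
    rw [← this] at hy
    exact hy
  haveI := (ModuleCat.epi_iff_surjective (C.d 0 1)).2 hsurj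
  let s : C.X 1 ⟶ C.X 0 := Projective.factorThru (𝟙 _) (C.d 0 1)
  have hs : ∀ y, (C.d 0 1).hom (s.hom y) = y := fun y =>
    LinearMap.congr_fun (congrArg ModuleCat.Hom.hom (Projective.factorThru_comp (𝟙 _) (C.d 0 1))) y
  let Z := LinearMap.ker (C.d 0 1).hom
  let p : C.X (-1) →ₗ[R] Z := (C.d (-1) 0).hom.codRestrict Z fun x =>
    LinearMap.congr_fun (congrArg ModuleCat.Hom.hom (C.d_comp_d (-1) 0 1)) x
  have hp : Function.Surjective p := fun ⟨z, hz⟩ => by
    have hz' : z ∈ LinearMap.range (C.d (-1) 0).hom := by rw [hex (-1) 0 1 rfl rfl]; exact hz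
    obtain ⟨x, hx⟩ := hz'
    exact ⟨x, Subtype.ext hx⟩
  have hker : LinearMap.ker p ≤ LinearMap.ker (f.f (-1)).hom := fun x hx => by
    have hx' : x ∈ LinearMap.range (C.d (-2) (-1)).hom := by
      rw [hex (-2) (-1) 0 (by lia) (by lia)]
      exact congrArg Subtype.val hx
    obtain ⟨w, rfl⟩ := hx'
    have hc := LinearMap.congr_fun (congrArg ModuleCat.Hom.hom (f.comm (-2) (-1))) w
    rw [(hK (-2) le_rfl).eq_of_tgt (f.f (-2)) 0] at hc
    simp only [ModuleCat.hom_comp, LinearMap.comp_apply, ModuleCat.hom_zero, LinearMap.zero_apply,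
      map_zero] at hc
    exact hc.symm
  let g : Z →ₗ[R] K.X (-1) :=
    (LinearMap.ker p).liftQ (f.f (-1)).hom hker ∘ₗ (p.quotKerEquivOfSurjective hp).symm.toLinearMap
  have hg : ∀ x, g (p x) = (f.f (-1)).hom x := fun x => by
    have : (p.quotKerEquivOfSurjective hp).symm (p x) = Submodule.Quotient.mk x :=
      (LinearEquiv.symm_apply_eq _).2 rfl
    simp only [g, LinearMap.comp_apply, LinearEquiv.coe_coe, this, Submodule.liftQ_apply]
  let π : C.X 0 →ₗ[R] Z := (LinearMap.id - s.hom ∘ₗ (C.d 0 1).hom).codRestrict Z fun x => by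
    change (C.d 0 1).hom (x - s.hom ((C.d 0 1).hom x)) = 0
    rw [map_sub, hs, sub_self]
  have hπ : ∀ x, π ((C.d (-1) 0).hom x) = p x := fun x => by
    refine Subtype.ext ?_
    change (C.d (-1) 0).hom x - s.hom ((C.d 0 1).hom ((C.d (-1) 0).hom x)) = _
    rw [show (C.d 0 1).hom ((C.d (-1) 0).hom x) = 0 from (p x).2, map_zero, sub_zero]
    rfl
  have hfg : ∀ z : Z, (f.f 0).hom z.1 = (K.d (-1) 0).hom (g z) := fun z => by
    obtain ⟨x, rfl⟩ := hp z
    rw [hg]
    exact (LinearMap.congr_fun (congrArg ModuleCat.Hom.hom (f.comm (-1) 0)) x).symm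
  let h0 : C.X 0 ⟶ K.X (-1) := ModuleCat.ofHom (g ∘ₗ π)
  let h1 : C.X 1 ⟶ K.X 0 := s ≫ (f.f 0 - h0 ≫ K.d (-1) 0)
  have hh0 : C.d (-1) 0 ≫ h0 = f.f (-1) := ModuleCat.hom_ext (LinearMap.ext fun x => by
    change g (π ((C.d (-1) 0).hom x)) = _
    rw [hπ, hg])
  have hh1 : C.d 0 1 ≫ h1 + h0 ≫ K.d (-1) 0 = f.f 0 := ModuleCat.hom_ext (LinearMap.ext fun x => by
    have h2 : (f.f 0).hom (x - s.hom ((C.d 0 1).hom x)) = (K.d (-1) 0).hom (g (π x)) := hfg (π x)
    change ((f.f 0).hom (s.hom ((C.d 0 1).hom x)) -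
      (K.d (-1) 0).hom (g (π (s.hom ((C.d 0 1).hom x))))) + (K.d (-1) 0).hom (g (π x)) = (f.f 0).hom x
    have h3 : π (s.hom ((C.d 0 1).hom x)) = 0 := Subtype.ext (by
      change s.hom ((C.d 0 1).hom x) - s.hom ((C.d 0 1).hom (s.hom ((C.d 0 1).hom x))) = 0
      rw [hs, sub_self])
    rw [h3, map_zero, map_zero, sub_zero, ← h2, map_sub, add_sub_cancel])
  have hh2 : h1 ≫ K.d 0 1 = f.f 1 := ModuleCat.hom_ext (LinearMap.ext fun y => by
    have hc := LinearMap.congr_fun (congrArg ModuleCat.Hom.hom (f.comm 0 1)) (s.hom y)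
    change (K.d 0 1).hom ((f.f 0).hom (s.hom y) - (K.d (-1) 0).hom (g (π (s.hom y)))) = _
    rw [map_sub, show (K.d 0 1).hom ((K.d (-1) 0).hom (g (π (s.hom y)))) = 0 from
      LinearMap.congr_fun (congrArg ModuleCat.Hom.hom (K.d_comp_d (-1) 0 1)) _, sub_zero]
    exact hc.trans (congrArg (f.f 1).hom (hs y)))
  let z : Cochain C K (-1) := Cochain.mk fun p q hpq =>
    if hp : p = 0 then eqToHom (by rw [hp]) ≫ h0 ≫ eqToHom (congrArg K.X (show (-1 : ℤ) = q by lia))
    else if hp' : p = 1 then eqToHom (by rw [hp']) ≫ h1 ≫ eqToHom (congrArg K.X (show (0 : ℤ) = q by lia))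
    else 0
  have hz0 : z.v 0 (-1) (by lia) = h0 := by simp [z]
  have hz1 : z.v 1 0 (by lia) = h1 := by simp [z]
  refine ⟨(Cochain.equivHomotopy f 0).symm ⟨z, ?_⟩⟩
  rw [Cochain.ofHom_zero, add_zero]
  ext p
  rw [δ_v (-1) 0 (neg_add_cancel 1) z p p (add_zero p) (p - 1) (p + 1) rfl rfl, Cochain.ofHom_v]
  by_cases hp1 : p = 1
  · subst hp1
    have hl : z.v (1 + 1) 1 (by lia) = 0 := (hb 2 (by lia)).eq_of_src _ _
    rw [hl, comp_zero, smul_zero, add_zero, show z.v 1 (1 - 1) (by lia) = h1 from hz1]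
    exact LinearMap.congr_fun (congrArg ModuleCat.Hom.hom hh2.symm) _
  by_cases hp0 : p = 0
  · subst hp0
    rw [show z.v (0 + 1) 0 (by lia) = h1 from hz1, show z.v 0 (0 - 1) (by lia) = h0 from hz0,
      Int.negOnePow_zero, one_smul, add_comm]
    exact LinearMap.congr_fun (congrArg ModuleCat.Hom.hom hh1.symm) _
  by_cases hp : p = -1
  · subst hp
    have hl : z.v (-1) (-1 - 1) (by lia) = 0 := (hK _ (by lia)).eq_of_tgt _ _
    rw [hl, zero_comp, zero_add, show z.v (-1 + 1) (-1) (by lia) = h0 from hz0, Int.negOnePow_zero, one_smul]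
    exact LinearMap.congr_fun (congrArg ModuleCat.Hom.hom hh0.symm) _
  by_cases hpl : p ≤ -2
  · exact LinearMap.congr_fun (congrArg ModuleCat.Hom.hom ((hK p hpl).eq_of_tgt _ _)) _
  · exact LinearMap.congr_fun (congrArg ModuleCat.Hom.hom ((hb p (by lia)).eq_of_src _ _)) _

/-- maps to complexes starting in degree `-1` are homotopy classes -/
theorem bijective_Qh_of_projective_top {M K : DRing.Cx R} (hM : DRing.VanishesAbove M 0)
    (hM0 : Projective (M.X 0)) (hK : ∀ i : ℤ, i ≤ -2 → IsZero (K.X i)) :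
    Function.Bijective (DerivedCategory.Qh.map : ((qq).obj M ⟶ (qq).obj K) → _) := by
  haveI := hM0
  haveI : M.IsStrictlyLE 0 := (CochainComplex.isStrictlyLE_iff M 0).2 hM
  obtain ⟨P, hPb, hP, ⟨e⟩⟩ := exists_proj_rep_top (DRing.toD M) 0
    fun i hi => DerivedCategory.isZero_of_isLE _ 0 i (by lia)
  haveI := isKProjective_of_vanishesAbove hPb hP
  obtain ⟨g, hg⟩ := PerfLocal.exists_lift e.hom
  haveI : QuasiIso g := (DerivedCategory.isIso_Q_map_iff_quasiIso _ g).1 (by rw [hg]; infer_instance)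
  haveI : IsIso (DerivedCategory.Qh.map ((qq).map g)) :=
    Localization.inverts DerivedCategory.Qh _ _ ((HomotopyCategory.quotient_map_mem_quasiIso_iff g).2 ‹_›)
  have hacy := KFlat.mappingCone_acyclic g
  let C := CochainComplex.mappingCone g
  have hC0 : DRing.VanishesAbove C 0 := fun i hi =>
    IsZero.of_iso (biprod_isZero_iff _ _ |>.2 ⟨hPb (i + 1) (by lia), hM i hi⟩)
      (HomologicalComplex.homotopyCofiber.XIsoBiprod g i (i + 1) rfl)
  have z1 : ∀ φ : (qq).obj C ⟶ (qq).obj K, φ = 0 := fun φ => by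
    obtain ⟨φ, rfl⟩ := (qq).map_surjective φ
    obtain ⟨h⟩ := homotopy_zero_of_acyclic hacy (fun i hi => hC0 i (by lia))
      ((hC0 1 (by lia)).projective) hK φ
    rw [HomotopyCategory.eq_of_homotopy _ _ h, Functor.map_zero]
  have z2 : ∀ φ : (qq).obj (C⟦(-1 : ℤ)⟧) ⟶ (qq).obj K, φ = 0 := fun φ => by
    obtain ⟨φ, rfl⟩ := (qq).map_surjective φ
    have e1 : C.X 0 ≅ M.X 0 := HomologicalComplex.homotopyCofiber.XIsoBiprod g 0 1 rfl ≪≫
      (haveI := (hPb 1 (by lia)); (isoZeroBiprod this).symm)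
    obtain ⟨h⟩ := homotopy_zero_of_acyclic (acyclic_shift hacy (-1))
      (fun i hi => (hC0 (i + -1) (by lia)).of_iso (CochainComplex.shiftFunctorObjXIso C (-1) i (i + -1) rfl))
      (Projective.of_iso ((CochainComplex.shiftFunctorObjXIso C (-1) 1 0 (by lia)) ≪≫ e1).symm inferInstance) hK φ
    rw [HomotopyCategory.eq_of_homotopy _ _ h, Functor.map_zero]
  have hT := HomotopyCategory.mappingCone_triangleh_distinguished g
  have hb := bijective_Qh_map (X := (qq).obj P) ‹P.IsKProjective› ((qq).obj K)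
  constructor
  · intro φ₁ φ₂ h
    have h0 : (qq).map g ≫ (φ₁ - φ₂) = 0 := by
      apply hb.1
      rw [Functor.map_comp, Functor.map_sub, h, sub_self, comp_zero, Functor.map_zero]
    obtain ⟨ψ, hψ⟩ := Triangle.yoneda_exact₂ _ hT _ h0
    rw [← sub_eq_zero, hψ, show ψ = 0 from z1 ψ]
    exact comp_zero
  · intro ψ
    obtain ⟨φ₀, hφ₀⟩ := hb.2 (DerivedCategory.Qh.map ((qq).map g) ≫ ψ)
    let e1 := ((qq).commShiftIso (-1 : ℤ)).app C
    have h0 : (mappingCone.triangleh g).invRotate.mor₁ ≫ φ₀ = 0 := by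
      exact (cancel_epi e1.hom).1 ((z2 _).trans comp_zero.symm)
    obtain ⟨φ, hφ⟩ := Triangle.yoneda_exact₂ _ (inv_rot_of_distTriang _ hT) φ₀ h0
    refine ⟨φ, ?_⟩
    have hφ' : φ₀ = (qq).map g ≫ φ := hφ
    rw [hφ', Functor.map_comp] at hφ₀
    exact (cancel_epi (DerivedCategory.Qh.map ((qq).map g))).1 hφ₀

/-- morphisms between pure objects -/
lemma eq_zero_of_pure {X Y : Dual.D R} (n : ℤ) [X.IsLE n] [X.IsGE n] [Y.IsLE n] [Y.IsGE n] (g : X ⟶ Y)
    (h : (DerivedCategory.homologyFunctor (ModuleCat.{u} R) n).map g = 0) : g = 0 := by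
  obtain ⟨M, ⟨eX⟩⟩ := DerivedCategory.exists_iso_singleFunctor_obj_of_isGE_of_isLE X n
  obtain ⟨N, ⟨eY⟩⟩ := DerivedCategory.exists_iso_singleFunctor_obj_of_isGE_of_isLE Y n
  obtain ⟨f, hf⟩ := (DerivedCategory.singleFunctor (ModuleCat.{u} R) n).map_surjective (eX.inv ≫ g ≫ eY.hom)
  have h1 : (DerivedCategory.homologyFunctor (ModuleCat.{u} R) n).map
      ((DerivedCategory.singleFunctor (ModuleCat.{u} R) n).map f) = 0 := by
    rw [hf, Functor.map_comp, Functor.map_comp, h, zero_comp, comp_zero]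
  have h2 : f = 0 := by
    have := (DerivedCategory.singleFunctorCompHomologyFunctorIso (ModuleCat.{u} R) n).hom.naturality f
    rw [Functor.comp_map, h1, zero_comp] at this
    exact ((cancel_epi _).1 (this.symm.trans comp_zero.symm))
  rw [h2, Functor.map_zero] at hf
  rw [← cancel_epi eX.inv, ← cancel_mono eY.hom, Category.assoc, ← hf, comp_zero, zero_comp]

/-- morphisms into a pure object -/
lemma eq_zero_to_pure {X Y : Dual.D R} (n : ℤ) [X.IsLE n] [Y.IsLE n] [Y.IsGE n] (g : X ⟶ Y)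
    (h : (DerivedCategory.homologyFunctor (ModuleCat.{u} R) n).map g = 0) : g = 0 := by
  let t : Triangulated.TStructure (Dual.D R) := DerivedCategory.TStructure.t
  let T := (t.triangleLTGE n).obj X
  have hT : T ∈ distTriang (Dual.D R) := t.triangleLTGE_distinguished n X
  haveI hT1 : T.obj₁.IsLE (n - 1) := inferInstanceAs (t.IsLE ((t.truncLT n).obj X) (n - 1))
  haveI : T.obj₃.IsGE n := inferInstanceAs (t.IsGE ((t.truncGE n).obj X) n)
  obtain ⟨g', hg'⟩ := Triangle.yoneda_exact₂ T hT g (t.zero _ (n - 1) n (by lia))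
  haveI : T.obj₃.IsLE n := inferInstanceAs (t.IsLE ((t.truncGE n).obj X) n)
  haveI : Epi ((DerivedCategory.homologyFunctor (ModuleCat.{u} R) n).map T.mor₂) :=
    (HomologySequence.epi_homologyMap_mor₂_iff T hT n (n + 1) rfl).2
      ((DerivedCategory.isZero_of_isLE _ (n - 1) (n + 1) (by lia)).eq_of_tgt _ _)
  have h' : (DerivedCategory.homologyFunctor (ModuleCat.{u} R) n).map g' = 0 := by
    rw [← cancel_epi ((DerivedCategory.homologyFunctor (ModuleCat.{u} R) n).map T.mor₂), comp_zero]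
    exact ((DerivedCategory.homologyFunctor (ModuleCat.{u} R) n).map_comp _ _).symm.trans
      ((congrArg _ hg'.symm).trans h)
  rw [hg', eq_zero_of_pure n g' h', comp_zero]
  rfl

/-- morphisms out of a pure object -/
lemma eq_zero_from_pure {X Y : Dual.D R} (n : ℤ) [X.IsLE n] [X.IsGE n] [Y.IsGE n] (g : X ⟶ Y)
    (h : (DerivedCategory.homologyFunctor (ModuleCat.{u} R) n).map g = 0) : g = 0 := by
  let t : Triangulated.TStructure (Dual.D R) := DerivedCategory.TStructure.t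
  let T := (t.triangleLTGE (n + 1)).obj Y
  have hT : T ∈ distTriang (Dual.D R) := t.triangleLTGE_distinguished (n + 1) Y
  haveI : T.obj₁.IsLE n := inferInstanceAs (t.IsLE ((t.truncLT (n + 1)).obj Y) n)
  haveI : T.obj₁.IsGE n := inferInstanceAs (t.IsGE ((t.truncLT (n + 1)).obj Y) n)
  haveI hT3 : T.obj₃.IsGE (n + 1) := inferInstanceAs (t.IsGE ((t.truncGE (n + 1)).obj Y) (n + 1))
  obtain ⟨g', hg'⟩ := Triangle.coyoneda_exact₂ T hT g (t.zero _ n (n + 1) (by lia))
  haveI : Mono ((DerivedCategory.homologyFunctor (ModuleCat.{u} R) n).map T.mor₁) :=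
    (HomologySequence.mono_homologyMap_mor₁_iff T hT (n - 1) n (by lia)).2
      ((DerivedCategory.isZero_of_isGE _ (n + 1) (n - 1) (by lia)).eq_of_src _ _)
  have h' : (DerivedCategory.homologyFunctor (ModuleCat.{u} R) n).map g' = 0 := by
    rw [← cancel_mono ((DerivedCategory.homologyFunctor (ModuleCat.{u} R) n).map T.mor₁), zero_comp]
    exact ((DerivedCategory.homologyFunctor (ModuleCat.{u} R) n).map_comp _ _).symm.trans
      ((congrArg _ hg'.symm).trans h)
  rw [hg', eq_zero_of_pure n g' h', zero_comp]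
  rfl

lemma isLE_of_two {K : Dual.D R} (hK : ∀ i : ℤ, i ≠ -1 → i ≠ 0 → Subsingleton (Dual.HD R K i)) :
    K.IsLE 0 ∧ K.IsGE (-1) :=
  ⟨(DerivedCategory.isLE_iff K 0).2 fun i hi => @ModuleCat.isZero_of_subsingleton _ _
      ((DerivedCategory.homologyFunctor (ModuleCat.{u} R) i).obj K) (hK i (by lia) (by lia)),
    (DerivedCategory.isGE_iff K (-1)).2 fun i hi => @ModuleCat.isZero_of_subsingleton _ _
      ((DerivedCategory.homologyFunctor (ModuleCat.{u} R) i).obj K) (hK i (by lia) (by lia))⟩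

theorem comp_eq_zero {K₁ K₂ K₃ : Dual.D R} [K₁.IsLE 0] [K₂.IsLE 0] [K₂.IsGE (-1)] [K₃.IsGE (-1)]
    (φ : K₁ ⟶ K₂) (ψ : K₂ ⟶ K₃) (hφ : (DerivedCategory.homologyFunctor (ModuleCat.{u} R) 0).map φ = 0)
    (hψ : (DerivedCategory.homologyFunctor (ModuleCat.{u} R) (-1)).map ψ = 0) : φ ≫ ψ = 0 := by
  let t : Triangulated.TStructure (Dual.D R) := DerivedCategory.TStructure.t
  let T := (t.triangleLTGE 0).obj K₂
  have hT : T ∈ distTriang (Dual.D R) := t.triangleLTGE_distinguished 0 K₂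
  haveI : T.obj₁.IsLE (-1) := t.isLE_truncLT_obj K₂ 0 (-1) (by lia)
  haveI : T.obj₁.IsGE (-1) := inferInstanceAs (t.IsGE ((t.truncLT 0).obj K₂) (-1))
  haveI : T.obj₃.IsGE 0 := inferInstanceAs (t.IsGE ((t.truncGE 0).obj K₂) 0)
  haveI : T.obj₃.IsLE 0 := inferInstanceAs (t.IsLE ((t.truncGE 0).obj K₂) 0)
  obtain ⟨φ', hφ'⟩ := Triangle.coyoneda_exact₂ T hT φ (eq_zero_to_pure 0 _ (by
    exact ((DerivedCategory.homologyFunctor (ModuleCat.{u} R) 0).map_comp _ _).trans
      ((congrArg (· ≫ _) hφ).trans zero_comp)))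
  have h2 : T.mor₁ ≫ ψ = 0 := eq_zero_from_pure (-1) _ (by
    exact ((DerivedCategory.homologyFunctor (ModuleCat.{u} R) (-1)).map_comp _ _).trans
      ((congrArg (_ ≫ ·) hψ).trans comp_zero))
  exact (congrArg (· ≫ ψ) hφ').trans ((Category.assoc _ _ _).trans ((congrArg (φ' ≫ ·) h2).trans comp_zero))

/-- precomposition with such maps is injective -/
theorem comp_injective {K K' Y : Dual.D R} [K.IsLE 0] [K.IsGE (-1)] [K'.IsLE 0] [K'.IsGE (-1)] [Y.IsGE (-1)]
    (α : K ⟶ K') (h0 : IsIso ((DerivedCategory.homologyFunctor (ModuleCat.{u} R) 0).map α))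
    (h1 : Epi ((DerivedCategory.homologyFunctor (ModuleCat.{u} R) (-1)).map α)) (g : K' ⟶ Y)
    (hg : α ≫ g = 0) : g = 0 := by
  obtain ⟨C, p, r, hT⟩ := Pretriangulated.distinguished_cocone_triangle α
  have hm : MIso (-1) α := ⟨fun i hi => by
    obtain rfl | hi : i = 0 ∨ 0 < i := by lia
    · exact h0
    · exact ⟨0, (DerivedCategory.isZero_of_isLE K 0 i hi).eq_of_src _ _,
        (DerivedCategory.isZero_of_isLE K' 0 i hi).eq_of_src _ _⟩, h1⟩
  have hC := (mIso_iff (-1) _ hT).1 hm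
  haveI : C.IsLE (-2) := (DerivedCategory.isLE_iff C (-2)).2 fun i hi => hC i (by lia)
  obtain ⟨g', hg'⟩ := Triangle.yoneda_exact₂ _ hT g hg
  have h3 : g' = 0 := DerivedCategory.TStructure.t.zero_of_isLE_of_isGE g' (-2) (-1) (by lia) ‹C.IsLE (-2)› ‹Y.IsGE (-1)›
  rw [hg', h3, comp_zero]
  rfl

end Groth.Agent.DRingKP
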