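import Groth.Agent.DRingKP.TwoTerm

/-!
Representing two term objects, and their first extension groups.
-/

set_option autoImplicit false
set_option linter.style.haveILetI false
universe u

namespace Groth.Agent.DRingKP

open CategoryTheory Limits Pretriangulated DerivedCategory HomologicalComplex

attribute [local instance] HasDerivedCategory.standard

variable {R : Type u} [CommRing R]

/-- two term representatives from a free cover of `H⁰` -/
theorem exists_twoTerm_rep (K : Dual.D R) [K.IsLE 0] [K.IsGE (-1)] (F : ModuleCat.{u} R) [Projective F]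
    (p : F ⟶ (DerivedCategory.homologyFunctor (ModuleCat.{u} R) 0).obj K) [Epi p] :
    ∃ (E : DRing.Cx R) (M : ModuleCat.{u} R) (C : Dual.D R) (f : (DerivedCategory.singleFunctor (ModuleCat.{u} R) 0).obj F ⟶ K)
        (g : K ⟶ C) (h : C ⟶ ((DerivedCategory.singleFunctor (ModuleCat.{u} R) 0).obj F)⟦(1 : ℤ)⟧),
      DRing.VanishesOutside E (-1) 0 ∧ Nonempty (E.X 0 ≅ F) ∧ Nonempty (E.X (-1) ≅ M) ∧
      Nonempty (DRing.toD E ≅ K) ∧ Triangle.mk f g h ∈ distTriang (Dual.D R) ∧
      Nonempty (C ≅ (DerivedCategory.singleFunctor (ModuleCat.{u} R) (-1)).obj M) := by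
  let G : DRing.Cx R := DerivedCategory.Q.objPreimage K
  let eG : DRing.toD G ≅ K := DerivedCategory.Q.objObjPreimageIso K
  let HH₀ := DerivedCategory.homologyFunctor (ModuleCat.{u} R) 0
  let p' : F ⟶ G.homology 0 := p ≫ HH₀.map eG.inv ≫ ((homologyFunctorFactors (ModuleCat.{u} R) 0).app G).hom
  haveI : Epi p' := inferInstanceAs (Epi (_ ≫ _ ≫ _))
  let ε : F ⟶ G.cycles 0 := Projective.factorThru p' (G.homologyπ 0)
  let P : DRing.Cx R := (HomologicalComplex.single _ (ComplexShape.up ℤ) 0).obj F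
  let f₀ : P ⟶ G := HomologicalComplex.mkHomFromSingle (ε ≫ G.iCycles 0) fun k _ => by simp
  haveI hepi : Epi (HomologicalComplex.homologyMap f₀ 0) := by
    refine @epi_of_epi_fac _ _ _ _ _ (((HomologicalComplex.singleObjHomologySelfIso _ 0 F).inv)) _
      p' inferInstance ?_
    have hc : (HomologicalComplex.singleObjCyclesSelfIso (ComplexShape.up ℤ) 0 F).inv ≫
        HomologicalComplex.cyclesMap f₀ 0 = ε := by
      rw [← cancel_mono (G.iCycles 0)]
      simp [f₀, P, HomologicalComplex.mkHomFromSingle_f]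
    rw [← HomologicalComplex.singleObjCyclesSelfIso_inv_homologyπ, Category.assoc,
      HomologicalComplex.homologyπ_naturality, reassoc_of% hc]
    exact Projective.factorThru_comp _ _
  let eP := (DerivedCategory.singleFunctorIsoCompQ (ModuleCat.{u} R) 0).app F
  let f : (DerivedCategory.singleFunctor (ModuleCat.{u} R) 0).obj F ⟶ K :=
    eP.hom ≫ DerivedCategory.Q.map f₀ ≫ eG.hom
  have hepi' : Epi (HH₀.map f) := by
    haveI : Epi (HH₀.map (DerivedCategory.Q.map f₀)) :=
      (MorphismProperty.epimorphisms _).arrow_mk_iso_iff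
        (Arrow.isoMk ((homologyFunctorFactors _ _).app P) ((homologyFunctorFactors _ _).app G)
          ((homologyFunctorFactors _ _).hom.naturality f₀).symm) |>.2 hepi
    have : HH₀.map f = HH₀.map eP.hom ≫ HH₀.map (DerivedCategory.Q.map f₀) ≫ HH₀.map eG.hom := by
      simp [f]
    rw [this]
    exact epi_comp' inferInstance (epi_comp' ‹_› inferInstance)
  obtain ⟨C, g, h, hT⟩ := Pretriangulated.distinguished_cocone_triangle f
  have hC0 : IsAbove 0 C := (mIso_iff 0 _ hT).1 ⟨fun i hi =>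
    ⟨0, (DerivedCategory.isZero_of_isLE ((DerivedCategory.singleFunctor (ModuleCat.{u} R) 0).obj F) 0 i hi).eq_of_src _ _,
      (DerivedCategory.isZero_of_isLE K 0 i hi).eq_of_src _ _⟩, hepi'⟩
  haveI : C.IsLE (-1) := (DerivedCategory.isLE_iff C (-1)).2 fun i hi => hC0 i (by lia)
  haveI : C.IsGE (-1) := (DerivedCategory.isGE_iff C (-1)).2 fun i hi =>
    (HomologySequence.exact₃ _ hT i (i + 1) rfl).isZero_of_both_zeros
      ((DerivedCategory.isZero_of_isGE K (-1) i hi).eq_of_src _ _)
      ((DerivedCategory.isZero_of_isGE ((DerivedCategory.singleFunctor (ModuleCat.{u} R) 0).obj F) 0 (i + 1)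
        (by lia)).eq_of_tgt _ _)
  obtain ⟨M, ⟨eC⟩⟩ := DerivedCategory.exists_iso_singleFunctor_obj_of_isGE_of_isLE C (-1)
  let T' := (Triangle.mk f g h).invRotate
  let e1 : T'.obj₁ ≅ (DerivedCategory.singleFunctor (ModuleCat.{u} R) 0).obj M :=
    (shiftFunctor (Dual.D R) (-1 : ℤ)).mapIso eC ≪≫
      ((DerivedCategory.singleFunctors (ModuleCat.{u} R)).shiftIso (-1) 0 (-1) (by lia)).app M
  obtain ⟨v, hv⟩ := (DerivedCategory.singleFunctor (ModuleCat.{u} R) 0).map_surjective (e1.inv ≫ T'.mor₁)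
  let w := (HomologicalComplex.single (ModuleCat.{u} R) (ComplexShape.up ℤ) 0).map v
  let eM := (DerivedCategory.singleFunctorIsoCompQ (ModuleCat.{u} R) 0).app M
  let e := isoTriangleOfIso₁₂ _ _ (DerivedCategory.mappingCone_triangle_distinguished w)
    (inv_rot_of_distTriang _ hT) (eM.symm ≪≫ e1.symm) eP.symm (by
      change DerivedCategory.Q.map w ≫ eP.inv = (eM.inv ≫ e1.inv) ≫ T'.mor₁
      exact ((DerivedCategory.singleFunctorIsoCompQ (ModuleCat.{u} R) 0).inv.naturality v).trans
        ((congrArg (eM.inv ≫ ·) hv).trans (Category.assoc _ _ _).symm))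
  have hz : ∀ (N : ModuleCat.{u} R) (i : ℤ), i ≠ 0 →
      IsZero (((HomologicalComplex.single _ (ComplexShape.up ℤ) 0).obj N).X i) := fun N i hi =>
    HomologicalComplex.isZero_single_obj_X (ComplexShape.up ℤ) 0 N i hi
  refine ⟨CochainComplex.mappingCone w, M, C, f, g, h, fun i hi =>
      IsZero.of_iso (biprod_isZero_iff _ _ |>.2 ⟨hz M (i + 1) (by lia), hz F i (by lia)⟩)
        (HomologicalComplex.homotopyCofiber.XIsoBiprod w i (i + 1) rfl),
    ⟨HomologicalComplex.homotopyCofiber.XIsoBiprod w 0 1 rfl ≪≫ (isoZeroBiprod (hz M 1 (by lia))).symm ≪≫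
      HomologicalComplex.singleObjXSelf (ComplexShape.up ℤ) 0 F⟩,
    ⟨HomologicalComplex.homotopyCofiber.XIsoBiprod w (-1) 0 (by simp) ≪≫
      (isoBiprodZero (hz F (-1) (by lia))).symm ≪≫
      HomologicalComplex.singleObjXSelf (ComplexShape.up ℤ) 0 M⟩,
    ⟨Triangle.π₃.mapIso e⟩, hT, ⟨eC⟩⟩

theorem exists_twoTerm_free (K : Dual.D R) [K.IsLE 0] [K.IsGE (-1)] :
    ∃ E : DRing.Cx R, DRing.VanishesOutside E (-1) 0 ∧ Module.Free R (E.X 0) ∧ Nonempty (DRing.toD E ≅ K) := by
  let H := (DerivedCategory.homologyFunctor (ModuleCat.{u} R) 0).obj K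
  let F : ModuleCat.{u} R := ModuleCat.of R (H →₀ R)
  haveI : Projective F := (IsProjective.iff_projective (ModuleCat.of R (H →₀ R))).1 inferInstance
  let p : F ⟶ H := ModuleCat.ofHom (Finsupp.linearCombination R (id : H → H))
  haveI : Epi p := (ModuleCat.epi_iff_surjective _).2
    (Finsupp.linearCombination_surjective R Function.surjective_id)
  obtain ⟨E, M, C, f, g, h, hE, ⟨e0⟩, -, e, -⟩ := exists_twoTerm_rep K F p
  exact ⟨E, hE, Module.Free.of_equiv e0.toLinearEquiv.symm, e⟩

theorem exists_twoTerm_finite [IsNoetherianRing R] (K : Dual.D R) [K.IsLE 0] [K.IsGE (-1)]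
    (h1 : Module.Finite R ((DerivedCategory.homologyFunctor (ModuleCat.{u} R) (-1)).obj K))
    (h0 : Module.Finite R ((DerivedCategory.homologyFunctor (ModuleCat.{u} R) 0).obj K)) :
    ∃ E : DRing.Cx R, DRing.VanishesOutside E (-1) 0 ∧ Module.Free R (E.X 0) ∧ Module.Finite R (E.X 0) ∧
      Module.Finite R (E.X (-1)) ∧ Nonempty (DRing.toD E ≅ K) := by
  obtain ⟨r, p, hp⟩ := Module.Finite.exists_fin' R ((DerivedCategory.homologyFunctor (ModuleCat.{u} R) 0).obj K)
  let F : ModuleCat.{u} R := ModuleCat.of R (Fin r → R)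
  haveI : Projective F := (IsProjective.iff_projective (ModuleCat.of R (Fin r → R))).1 inferInstance
  haveI : Epi (ModuleCat.ofHom p) := (ModuleCat.epi_iff_surjective _).2 hp
  obtain ⟨E, M, C, f, g, h, hE, ⟨e0⟩, ⟨e1⟩, e, hT, ⟨eC⟩⟩ := exists_twoTerm_rep K F (ModuleCat.ofHom p)
  have hKfin : ∀ i, Module.FinitePresentation R ((DerivedCategory.homologyFunctor (ModuleCat.{u} R) i).obj K) := by
    intro i
    haveI : Module.Finite R ((DerivedCategory.homologyFunctor (ModuleCat.{u} R) i).obj K) := by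
      rcases lt_trichotomy i 0 with hi | rfl | hi
      · obtain rfl | hi : i = -1 ∨ i < -1 := by lia
        · exact h1
        · haveI := ModuleCat.subsingleton_of_isZero (DerivedCategory.isZero_of_isGE K (-1) i hi)
          infer_instance
      · exact h0
      · haveI := ModuleCat.subsingleton_of_isZero (DerivedCategory.isZero_of_isLE K 0 i hi)
        infer_instance
    exact Module.finitePresentation_of_finite R _
  have hK : DRing.IsPseudoCoherent' R K := (pc'_iff_coherent isCoh_of_noetherian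
    ⟨1, fun i hi => DerivedCategory.isZero_of_isLE K 0 i (by lia)⟩).2 hKfin
  have hF : DRing.IsPseudoCoherent' R ((DerivedCategory.singleFunctor (ModuleCat.{u} R) 0).obj F) :=
    pc'_of_forall fun m => pcModule_of_free F m
  have hC : DRing.IsPseudoCoherent' R C := pc'_of_forall fun m =>
    pc_obj₃ _ hT m (pc_of_pc' hF _) (pc_of_pc' hK _)
  obtain ⟨n, hn⟩ := pc_bounded (pc_of_pc' hC 0)
  haveI := (pc'_iff_coherent isCoh_of_noetherian ⟨n, hn⟩).1 hC (-1)
  haveI : Module.Finite R M := by
    haveI : Module.FinitePresentation R ((DerivedCategory.homologyFunctor (ModuleCat.{u} R) (-1)).obj C) := this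
    exact Module.Finite.equiv ((DerivedCategory.homologyFunctor (ModuleCat.{u} R) (-1)).mapIso eC ≪≫
      (DerivedCategory.singleFunctorCompHomologyFunctorIso (ModuleCat.{u} R) (-1)).app M).toLinearEquiv
  exact ⟨E, hE, Module.Free.of_equiv e0.toLinearEquiv.symm, Module.Finite.equiv e0.toLinearEquiv.symm,
    Module.Finite.equiv e1.toLinearEquiv.symm, e⟩

/-! ### `Hom(E, N[1])` -/

/-- `N[1]` as a complex -/
noncomputable def inDShiftIso (N : ModuleCat.{u} R) :
    ((DerivedCategory.singleFunctor (ModuleCat.{u} R) 0).obj N)⟦(1 : ℤ)⟧ ≅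
      DRing.toD ((HomologicalComplex.single (ModuleCat.{u} R) (ComplexShape.up ℤ) (-1)).obj N) :=
  ((DerivedCategory.singleFunctors (ModuleCat.{u} R)).shiftIso 1 (-1) 0 (by lia)).app N ≪≫
    (DerivedCategory.singleFunctorIsoCompQ (ModuleCat.{u} R) (-1)).app N

variable {E : DRing.Cx R} (N : ModuleCat.{u} R)

/-- the class of a cocycle -/
noncomputable def ext1 (h : E.X (-1) ⟶ N) (hh : E.d (-2) (-1) ≫ h = 0) :
    DRing.toD E ⟶ ((DerivedCategory.singleFunctor (ModuleCat.{u} R) 0).obj N)⟦(1 : ℤ)⟧ :=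
  DerivedCategory.Q.map (HomologicalComplex.mkHomToSingle h (fun i hi => by
    obtain rfl : i = -2 := by simp at hi; lia
    exact hh)) ≫ (inDShiftIso N).inv

lemma ext1_smul (a : R) (h : E.X (-1) ⟶ N) (hh : E.d (-2) (-1) ≫ h = 0) :
    a • ext1 N h hh = ext1 N (a • h) (by rw [Linear.comp_smul, hh, smul_zero]) := by
  unfold ext1
  rw [← Linear.smul_comp, ← Functor.map_smul]
  congr 2
  refine HomologicalComplex.to_single_hom_ext ?_
  simp [HomologicalComplex.mkHomToSingle_f]

lemma map_comp_ext1 {E' : DRing.Cx R} (a : E' ⟶ E) (h : E.X (-1) ⟶ N) (hh : E.d (-2) (-1) ≫ h = 0) :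
    DerivedCategory.Q.map a ≫ ext1 N h hh =
      ext1 N (a.f (-1) ≫ h) (by rw [← a.comm_assoc, hh, comp_zero]) := by
  unfold ext1
  rw [← Category.assoc, ← Functor.map_comp]
  congr 2
  refine HomologicalComplex.to_single_hom_ext ?_
  simp [HomologicalComplex.mkHomToSingle_f]

variable (hb : DRing.VanishesAbove E 0) (h0 : Projective (E.X 0))
include hb h0

lemma single_bij :
    Function.Bijective (DerivedCategory.Qh.map :
      ((HomotopyCategory.quotient _ (ComplexShape.up ℤ)).obj E ⟶ (HomotopyCategory.quotient _ _).obj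
        ((HomologicalComplex.single (ModuleCat.{u} R) (ComplexShape.up ℤ) (-1)).obj N)) → _) :=
  bijective_Qh_of_projective_top hb h0 fun i hi =>
    HomologicalComplex.isZero_single_obj_X (ComplexShape.up ℤ) (-1) N i (by lia)

theorem ext1_surjective (ξ : DRing.toD E ⟶ ((DerivedCategory.singleFunctor (ModuleCat.{u} R) 0).obj N)⟦(1 : ℤ)⟧) :
    ∃ (h : E.X (-1) ⟶ N) (hh : E.d (-2) (-1) ≫ h = 0), ext1 N h hh = ξ := by
  let K := (HomologicalComplex.single (ModuleCat.{u} R) (ComplexShape.up ℤ) (-1)).obj N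
  let eq := DerivedCategory.quotientCompQhIso (ModuleCat.{u} R)
  obtain ⟨φ, hφ⟩ := (single_bij N hb h0).2 (eq.hom.app E ≫ (ξ ≫ (inDShiftIso N).hom) ≫ eq.inv.app K)
  obtain ⟨φ, rfl⟩ := (HomotopyCategory.quotient _ _).map_surjective φ
  let h := φ.f (-1) ≫ (HomologicalComplex.singleObjXSelf (ComplexShape.up ℤ) (-1) N).hom
  have hh : E.d (-2) (-1) ≫ h = 0 := by
    rw [← φ.comm_assoc, (HomologicalComplex.isZero_single_obj_X (ComplexShape.up ℤ) (-1) N (-2)
      (by lia)).eq_of_src (K.d (-2) (-1)) 0, zero_comp, comp_zero]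
  refine ⟨h, hh, ?_⟩
  have hQ : DerivedCategory.Q.map φ = ξ ≫ (inDShiftIso N).hom := by
    have h1 := DerivedCategory.quotientCompQhIso_hom_naturality φ
    rw [hφ] at h1
    simp only [Category.assoc, Iso.inv_hom_id_app, eq] at h1
    erw [Category.comp_id] at h1
    exact ((cancel_epi _).1 h1).symm
  rw [ext1, Iso.comp_inv_eq, ← hQ]
  congr 1
  refine HomologicalComplex.to_single_hom_ext ?_
  simp [h, HomologicalComplex.mkHomToSingle_f]

theorem ext1_eq_zero_iff (h : E.X (-1) ⟶ N) (hh : E.d (-2) (-1) ≫ h = 0) :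
    ext1 N h hh = 0 ↔ ∃ g : E.X 0 ⟶ N, E.d (-1) 0 ≫ g = h := by
  let K := (HomologicalComplex.single (ModuleCat.{u} R) (ComplexShape.up ℤ) (-1)).obj N
  let eK := HomologicalComplex.singleObjXSelf (ComplexShape.up ℤ) (-1) N
  let φ : E ⟶ K := HomologicalComplex.mkHomToSingle h (fun i hi => by
    obtain rfl : i = -2 := by simp at hi; lia
    exact hh)
  have hφ : φ.f (-1) ≫ eK.hom = h := by simp [φ, eK, HomologicalComplex.mkHomToSingle_f]
  constructor
  · intro hz
    have h1 : DerivedCategory.Q.map φ = 0 := by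
      rw [ext1, Iso.comp_inv_eq, zero_comp] at hz
      exact hz
    have h2 : (HomotopyCategory.quotient _ _).map φ = 0 := by
      apply (single_bij N hb h0).1
      rw [Functor.map_zero]
      have := DerivedCategory.quotientCompQhIso_hom_naturality φ
      rw [h1, comp_zero] at this
      exact (cancel_mono _).1 (this.trans zero_comp.symm)
    obtain ⟨H⟩ : Nonempty (Homotopy φ 0) :=
      ⟨HomotopyCategory.homotopyOfEq _ _ (h2.trans (Functor.map_zero _ _ _).symm)⟩
    refine ⟨H.hom 0 (-1) ≫ eK.hom, ?_⟩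
    have := H.comm (-1)
    rw [dNext_eq H.hom (show (ComplexShape.up ℤ).Rel (-1) 0 by simp),
      prevD_eq H.hom (show (ComplexShape.up ℤ).Rel (-2) (-1) by simp),
      (HomologicalComplex.isZero_single_obj_X (ComplexShape.up ℤ) (-1) N (-2) (by lia)).eq_of_tgt
        (H.hom (-1) (-2)) 0, zero_comp, add_zero, HomologicalComplex.zero_f_apply, add_zero] at this
    rw [← hφ, this, Category.assoc]
  · rintro ⟨g, hg⟩
    have hnull : Nonempty (Homotopy φ 0) := by
      let hom : ∀ i j, (ComplexShape.up ℤ).Rel j i → (E.X i ⟶ K.X j) := fun i j _ =>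
        if hi : i = 0 then
          if hj : j = -1 then eqToHom (by rw [hi]) ≫ g ≫ eK.inv ≫ eqToHom (congrArg K.X hj.symm) else 0
        else 0
      have hn : φ = Homotopy.nullHomotopicMap' hom := by
        refine HomologicalComplex.to_single_hom_ext ?_
        rw [Homotopy.nullHomotopicMap'_f (show (ComplexShape.up ℤ).Rel (-2) (-1) by simp)
          (show (ComplexShape.up ℤ).Rel (-1) 0 by simp), (HomologicalComplex.isZero_single_obj_X
            (ComplexShape.up ℤ) (-1) N (-2) (by lia)).eq_of_tgt (hom (-1) (-2) (by simp)) 0, zero_comp, add_zero]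
        simp only [hom, dite_true, eqToHom_refl, Category.id_comp, Category.comp_id]
        rw [reassoc_of% hg, Iso.eq_comp_inv]
        exact hφ
      exact ⟨(Homotopy.ofEq hn).trans (Homotopy.nullHomotopy' hom)⟩
    obtain ⟨H⟩ := hnull
    have : DerivedCategory.Q.map φ = 0 := by
      have h3 := DerivedCategory.quotientCompQhIso_hom_naturality φ
      rw [HomotopyCategory.eq_of_homotopy _ _ H, Functor.map_zero, Functor.map_zero, zero_comp] at h3
      exact (cancel_epi _).1 (h3.symm.trans comp_zero.symm)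
    change DerivedCategory.Q.map φ ≫ _ = 0
    rw [this, zero_comp]

end Groth.Agent.DRingKP
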